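import Cfsg.Agent.H3.AutFixSylow

/-!
`Out G` is solvable for a non-abelian simple group with `Aut S` solvable, `S` a Sylow 2-subgroup,
given the odd order theorem.
-/

set_option autoImplicit false

namespace H3

namespace AutFixSylow

open Subgroup

universe u

variable {G : Type u} [Group G] [Finite G] [IsSimpleGroup G]

theorem simple_center_eq_bot (hG : ¬ IsMulCommutative G) : Subgroup.center G = ⊥ :=
  ((inferInstance : (Subgroup.center G).Normal).eq_bot_or_eq_top).resolve_right fun h =>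
    hG ⟨⟨fun a b => (Subgroup.mem_center_iff.1 (h ▸ mem_top b : b ∈ Subgroup.center G) a)⟩⟩

theorem simple_oddCore_eq_bot (S : Sylow 2 G) (hS1 : (S : Subgroup G) ≠ ⊥) :
    Cfsg.pPrimeCore 2 G = ⊥ := by
  haveI : Fact (Nat.Prime 2) := ⟨Nat.prime_two⟩
  haveI := H1.pPrimeCore_normal' 2 G
  refine ((inferInstance : (Cfsg.pPrimeCore 2 G).Normal).eq_bot_or_eq_top).resolve_right fun h => ?_
  apply Cfsg.Comp.not_dvd_card_pPrimeCore (G := G) 2
  rw [h, Subgroup.card_top]
  refine dvd_trans ?_ (card_subgroup_dvd_card (S : Subgroup G))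
  haveI := Subgroup.nontrivial_iff_ne_bot (S : Subgroup G) |>.2 hS1
  obtain ⟨n, hn, hc⟩ := S.isPGroup'.nontrivial_iff_card.1 this
  rw [hc]
  exact dvd_pow_self 2 hn.ne'

/-- `Out G` is solvable when `Aut S` is solvable. -/
theorem out_solvable_of_aut_sylow (hFT : OddOrderSolvable.{u}) (hG : ¬ IsMulCommutative G)
    (S : Sylow 2 G) (hS1 : (S : Subgroup G) ≠ ⊥) (hS : Group.IsSolvable (MulAut ↥S)) :
    Group.IsSolvable (Cfsg.Out G) := by
  haveI := hS
  exact out_solvable hFT (simple_oddCore_eq_bot S hS1) (simple_center_eq_bot hG) S inferInstance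

end AutFixSylow

end H3
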