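import Cfsg.Agent.H3.MinNormal
import Cfsg.Agent.H3.SsTower
import Mathlib.GroupTheory.GroupAction.Primitive
import Mathlib.GroupTheory.Sylow

/-!
Core-free maximal subgroups and solvable primitive groups.
-/

set_option autoImplicit false

namespace H3

open Subgroup
open scoped Pointwise

universe u

variable {G : Type u} [Group G]

theorem corefree_centralizer [Finite G] (U : Subgroup G) (hU : IsCoatom U)
    (hcore : U.normalCore = ⊥) (N : Subgroup G) [N.Normal] (hN : N ≠ ⊥) :
    centralizer (N : Set G) ⊓ U = ⊥ ∧ (centralizer (N : Set G) = ⊥ ∨ (centralizer (N : Set G) ≠ ⊥ ∧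
      ∀ K : Subgroup G, K.Normal → K ≤ centralizer (N : Set G) →
        K = ⊥ ∨ K = centralizer (N : Set G))) := by
  set C := centralizer (N : Set G) with hC
  have hnot : ∀ K : Subgroup G, K.Normal → K ≠ ⊥ → K ⊔ U = ⊤ := by
    intro K hK hne
    haveI := hK
    refine hU.2 _ (lt_of_le_of_ne le_sup_right fun h => hne ?_)
    have hle : K ≤ U := h ▸ le_sup_left
    exact eq_bot_iff.mpr (hcore ▸ Subgroup.normal_le_normalCore.mpr hle)
  have h1 : C ⊓ U = ⊥ := by
    have hn : (C ⊓ U).Normal := by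
      rw [← normalizer_eq_top_iff, eq_top_iff, ← hnot N inferInstance hN, sup_le_iff]
      constructor
      · refine le_trans ?_ (Subgroup.centralizer_le_normalizer _)
        intro n hn
        rw [Subgroup.mem_centralizer_iff]
        intro c hc
        exact (Subgroup.mem_centralizer_iff.mp hc.1 n hn).symm
      · intro u hu
        rw [Subgroup.mem_normalizer_iff]
        intro x
        constructor
        · rintro ⟨hxC, hxU⟩
          exact ⟨(inferInstance : C.Normal).conj_mem x hxC u, U.mul_mem (U.mul_mem hu hxU) (U.inv_mem hu)⟩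
        · rintro ⟨hxC, hxU⟩
          refine ⟨?_, ?_⟩
          · simpa [mul_assoc] using (inferInstance : C.Normal).conj_mem _ hxC u⁻¹
          · simpa [mul_assoc] using U.mul_mem (U.mul_mem (U.inv_mem hu) hxU) hu
    exact eq_bot_iff.mpr (hcore ▸ Subgroup.normal_le_normalCore.mpr (inf_le_right : C ⊓ U ≤ U))
  refine ⟨h1, (em (C = ⊥)).imp id fun hne => ⟨hne, fun K hK hKC => ?_⟩⟩
  by_cases hK0 : K = ⊥
  · exact Or.inl hK0
  refine Or.inr (le_antisymm hKC fun c hc => ?_)
  haveI := hK
  obtain ⟨k, hk, u, hu, rfl⟩ := Subgroup.mem_sup_of_normal_left.mp ((hnot K hK hK0).symm ▸ mem_top c)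
  have hu' : u ∈ C ⊓ U := ⟨(Subgroup.mul_mem_cancel_left C (hKC hk)).mp hc, hu⟩
  rw [h1, Subgroup.mem_bot] at hu'
  rw [hu', mul_one]
  exact hk

theorem corefree_two_minimal [Finite G] (U : Subgroup G) (hU : IsCoatom U)
    (hcore : U.normalCore = ⊥) (A B : Subgroup G) [A.Normal] [B.Normal] (hA : A ≠ ⊥) (hB : B ≠ ⊥)
    (hAmin : ∀ K : Subgroup G, K.Normal → K ≤ A → K = ⊥ ∨ K = A)
    (hBmin : ∀ K : Subgroup G, K.Normal → K ≤ B → K = ⊥ ∨ K = B) (hAB : A ≠ B) :
    centralizer (B : Set G) = A ∧ centralizer (A : Set G) = B ∧ IsComplement' A U ∧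
      IsComplement' B U ∧ ¬ IsMulCommutative A ∧ Nonempty (A ≃* B) ∧
      Nonempty (A ≃* ↥((A ⊔ B) ⊓ U)) := by
  have key : ∀ A B : Subgroup G, A.Normal → B.Normal → A ≠ ⊥ → B ≠ ⊥ →
      (∀ K : Subgroup G, K.Normal → K ≤ A → K = ⊥ ∨ K = A) →
      (∀ K : Subgroup G, K.Normal → K ≤ B → K = ⊥ ∨ K = B) → A ≠ B →
      centralizer (B : Set G) = A ∧ IsComplement' A U ∧ A ⊓ B = ⊥ ∧
        Nonempty (↥((A ⊔ B) ⊓ U) ≃* B) := by
    intro A B hAn hBn hA hB hAmin hBmin hAB
    have hinf : A ⊓ B = ⊥ := by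
      rcases hAmin (A ⊓ B) inferInstance inf_le_left with h | h
      · exact h
      · rcases hBmin A hAn (inf_eq_left.mp h) with h' | h'
        · exact absurd h' hA
        · exact absurd h' hAB
    have hle : A ≤ centralizer (B : Set G) := fun a ha => Subgroup.mem_centralizer_iff.mpr
      fun b hb => (Subgroup.commute_of_normal_of_disjoint A B hAn hBn (disjoint_iff.mpr hinf) a b ha hb).symm.eq
    obtain ⟨h1, h2⟩ := corefree_centralizer U hU hcore B hB
    have hCA : centralizer (B : Set G) = A := by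
      rcases h2 with h | ⟨-, h⟩
      · exact absurd (eq_bot_iff.mpr (h ▸ hle)) hA
      · exact ((h A hAn hle).resolve_left hA).symm
    have hAU : A ⊓ U = ⊥ := by rw [← hCA]; exact h1
    have htop : A ⊔ U = ⊤ := hU.2 _ (lt_of_le_of_ne le_sup_right fun h => hA (by
      have hle' : A ≤ U := h ▸ le_sup_left
      rw [← hAU, inf_eq_left.mpr hle']))
    refine ⟨hCA, isComplement'_of_disjoint_and_mul_eq_univ (disjoint_iff.mpr hAU)
      (by rw [← Subgroup.normal_mul, htop]; simp), hinf, ?_⟩
    -- both `B` and `(A ⊔ B) ⊓ U` map isomorphically onto `(A ⊔ B) / A`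
    set D := (A ⊔ B) ⊓ U
    set q := QuotientGroup.mk' A
    have hinj : ∀ X : Subgroup G, A ⊓ X = ⊥ → Function.Injective (q.subgroupMap X) := by
      intro X hX
      rw [← MonoidHom.ker_eq_bot_iff, eq_bot_iff]
      intro x hx
      have h0 := congrArg Subtype.val (MonoidHom.mem_ker.mp hx)
      have hmem : (x : G) ∈ A ⊓ X := ⟨(QuotientGroup.eq_one_iff _).mp h0, x.2⟩
      rw [hX, Subgroup.mem_bot] at hmem
      exact Subtype.ext hmem
    have hAD : A ⊓ D = ⊥ := eq_bot_iff.mpr (hAU ▸ inf_le_inf_left A inf_le_right)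
    have hDB : D.map q = B.map q := by
      refine le_antisymm ?_ ?_
      · refine (Subgroup.map_mono inf_le_left).trans ?_
        rw [Subgroup.map_sup, QuotientGroup.map_mk'_self, bot_sup_eq]
      · rintro _ ⟨b, hb, rfl⟩
        obtain ⟨a, ha, u, hu, rfl⟩ := Subgroup.mem_sup_of_normal_left.mp (htop.symm ▸ mem_top b)
        refine ⟨u, ⟨?_, hu⟩, ?_⟩
        · have := mul_mem (inv_mem (Subgroup.mem_sup_left (T := B) ha)) (Subgroup.mem_sup_right (S := A) hb)
          simpa using this
        · rw [map_mul, show q a = 1 from (QuotientGroup.eq_one_iff a).mpr ha, one_mul]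
    exact ⟨(MulEquiv.ofBijective _ ⟨hinj D hAD, q.subgroupMap_surjective D⟩).trans
      ((MulEquiv.subgroupCongr hDB).trans
        (MulEquiv.ofBijective _ ⟨hinj B hinf, q.subgroupMap_surjective B⟩).symm)⟩
  obtain ⟨hCB, hAU, hinf, ⟨e1⟩⟩ := key A B inferInstance inferInstance hA hB hAmin hBmin hAB
  obtain ⟨hCA, hBU, -, ⟨e2⟩⟩ := key B A inferInstance inferInstance hB hA hBmin hAmin hAB.symm
  have e3 : A ≃* ↥((A ⊔ B) ⊓ U) := e2.symm.trans (MulEquiv.subgroupCongr (by rw [sup_comm]))
  refine ⟨hCB, hCA, hAU, hBU, fun hc => hA ?_, ⟨e3.trans e1⟩, ⟨e3⟩⟩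
  haveI := hc
  have hle : A ≤ centralizer (A : Set G) := Subgroup.le_centralizer A
  rw [hCA] at hle
  rw [← hinf, inf_eq_left.mpr hle]

theorem centralizer_minNormal_eq [Finite G] [Group.IsSolvable G] (U : Subgroup G)
    (hU : IsCoatom U) (hcore : U.normalCore = ⊥) (N : Subgroup G) [N.Normal] (hN : N ≠ ⊥)
    (hmin : ∀ K : Subgroup G, K.Normal → K ≤ N → K = ⊥ ∨ K = N) :
    centralizer (N : Set G) = N := by
  haveI := minNormal_comm N hN hmin
  obtain ⟨-, h | ⟨-, h⟩⟩ := corefree_centralizer U hU hcore N hN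
  · exact absurd (eq_bot_iff.mpr (h ▸ Subgroup.le_centralizer N)) hN
  · exact ((h N inferInstance (Subgroup.le_centralizer N)).resolve_left hN).symm

theorem corefree_not_le {U N : Subgroup G} [N.Normal] (hcore : U.normalCore = ⊥) (hN : N ≠ ⊥) :
    ¬ N ≤ U := fun h => hN (eq_bot_iff.mpr (hcore ▸ Subgroup.normal_le_normalCore.mpr h))

theorem solvable_corefree_conj [Finite G] [Group.IsSolvable G] (U V : Subgroup G)
    (hU : IsCoatom U) (hV : IsCoatom V) (hUc : U.normalCore = ⊥) (hVc : V.normalCore = ⊥) :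
    ∃ g : G, MulAut.conj g • U = V := by
  haveI : Nontrivial G := by
    by_contra h
    rw [not_nontrivial_iff_subsingleton] at h
    exact hU.1 (Subsingleton.elim _ _)
  obtain ⟨M, hM, hMne, hMmin⟩ := exists_minNormal (G := G)
  obtain ⟨hcU, -, hUM⟩ := minNormal_complement hMne hMmin hU (corefree_not_le hUc hMne)
  obtain ⟨hcV, -, hVM⟩ := minNormal_complement hMne hMmin hV (corefree_not_le hVc hMne)
  by_cases hMtop : M = ⊤
  · refine ⟨1, ?_⟩
    rw [hMtop, inf_top_eq] at hUM hVM
    rw [map_one, one_smul, hUM, hVM]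
  haveI : Nontrivial (G ⧸ M) := by
    rw [← Finite.one_lt_card_iff_nontrivial]
    exact Subgroup.one_lt_index_of_ne_top hMtop
  obtain ⟨N', hN', hN'ne, hN'min⟩ := exists_minNormal (G := G ⧸ M)
  haveI : Group.IsSolvable (G ⧸ M) := inferInstance
  obtain ⟨-, q, hq, -, hNq, -⟩ := minNormal_elementary N' hN'ne hN'min
  haveI := Fact.mk hq
  set N := N'.comap (QuotientGroup.mk' M) with hNdef
  have hMN : M ≤ N := by
    intro m hm
    show QuotientGroup.mk' M m ∈ N'
    rw [show QuotientGroup.mk' M m = 1 from (QuotientGroup.eq_one_iff m).mpr hm]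
    exact one_mem _
  have hMp := minNormal_elementary M hMne hMmin
  obtain ⟨-, p, hp, -, hMp, -⟩ := hMp
  haveI := Fact.mk hp
  haveI : N.Normal := hN'.comap _
  have hqM : ¬ q ∣ Nat.card M := by
    intro hd
    obtain ⟨k, hk⟩ := IsPGroup.iff_card.mp hMp
    rw [hk] at hd
    have hqp : q = p := (Nat.prime_dvd_prime_iff_eq hq hp).mp (hq.dvd_of_dvd_pow hd)
    subst hqp
    have hNp : IsPGroup q N := hNq.comap_of_ker_isPGroup (QuotientGroup.mk' M)
      (by rw [QuotientGroup.ker_mk']; exact hMp)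
    haveI : Nontrivial N := by
      rw [Subgroup.nontrivial_iff_ne_bot]
      exact fun h => hMne (eq_bot_iff.mpr (h ▸ hMN))
    have hZ : Nontrivial (center N) := hNp.center_nontrivial
    set Z := (center N).map N.subtype
    haveI : Z.Normal := inferInstance
    have hZne : Z ≠ ⊥ := by
      rw [Ne, Subgroup.map_eq_bot_iff_of_injective _ N.subtype_injective]
      exact (Subgroup.nontrivial_iff_ne_bot _).mp hZ
    obtain ⟨L, hL, hLne, hLZ, hLmin⟩ := exists_minNormal_le Z hZne
    haveI := hL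
    have hLM : L = M := by
      by_contra hne
      have hinf : L ⊓ M = ⊥ := by
        rcases hLmin (L ⊓ M) inferInstance inf_le_left with h | h
        · exact h
        · exact absurd ((hMmin L hL (inf_eq_left.mp h)).resolve_left hLne) hne
      have hle : L ≤ centralizer (M : Set G) := fun a ha => Subgroup.mem_centralizer_iff.mpr
        fun b hb => (Subgroup.commute_of_normal_of_disjoint L M hL hM (disjoint_iff.mpr hinf) a b ha hb).symm.eq
      rw [centralizer_minNormal_eq U hU hUc M hMne hMmin] at hle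
      exact hLne (by rw [← hinf, inf_eq_left.mpr hle])
    have hNC : N ≤ centralizer (M : Set G) := by
      intro n hn
      rw [Subgroup.mem_centralizer_iff]
      intro m hm
      obtain ⟨z, hz, hzm⟩ := hLZ (hLM.symm ▸ hm)
      rw [← hzm]
      exact (congrArg Subtype.val (Subgroup.mem_center_iff.mp hz ⟨n, hn⟩)).symm
    rw [centralizer_minNormal_eq U hU hUc M hMne hMmin] at hNC
    refine hN'ne ?_
    rw [← Subgroup.map_comap_eq_self_of_surjective (QuotientGroup.mk'_surjective M) N', ← hNdef,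
      le_antisymm hNC hMN, QuotientGroup.map_mk'_self]
  -- `U ⊓ N` and `V ⊓ N` are Sylow `q`-subgroups of `N`
  have hsyl : ∀ W : Subgroup G, IsComplement' M W → M ⊓ W = ⊥ →
      ∃ Q : Sylow q N, ((Q : Subgroup N)) = W.subgroupOf N := by
    intro W hc hi
    have hcard : Nat.card (W.subgroupOf N) = Nat.card N' := by
      have hf : Function.Bijective (((QuotientGroup.mk' M).comp N.subtype).comp
          (W.subgroupOf N).subtype |>.codRestrict N' (fun x => x.1.2)) := by
        constructor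
        · rw [← MonoidHom.ker_eq_bot_iff, eq_bot_iff]
          intro x hx
          have h0 := congrArg Subtype.val (MonoidHom.mem_ker.mp hx)
          have hmem : ((x : N) : G) ∈ M ⊓ W := ⟨(QuotientGroup.eq_one_iff _).mp h0, x.2⟩
          rw [hi, Subgroup.mem_bot] at hmem
          exact Subtype.ext (Subtype.ext hmem)
        · rintro ⟨y, hy⟩
          obtain ⟨g, rfl⟩ := QuotientGroup.mk'_surjective M y
          obtain ⟨m, hm, w, hw, rfl⟩ := Subgroup.mem_sup_of_normal_left.mp (hc.sup_eq_top ▸ mem_top g)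
          have hmw : QuotientGroup.mk' M (m * w) = QuotientGroup.mk' M w := by
            rw [map_mul, show QuotientGroup.mk' M m = 1 from (QuotientGroup.eq_one_iff m).mpr hm, one_mul]
          exact ⟨⟨⟨w, show QuotientGroup.mk' M w ∈ N' from hmw ▸ hy⟩, hw⟩, Subtype.ext hmw.symm⟩
      exact Nat.card_congr (Equiv.ofBijective _ hf)
    obtain ⟨k, hk⟩ := IsPGroup.iff_card.mp hNq
    have hidx : ¬ q ∣ (W.subgroupOf N).index := by
      have h1 := Subgroup.card_mul_index (W.subgroupOf N)
      have h2 : Nat.card N = Nat.card N' * Nat.card M := card_comap_mk' M N'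
      rw [hcard, h2] at h1
      rw [Nat.eq_of_mul_eq_mul_left Nat.card_pos h1]
      exact hqM
    exact ⟨(IsPGroup.of_card (p := q) (hcard.trans hk)).toSylow hidx, IsPGroup.toSylow_coe _ _⟩
  obtain ⟨QU, hQU⟩ := hsyl U hcU (by rw [inf_comm]; exact hUM)
  obtain ⟨QV, hQV⟩ := hsyl V hcV (by rw [inf_comm]; exact hVM)
  obtain ⟨n, hn⟩ := MulAction.exists_smul_eq N QU QV
  have hne : N ⊓ U ≠ ⊥ := by
    intro h
    have hQb : (QU : Subgroup N) = ⊥ := by
      rw [hQU, Subgroup.subgroupOf_eq_bot, disjoint_iff, inf_comm]; exact h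
    have hidx := QU.not_dvd_index
    rw [hQb, Subgroup.index_bot, show Nat.card N = Nat.card N' * Nat.card M from card_comap_mk' M N'] at hidx
    obtain ⟨k, hk⟩ := IsPGroup.iff_card.mp hNq
    refine hidx (dvd_mul_of_dvd_left ?_ _)
    rw [hk]
    refine dvd_pow_self q fun hk0 => hN'ne ?_
    rw [hk0, pow_zero, Subgroup.card_eq_one] at hk
    exact hk
  -- transport the conjugation
  have hconjN : MulAut.conj (n : G) • (N ⊓ U) = N ⊓ V := by
    have h := congrArg (fun Q : Sylow q N => ((Q : Subgroup N)).map N.subtype) hn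
    simp only [Sylow.coe_subgroup_smul, hQU, hQV] at h
    rw [show ((MulAut.conj n) • U.subgroupOf N).map N.subtype =
      MulAut.conj (n : G) • (U.subgroupOf N).map N.subtype by
        show ((U.subgroupOf N).map (MulAut.conj n).toMonoidHom).map N.subtype =
          ((U.subgroupOf N).map N.subtype).map (MulAut.conj (n : G)).toMonoidHom
        rw [Subgroup.map_map, Subgroup.map_map]; rfl,
      Subgroup.subgroupOf_map_subtype, Subgroup.subgroupOf_map_subtype, inf_comm, inf_comm V] at h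
    exact h
  have hnorm : ∀ W : Subgroup G, W ≤ normalizer ((N ⊓ W : Subgroup G) : Set G) := by
    intro W w hw
    rw [Subgroup.mem_normalizer_iff]
    intro x
    constructor
    · rintro ⟨h1, h2⟩
      exact ⟨(inferInstance : N.Normal).conj_mem x h1 w, W.mul_mem (W.mul_mem hw h2) (W.inv_mem hw)⟩
    · rintro ⟨h1, h2⟩
      exact ⟨by simpa [mul_assoc] using (inferInstance : N.Normal).conj_mem _ h1 w⁻¹,
        by simpa [mul_assoc] using W.mul_mem (W.mul_mem (W.inv_mem hw) h2) hw⟩
  have hnU : normalizer ((N ⊓ U : Subgroup G) : Set G) = U := by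
    rcases lt_or_eq_of_le (hnorm U) with h | h
    · exfalso
      have hnormal : (N ⊓ U).Normal := normalizer_eq_top_iff.mp (hU.2 _ h)
      exact @corefree_not_le G _ U (N ⊓ U) hnormal hUc hne inf_le_right
    · exact h.symm
  refine ⟨n, (Subgroup.eq_of_le_of_card_ge ?_ ?_).symm⟩
  · intro v hv
    rw [Subgroup.mem_pointwise_smul_iff_inv_smul_mem, ← hnU, ← map_inv, MulAut.smul_def,
      MulAut.conj_apply, Subgroup.mem_normalizer_iff]
    intro x
    have h1 := Subgroup.mem_normalizer_iff.mp (hnorm V hv) ((n : G) * x * (n : G)⁻¹)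
    have hmem : ∀ y : G, y ∈ N ⊓ U ↔ (n : G) * y * (n : G)⁻¹ ∈ N ⊓ V := by
      intro y
      rw [← hconjN, Subgroup.mem_pointwise_smul_iff_inv_smul_mem, ← map_inv, MulAut.smul_def,
        MulAut.conj_apply]
      simp [mul_assoc]
    rw [hmem, h1, hmem ((n : G)⁻¹ * v * (n : G)⁻¹⁻¹ * x * ((n : G)⁻¹ * v * (n : G)⁻¹⁻¹)⁻¹)]
    simp [mul_assoc]
  · have e1 := hcU.card_mul_card
    have e2 := hcV.card_mul_card
    rw [← e2, Nat.mul_left_cancel_iff Nat.card_pos] at e1
    rw [← e1]
    exact le_of_eq (Nat.card_congr ((Subgroup.equivSMul (MulAut.conj (n : G)) U).toEquiv).symm)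

theorem primitive_minNormal [Finite G] [Group.IsSolvable G] {Ω : Type*} [MulAction G Ω]
    [FaithfulSMul G Ω] (hprim : MulAction.IsPreprimitive G Ω) (M : Subgroup G) [M.Normal]
    (hM : M ≠ ⊥) (hmin : ∀ K : Subgroup G, K.Normal → K ≤ M → K = ⊥ ∨ K = M) (ω : Ω) :
    IsCoatom (MulAction.stabilizer G ω) ∧ (MulAction.stabilizer G ω).normalCore = ⊥ ∧
      IsComplement' M (MulAction.stabilizer G ω) ∧ MulAction.IsPretransitive M Ω ∧
      (∀ ω' : Ω, MulAction.stabilizer M ω' = ⊥) ∧ Nat.card Ω = Nat.card M := by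
  haveI := hprim
  have htr : MulAction.IsPretransitive G Ω := hprim.toIsPretransitive
  have hcore : ∀ ω : Ω, (MulAction.stabilizer G ω).normalCore = ⊥ := by
    intro ω
    rw [eq_bot_iff]
    intro g hg
    rw [Subgroup.mem_bot]
    refine FaithfulSMul.eq_of_smul_eq_smul (α := Ω) fun a => ?_
    obtain ⟨h, rfl⟩ := MulAction.exists_smul_eq G ω a
    have h1 : h⁻¹ * g * h ∈ MulAction.stabilizer G ω := by
      have := Subgroup.normalCore_normal (MulAction.stabilizer G ω)
      simpa using Subgroup.normalCore_le _ (this.conj_mem g hg h⁻¹)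
    rw [MulAction.mem_stabilizer_iff, mul_smul, mul_smul, inv_smul_eq_iff] at h1
    rw [one_smul]
    exact h1
  haveI : Nontrivial G := by
    by_contra h
    rw [not_nontrivial_iff_subsingleton] at h
    exact hM (Subsingleton.elim _ _)
  haveI : Nontrivial Ω := by
    by_contra h
    rw [not_nontrivial_iff_subsingleton] at h
    obtain ⟨g, hg⟩ := exists_ne (1 : G)
    exact hg (FaithfulSMul.eq_of_smul_eq_smul (α := Ω) fun a => Subsingleton.elim _ _)
  have hco : ∀ ω : Ω, IsCoatom (MulAction.stabilizer G ω) := fun ω =>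
    MulAction.IsPreprimitive.isCoatom_stabilizer_of_isPreprimitive G ω
  have hcomp : ∀ ω : Ω, IsComplement' M (MulAction.stabilizer G ω) := fun ω =>
    (minNormal_complement hM hmin (hco ω) (corefree_not_le (hcore ω) hM)).1
  have htrans : MulAction.IsPretransitive M Ω := by
    refine ⟨fun a b => ?_⟩
    obtain ⟨g, rfl⟩ := MulAction.exists_smul_eq G a b
    obtain ⟨m, hm, h, hh, rfl⟩ :=
      Subgroup.mem_sup_of_normal_left.mp ((hcomp a).sup_eq_top ▸ mem_top g)
    exact ⟨⟨m, hm⟩, by rw [mul_smul, MulAction.mem_stabilizer_iff.mp hh]; rfl⟩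
  have hstab : ∀ ω' : Ω, MulAction.stabilizer M ω' = ⊥ := by
    intro ω'
    rw [eq_bot_iff]
    intro m hm
    have hmem : (m : G) ∈ M ⊓ MulAction.stabilizer G ω' := ⟨m.2, hm⟩
    rw [(hcomp ω').disjoint.eq_bot, Subgroup.mem_bot] at hmem
    exact Subtype.ext hmem
  refine ⟨hco ω, hcore ω, hcomp ω, htrans, hstab, ?_⟩
  have h := MulAction.index_stabilizer_of_transitive M ω
  rw [hstab ω, Subgroup.index_bot] at h
  exact h.symm

theorem primitive_complement_irreducible [Finite G] [Group.IsSolvable G] {Ω : Type*}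
    [MulAction G Ω] [FaithfulSMul G Ω] (hprim : MulAction.IsPreprimitive G Ω) (M : Subgroup G)
    [M.Normal] (hM : M ≠ ⊥) (hmin : ∀ K : Subgroup G, K.Normal → K ≤ M → K = ⊥ ∨ K = M) (ω : Ω) :
    IsComplement' M (MulAction.stabilizer G ω) ∧
      MulAction.stabilizer G ω ⊓ centralizer (M : Set G) = ⊥ ∧
      ∀ K : Subgroup G, K ≤ M → MulAction.stabilizer G ω ≤ normalizer (K : Set G) → K = ⊥ ∨ K = M := by
  obtain ⟨hco, hcore, hc, -⟩ := primitive_minNormal hprim M hM hmin ω
  refine ⟨hc, by rw [inf_comm]; exact (corefree_centralizer _ hco hcore M hM).1, fun K hK hH => ?_⟩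
  haveI := minNormal_comm M hM hmin
  refine hmin K ?_ hK
  rw [← normalizer_eq_top_iff, eq_top_iff, ← hc.sup_eq_top, sup_le_iff]
  refine ⟨le_trans ?_ (Subgroup.centralizer_le_normalizer _), hH⟩
  intro m hm
  rw [Subgroup.mem_centralizer_iff]
  intro k hk
  exact setLike_mul_comm (hK hk) hm

end H3
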