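import Cfsg.Agent.H1.CoprimeAction
import Cfsg.Agent.H2.FPFSubgroup
import Cfsg.Agent.H2.FrobeniusEven
import Cfsg.Agent.H82.PRankOne
import Cfsg.Agent.H83.TrivAction
import Cfsg.Agent.H3.Supersolvable
import Mathlib.GroupTheory.SpecificGroups.ZGroup

/-!
A fixed-point-free complement has nontrivial centre.
-/

set_option autoImplicit false

namespace H3

open Subgroup
open scoped commutatorElement

universe u

variable {G : Type u} [Group G] [Finite G]

theorem coprime_card_of_fpf {K H : Subgroup G} [K.Normal]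
    (hfpf : ∀ h ∈ H, h ≠ 1 → K ⊓ centralizer {h} = ⊥) :
    (Nat.card H).Coprime (Nat.card K) := by
  refine Nat.coprime_of_dvd fun r hr hH hK => ?_
  haveI := Fact.mk hr
  obtain ⟨h, hh⟩ := exists_prime_orderOf_dvd_card' (G := H) r hH
  rw [← orderOf_coe] at hh
  have hh1 : (h : G) ≠ 1 := fun e => hr.ne_one (by rw [← hh, e, orderOf_one])
  have hP : IsPGroup r (zpowers (h : G)) :=
    IsPGroup.of_card (n := 1) (by rw [Nat.card_zpowers, hh, pow_one])
  letI : MulAction (zpowers (h : G)) K :=
    MulAction.compHom K ((MulAut.conjNormal (H := K)).comp (zpowers (h : G)).subtype)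
  obtain ⟨b, hb, hb1⟩ := hP.exists_fixed_point_of_prime_dvd_card_of_fixed_point K hK
    (a := (1 : K)) (fun x => by
      show MulAut.conjNormal (x : G) (1 : K) = 1
      exact map_one _)
  have hfix : MulAut.conjNormal (h : G) b = b := hb ⟨(h : G), mem_zpowers _⟩
  have hfix' : (h : G) * b * (h : G)⁻¹ = b := by
    simpa [MulAut.conjNormal_apply] using congrArg Subtype.val hfix
  have hmem : (b : G) ∈ K ⊓ centralizer {(h : G)} :=
    ⟨b.2, Subgroup.mem_centralizer_singleton_iff.mpr (mul_inv_eq_iff_eq_mul.1 hfix').symm⟩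
  rw [hfpf h h.2 hh1, Subgroup.mem_bot] at hmem
  exact hb1 (Subtype.ext hmem.symm)

/-- A subgroup of order `p * q` of a fixed-point-free group of automorphisms is cyclic. -/
theorem isCyclic_of_fpf_card_mul {K H : Subgroup G} [K.Normal] (hK : K ≠ ⊥)
    (hfpf : ∀ h ∈ H, h ≠ 1 → K ⊓ centralizer {h} = ⊥) (T : Subgroup G) (hTH : T ≤ H)
    {p q : ℕ} (hp : p.Prime) (hq : q.Prime) (hT : Nat.card T = p * q) : IsCyclic T := by
  haveI := Fact.mk hp
  haveI := Fact.mk hq
  have hsol : Group.IsSolvable T := by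
    rcases eq_or_ne p q with rfl | hne
    · haveI := IsPGroup.isMulCommutative_of_card_eq_prime_sq (G := T) (p := p) (by rw [hT, sq])
      exact Group.isSolvable_of_comm fun a b => mul_comm' a b
    · haveI : IsZGroup T := IsZGroup.of_squarefree (by
        rw [hT]
        exact (Nat.squarefree_mul ((Nat.coprime_primes hp hq).mpr hne)).mpr
          ⟨hp.squarefree, hq.squarefree⟩)
      infer_instance
  have hTK : T ≤ normalizer (K : Set G) := by rw [normalizer_eq_top]; exact le_top
  have hcop : (Nat.card T).Coprime (Nat.card K) :=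
    (coprime_card_of_fpf hfpf).coprime_dvd_left (Subgroup.card_dvd_of_le hTH)
  obtain ⟨r, hr, hrd⟩ := Nat.exists_prime_and_dvd (mt (Subgroup.card_eq_one (H := K)).mp hK)
  haveI := Fact.mk hr
  obtain ⟨R, hR⟩ := H1.exists_invariant_sylow hTK hcop (Or.inl hsol) r
  set R' := (R : Subgroup K).map K.subtype
  set V := (center R').map R'.subtype
  have hVK : V ≤ K := (Subgroup.map_subtype_le _).trans (Subgroup.map_subtype_le _)
  have hRp : IsPGroup r R' := R.isPGroup'.map _
  haveI : Nontrivial R' := by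
    rw [Subgroup.nontrivial_iff_ne_bot, Ne,
      Subgroup.map_eq_bot_iff_of_injective _ K.subtype_injective]
    exact R.ne_bot_of_dvd_card hrd
  have hVne : V ≠ ⊥ := by
    rw [Ne, Subgroup.map_eq_bot_iff_of_injective _ R'.subtype_injective]
    exact (Subgroup.nontrivial_iff_ne_bot _).mp hRp.center_nontrivial
  haveI : IsMulCommutative V := Subgroup.map_isMulCommutative _ _
  exact H2.isCyclic_of_fpf_subgroup T V (H83.le_normalizer_map_of_characteristic hR _) hVne
    (fun a ha ha1 => eq_bot_iff.mpr ((inf_le_inf_right _ hVK).trans (hfpf a (hTH ha) ha1).le))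
    (Or.inr ⟨p, q, hp, hq, hT⟩)

theorem fpf_complement_center_ne_bot {K H : Subgroup G} [K.Normal] (hK : K ≠ ⊥) (hH : H ≠ ⊥)
    (hfpf : ∀ h ∈ H, h ≠ 1 → K ⊓ centralizer {h} = ⊥) : center H ≠ ⊥ := by
  intro hbot
  haveI : Nontrivial H := (Subgroup.nontrivial_iff_ne_bot H).mpr hH
  by_cases heven : 2 ∣ Nat.card H
  · obtain ⟨⟨s, hs, hs2, huniq, -⟩, -⟩ := H2.even_complement hK hfpf heven
    have hmem : (⟨s, hs⟩ : H) ∈ center H := by
      rw [Subgroup.mem_center_iff]
      intro x
      have h1 : (x : G) * s * (x : G)⁻¹ = s := by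
        refine huniq _ (H.mul_mem (H.mul_mem x.2 hs) (H.inv_mem x.2)) ?_
        rw [show (x : G) * s * (x : G)⁻¹ = MulAut.conj (x : G) s from rfl, MulEquiv.orderOf_eq]
        exact hs2
      exact Subtype.ext (mul_inv_eq_iff_eq_mul.1 h1)
    rw [hbot, Subgroup.mem_bot] at hmem
    rw [show s = 1 from congrArg Subtype.val hmem, orderOf_one] at hs2
    omega
  -- all Sylow subgroups are cyclic
  haveI : IsZGroup H := by
    refine ⟨fun p hp P => ?_⟩
    haveI := Fact.mk hp
    by_contra hnc
    by_cases hp2 : p = 2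
    · refine hnc ?_
      have : (P : Subgroup H) = ⊥ := by
        rcases P.isPGroup'.card_eq_or_dvd with h1 | h1
        · exact Subgroup.eq_bot_of_card_eq _ h1
        · subst hp2
          exact absurd (h1.trans (Subgroup.card_subgroup_dvd_card _)) heven
      rw [this]
      infer_instance
    · have hnc' : ¬ IsCyclic ((P : Subgroup H).map H.subtype) := fun h => hnc
        (isCyclic_of_surjective _
          ((P : Subgroup H).equivMapOfInjective _ H.subtype_injective).symm.surjective)
      obtain ⟨A, hAP, hA, hAc⟩ := H82.exists_elemAb_sq hp2 (P.isPGroup'.map H.subtype) hnc'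
      haveI := isCyclic_of_fpf_card_mul hK hfpf A (hAP.trans (Subgroup.map_subtype_le _)) hp hp
        (by rw [hAc, sq])
      obtain ⟨a, ha⟩ := IsCyclic.exists_generator (α := A)
      have h1 := orderOf_eq_card_of_forall_mem_zpowers ha
      rw [hAc] at h1
      have h2 : orderOf a ∣ p :=
        orderOf_dvd_of_pow_eq_one (Subtype.ext (by simpa using hA.2 a a.2))
      rw [h1] at h2
      have := Nat.le_of_dvd hp.pos h2
      have := hp.one_lt
      nlinarith
  set A := commutator H with hA
  haveI hAcyc : IsCyclic A := IsZGroup.isCyclic_commutator H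
  by_cases hAbot : A = ⊥
  · have htop : center H = ⊤ := by
      rw [eq_top_iff]
      intro x _
      rw [Subgroup.mem_center_iff]
      intro y
      rw [← commutatorElement_eq_one_iff_mul_comm, ← Subgroup.mem_bot, ← hAbot, hA, _root_.commutator_def]
      exact Subgroup.commutator_mem_commutator (mem_top y) (mem_top x)
    exact bot_ne_top (α := Subgroup H) (hbot.symm.trans htop)
  haveI hAn : A.Normal := by rw [hA]; infer_instance
  have hcop := IsZGroup.coprime_commutator_index H
  rw [← hA] at hcop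
  obtain ⟨B, hB⟩ := Subgroup.exists_right_complement'_of_coprime (N := A) hcop
  have hidx : A.index = Nat.card B := hB.symm.index_eq_card
  have hB1 : Nat.card B ≠ 1 := by
    intro h
    rw [h, Subgroup.index_eq_one] at hidx
    exact (IsZGroup.commutator_lt (G := H)).ne hidx
  obtain ⟨p, hp, hpd⟩ := Nat.exists_prime_and_dvd hB1
  haveI := Fact.mk hp
  obtain ⟨b, hb⟩ := exists_prime_orderOf_dvd_card' (G := B) p hpd
  rw [← orderOf_coe] at hb
  -- `B` is abelian
  have hBcomm : ∀ x ∈ B, ∀ y ∈ B, x * y = y * x := by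
    intro x hx y hy
    have h1 : ⁅x, y⁆ ∈ A ⊓ B :=
      ⟨by rw [hA, _root_.commutator_def]; exact Subgroup.commutator_mem_commutator (mem_top x) (mem_top y),
        B.mul_mem (B.mul_mem (B.mul_mem hx hy) (B.inv_mem hx)) (B.inv_mem hy)⟩
    rw [hB.disjoint.eq_bot, Subgroup.mem_bot, commutatorElement_eq_one_iff_mul_comm] at h1
    exact h1
  -- `b` fixes every element of prime order of `A`
  have hfix : ∀ y ∈ A, (orderOf y).Prime → (b : H) * y * (b : H)⁻¹ = y := by
    intro y hy hyq
    have hne : orderOf y ≠ p := by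
      intro h
      refine hp.ne_one (Nat.eq_one_of_dvd_coprimes hcop ?_ (hidx ▸ hpd))
      rw [← h, ← Nat.card_zpowers]
      exact Subgroup.card_dvd_of_le (zpowers_le.mpr hy)
    haveI : (zpowers y).Normal := normal_of_le_cyclic_normal (B := A) (zpowers_le.mpr hy)
    have hc : (Nat.card (zpowers y)).Coprime (Nat.card (zpowers (b : H))) := by
      rw [Nat.card_zpowers, Nat.card_zpowers, hb]
      exact (Nat.coprime_primes hyq hp).mpr hne
    set T := zpowers y ⊔ zpowers (b : H)
    have hTc : Nat.card T = orderOf y * p := by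
      rw [H1.card_sup_of_coprime (by rw [normalizer_eq_top]; exact le_top) hc, Nat.card_zpowers,
        Nat.card_zpowers, hb]
    haveI := isCyclic_of_fpf_card_mul hK hfpf (T.map H.subtype) (Subgroup.map_subtype_le _) hyq hp
      (by rw [Subgroup.card_map_of_injective H.subtype_injective, hTc])
    have hyT : ((y : H) : G) ∈ T.map H.subtype :=
      Subgroup.mem_map_of_mem _ (Subgroup.mem_sup_left (mem_zpowers y))
    have hbT : ((b : H) : G) ∈ T.map H.subtype :=
      Subgroup.mem_map_of_mem _ (Subgroup.mem_sup_right (mem_zpowers _))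
    letI := IsCyclic.commGroup (α := T.map H.subtype)
    have h := congrArg Subtype.val (mul_comm (⟨_, hbT⟩ : T.map H.subtype) ⟨_, hyT⟩)
    apply Subtype.ext
    show ((b : H) : G) * (y : G) * ((b : H) : G)⁻¹ = (y : G)
    rw [mul_inv_eq_iff_eq_mul]
    exact h
  -- hence all of `A`
  have hAcomm : ∀ x ∈ A, ∀ y ∈ A, x * y = y * x := by
    intro x hx y hy
    letI := IsCyclic.commGroup (α := A)
    exact congrArg Subtype.val (mul_comm (⟨x, hx⟩ : A) ⟨y, hy⟩)
  have hall : ∀ a ∈ A, (b : H) * a * (b : H)⁻¹ = a := by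
    intro a ha
    set y := (b : H) * a * (b : H)⁻¹ * a⁻¹ with hy
    have hyA : y ∈ A := mul_mem (hAn.conj_mem a ha _) (inv_mem ha)
    suffices y = 1 from mul_inv_eq_one.mp this
    by_contra hy1
    set m := orderOf y with hm
    have hm1 : m ≠ 1 := mt orderOf_eq_one_iff.mp hy1
    obtain ⟨q, hq, k, hk⟩ := Nat.exists_prime_and_dvd hm1
    -- a power of `a` whose commutator with `b` has prime order
    set a' := a ^ k
    have ha' : a' ∈ A := pow_mem ha k
    have hconj : ∀ x ∈ A, (b : H) * (a * x) * (b : H)⁻¹ * (a * x)⁻¹ =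
        y * ((b : H) * x * (b : H)⁻¹ * x⁻¹) := by
      intro x hx
      calc (b : H) * (a * x) * (b : H)⁻¹ * (a * x)⁻¹
          = ((b : H) * a * (b : H)⁻¹) * (((b : H) * x * (b : H)⁻¹ * x⁻¹) * a⁻¹) := by group
        _ = ((b : H) * a * (b : H)⁻¹) * (a⁻¹ * ((b : H) * x * (b : H)⁻¹ * x⁻¹)) := by
            rw [hAcomm _ (mul_mem (hAn.conj_mem x hx _) (inv_mem hx)) a⁻¹ (inv_mem ha)]
        _ = y * ((b : H) * x * (b : H)⁻¹ * x⁻¹) := by rw [hy]; group
    have hpow : ∀ n : ℕ, (b : H) * a ^ n * (b : H)⁻¹ * (a ^ n)⁻¹ = y ^ n := by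
      intro n
      induction n with
      | zero => simp
      | succ n ih => rw [pow_succ', hconj _ (pow_mem ha n), ih, pow_succ']
    have hyk : orderOf (y ^ k) = q := by
      have hk0 : k ≠ 0 := by
        rintro rfl
        exact (orderOf_pos y).ne' (hm.symm.trans (by simpa using hk))
      rw [orderOf_pow_of_dvd hk0 (hm ▸ hk ▸ dvd_mul_left k q), ← hm, hk,
        Nat.mul_div_cancel _ (Nat.pos_of_ne_zero hk0)]
    have hfixy : (b : H) * y ^ k * (b : H)⁻¹ = y ^ k := hfix _ (pow_mem hyA k) (hyk.symm ▸ hq)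
    have hiter : ∀ n : ℕ, (b : H) ^ n * a' * ((b : H) ^ n)⁻¹ = (y ^ k) ^ n * a' := by
      intro n
      induction n with
      | zero => simp
      | succ n ih =>
        have h1 : (b : H) * a' * (b : H)⁻¹ = y ^ k * a' := by
          rw [← hpow k, show a' = a ^ k from rfl]; group
        have h2 : (b : H) * (y ^ k) ^ n * (b : H)⁻¹ = (y ^ k) ^ n := by
          rw [← conj_pow, hfixy]
        calc (b : H) ^ (n + 1) * a' * ((b : H) ^ (n + 1))⁻¹
            = (b : H) * ((b : H) ^ n * a' * ((b : H) ^ n)⁻¹) * (b : H)⁻¹ := by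
              rw [pow_succ']; group
          _ = (b : H) * ((y ^ k) ^ n * a') * (b : H)⁻¹ := by rw [ih]
          _ = ((b : H) * (y ^ k) ^ n * (b : H)⁻¹) * ((b : H) * a' * (b : H)⁻¹) := by group
          _ = (y ^ k) ^ (n + 1) * a' := by rw [h1, h2, pow_succ, mul_assoc]
    have hone := hiter p
    rw [← hb, pow_orderOf_eq_one, hb, one_mul, inv_one, mul_one, right_eq_mul] at hone
    have hqp : q ∣ p := hyk ▸ orderOf_dvd_of_pow_eq_one hone
    refine hp.ne_one (Nat.eq_one_of_dvd_coprimes hcop ?_ (hidx ▸ hpd))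
    rw [← (Nat.prime_dvd_prime_iff_eq hq hp).mp hqp, ← hyk, ← Nat.card_zpowers]
    exact Subgroup.card_dvd_of_le (zpowers_le.mpr (pow_mem hyA k))
  have hmem : (b : H) ∈ center H := by
    rw [Subgroup.mem_center_iff]
    intro x
    obtain ⟨a, ha, c, hc, rfl⟩ :=
      Subgroup.mem_sup_of_normal_left.mp (hB.sup_eq_top.symm ▸ mem_top x)
    calc a * c * (b : H) = a * ((b : H) * c) := by rw [mul_assoc, hBcomm c hc (b : H) b.2]
      _ = ((b : H) * a * (b : H)⁻¹) * (b : H) * c := by rw [hall a ha, mul_assoc]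
      _ = (b : H) * (a * c) := by group
  rw [hbot, Subgroup.mem_bot] at hmem
  rw [hmem, orderOf_one] at hb
  exact hp.ne_one hb.symm

end H3
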