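import Cfsg.Agent.H1.Hall
import Cfsg.Agent.H3.SsTower

/-!
`G × A` has subgroups of every order for suitable abelian `A`.
-/

set_option autoImplicit false

namespace H3

open Subgroup

universe u v

theorem ss_of_comm {A : Type u} [CommGroup A] [Finite A] : Cfsg.IsSupersolvable A := by
  induction hn : Nat.card A using Nat.strong_induction_on generalizing A with
  | _ n ih =>
    rcases subsingleton_or_nontrivial A with hs | hnt
    · exact ss_of_subsingleton
    · obtain ⟨a, ha⟩ := exists_ne (1 : A)
      exact ss_of_quotient_cyclic (zpowers a)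
        (ih _ (hn ▸ card_quotient_lt _ (by simpa using ha)) (A := A ⧸ zpowers a) rfl)

theorem clt_prod_abelian {G : Type u} {A : Type v} [Group G] [CommGroup A] [Finite G] [Finite A]
    [Group.IsSolvable G] (hA : ∀ p : ℕ, p.Prime → p ∣ Nat.card A → p ∣ Nat.card G)
    (hexp : ∀ p : ℕ, p.Prime → p ∣ Nat.card G →
      (Nat.card A).factorization p + 1 = (Nat.card G).factorization p) :
    Cfsg.HasSubgroupOfEveryOrder (G × A) := by
  intro d hd
  rw [Nat.card_prod] at hd
  have hG0 : Nat.card G ≠ 0 := Nat.card_pos.ne'
  have hA0 : Nat.card A ≠ 0 := Nat.card_pos.ne'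
  have hd0 : d ≠ 0 := fun h => mul_ne_zero hG0 hA0 (Nat.eq_zero_of_zero_dvd (h ▸ hd))
  let π : ℕ → Prop := fun p => (Nat.card G).factorization p ≤ d.factorization p
  obtain ⟨H, -, hH1, hH2⟩ := H1.hall_pi_exists_ge π (⊥ : Subgroup G)
    (fun p hp h => absurd (by simpa using h) hp.not_dvd_one)
  have hH0 : Nat.card H ≠ 0 := Nat.card_pos.ne'
  have hfac : ∀ p : ℕ, (Nat.card G).factorization p =
      (Nat.card H).factorization p + H.index.factorization p := fun p => by
    rw [← Subgroup.card_mul_index H, Nat.factorization_mul hH0 Subgroup.index_ne_zero_of_finite,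
      Finsupp.add_apply]
  have h1 : Nat.card H ∣ d := by
    rw [← Nat.factorization_le_iff_dvd hH0 hd0]
    intro p
    by_cases hp : p.Prime ∧ p ∣ Nat.card H
    · have := hH1 p hp.1 hp.2
      have := hfac p
      simp only [π] at *
      omega
    · have : (Nat.card H).factorization p = 0 :=
        Nat.factorization_eq_zero_iff _ p |>.mpr (by tauto)
      omega
  have h2 : d ∣ Nat.card H * Nat.card A := by
    rw [← Nat.factorization_le_iff_dvd hd0 (mul_ne_zero hH0 hA0),
      Nat.factorization_mul hH0 hA0]
    intro p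
    rw [Finsupp.add_apply]
    by_cases hp : p.Prime
    swap
    · rw [Nat.factorization_eq_zero_of_not_prime _ hp]; exact Nat.zero_le _
    have hle := (Nat.factorization_le_iff_dvd hd0 (mul_ne_zero hG0 hA0)).mpr hd p
    rw [Nat.factorization_mul hG0 hA0, Finsupp.add_apply] at hle
    have := hfac p
    by_cases hπ : π p
    · have hi : H.index.factorization p = 0 :=
        Nat.factorization_eq_zero_of_not_dvd fun h => hH2 p hp h hπ
      omega
    · simp only [π, not_le] at hπ
      have hpG : p ∣ Nat.card G := by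
        by_contra hnd
        rw [Nat.factorization_eq_zero_of_not_dvd hnd] at hπ
        omega
      have := hexp p hp hpG
      omega
  obtain ⟨e, he⟩ := h1
  have h3 : e ∣ Nat.card A := Nat.dvd_of_mul_dvd_mul_left Nat.card_pos (he ▸ h2)
  obtain ⟨B, hB⟩ := ss_hasSubgroupOfEveryOrder (ss_of_comm (A := A)) e h3
  refine ⟨H.prod B, ?_⟩
  rw [Nat.card_congr (Subgroup.prodEquiv H B).toEquiv, Nat.card_prod, hB, he]

end H3
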