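import Cfsg.Prelude.Def_KGroupFacts
import Cfsg.Agent.H71.Goldschmidt
import Cfsg.Agent.H85.BrauerSuzuki
import Mathlib.GroupTheory.Solvable

/-!
Glauberman: the automorphisms of a group `G` with `O(G) = 1`, `Z(G) = 1` that fix a Sylow 2-subgroup
elementwise form a solvable group (given the odd order theorem, passed as a hypothesis); hence `Out G`
is solvable as soon as the automorphisms of `S` induced by those of `G` form a solvable group.
-/

set_option autoImplicit false

namespace H3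

namespace AutFixSylow

open Subgroup Cfsg

universe u

/-- The odd order theorem in the universe `u`. -/
def OddOrderSolvable : Prop :=
  ∀ (H : Type u) [Group H] [Finite H], Odd (Nat.card H) → Group.IsSolvable H

variable {G : Type u} [Group G]

/-- The elements fixed by an automorphism. -/
def fixG (β : MulAut G) : Subgroup G where
  carrier := {x | β x = x}
  mul_mem' {a b} (ha : β a = a) (hb : β b = b) := show β (a * b) = a * b by rw [map_mul, ha, hb]
  one_mem' := map_one β
  inv_mem' {a} (ha : β a = a) := show β a⁻¹ = a⁻¹ by rw [map_inv, ha]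

theorem mem_fixG {β : MulAut G} {x : G} : x ∈ fixG β ↔ β x = x := Iff.rfl

/-- Elements of a subgroup moved by `β` by a power of an element of it central there. -/
def twisted (β : MulAut G) (C : Subgroup G) (s : G) (hs : ∀ c ∈ C, c * s = s * c) : Subgroup G where
  carrier := {c | c ∈ C ∧ β c * c⁻¹ ∈ zpowers s}
  mul_mem' {a b} := by
    rintro ⟨ha, ha'⟩ ⟨hb, hb'⟩
    refine ⟨mul_mem ha hb, ?_⟩
    obtain ⟨i, hi⟩ := mem_zpowers_iff.1 ha'
    obtain ⟨j, hj⟩ := mem_zpowers_iff.1 hb'
    refine mem_zpowers_iff.2 ⟨i + j, ?_⟩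
    have hc : a * s ^ j = s ^ j * a := ((show Commute a s from hs a ha).zpow_right j).eq
    calc s ^ (i + j) = s ^ i * (s ^ j * a) * a⁻¹ := by rw [zpow_add, mul_assoc, mul_inv_cancel_right]
      _ = (β a * a⁻¹) * (a * (β b * b⁻¹)) * a⁻¹ := by rw [← hc, ← hj, hi]
      _ = β (a * b) * (a * b)⁻¹ := by rw [map_mul]; group
  one_mem' := ⟨one_mem _, by simp⟩
  inv_mem' {a} := by
    rintro ⟨ha, ha'⟩
    refine ⟨inv_mem ha, ?_⟩
    obtain ⟨i, hi⟩ := mem_zpowers_iff.1 ha'
    refine mem_zpowers_iff.2 ⟨-i, ?_⟩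
    have hc : a⁻¹ * s ^ (-i) = s ^ (-i) * a⁻¹ :=
      (((show Commute a s from hs a ha).zpow_right (-i)).inv_left).eq
    calc s ^ (-i) = a⁻¹ * s ^ (-i) * a := by rw [hc]; group
      _ = a⁻¹ * (β a * a⁻¹)⁻¹ * a := by rw [zpow_neg, hi]
      _ = β a⁻¹ * a⁻¹⁻¹ := by rw [map_inv]; group

variable [Finite G]

/-- The conditions on an involutory automorphism. -/
structure Beta (S : Sylow 2 G) (β : MulAut G) : Prop where
  invol : ∀ x, β (β x) = x
  fixS : ∀ s ∈ (S : Subgroup G), β s = s
  locals : ∀ D, H71.GoldOK (S : Subgroup G) D 2 → ∀ n ∈ normalizer (D : Set G),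
    β n * n⁻¹ ∈ (pPrimeCore 2 ↥(normalizer (D : Set G))).map (normalizer (D : Set G)).subtype

theorem exists_sqrt {o : G} (h : ¬ 2 ∣ orderOf o) : ∃ r ∈ zpowers o, r ^ 2 = o := by
  obtain ⟨m, hm⟩ := exists_pow_eq_self_of_coprime
    ((Nat.prime_two.coprime_iff_not_dvd).2 h)
  exact ⟨o ^ m, pow_mem (mem_zpowers o) m, by rw [← pow_mul, mul_comm, pow_mul, hm]⟩

theorem not_two_dvd_of_mem_core {H : Type*} [Group H] [Finite H] {o : H} (ho : o ∈ pPrimeCore 2 H) :
    ¬ 2 ∣ orderOf o := by
  haveI : Fact (Nat.Prime 2) := ⟨Nat.prime_two⟩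
  intro h
  apply Comp.not_dvd_card_pPrimeCore (G := H) 2
  refine h.trans ?_
  have := orderOf_dvd_natCard (⟨o, ho⟩ : ↥(pPrimeCore 2 H))
  rwa [Subgroup.orderOf_mk] at this

/-- An element of the normalizer of an admissible subgroup can be moved to a fixed one. -/
theorem exists_fixed_step {S : Sylow 2 G} {β : MulAut G} (B : Beta S β) {D : Subgroup G}
    (hD : H71.GoldOK (S : Subgroup G) D 2) {x : G} (hx : x ∈ normalizer (D : Set G)) :
    ∃ y ∈ fixG β, ∀ a ∈ D, y⁻¹ * a * y = x⁻¹ * a * x := by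
  set N := normalizer (D : Set G)
  set O := (pPrimeCore 2 ↥N).map N.subtype with hO
  have ho : β x * x⁻¹ ∈ O := B.locals D hD x hx
  set o := β x * x⁻¹ with hodef
  have hodd : ¬ 2 ∣ orderOf o := by
    obtain ⟨o', ho', he⟩ := ho
    rw [← he, Subgroup.coe_subtype, Subgroup.orderOf_coe]
    exact not_two_dvd_of_mem_core ho'
  have hβo : β o = o⁻¹ := by rw [hodef, map_mul, map_inv, B.invol]; group
  obtain ⟨r, hr, hr2⟩ := exists_sqrt hodd
  obtain ⟨i, hi⟩ := mem_zpowers_iff.1 hr
  have hβr : β r = r⁻¹ := by rw [← hi, map_zpow, hβo, inv_zpow]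
  refine ⟨r * x, ?_, fun a ha => ?_⟩
  · rw [mem_fixG, map_mul, hβr, show β x = o * x by rw [hodef, inv_mul_cancel_right]]
    calc r⁻¹ * (o * x) = r⁻¹ * (r ^ 2 * x) := by rw [hr2]
      _ = r * x := by rw [sq]; group
  · have hrO : r ∈ O := (zpowers_le.2 ho) hr
    have hra : r * a = a * r := hD.2.2.1.2.2.1 r hrO a ha
    calc (r * x)⁻¹ * a * (r * x) = x⁻¹ * (r⁻¹ * (a * r)) * x := by group
      _ = x⁻¹ * a * x := by rw [← hra, inv_mul_cancel_left]

theorem exists_fixed_chain {S : Sylow 2 G} {β : MulAut G} (B : Beta S β) :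
    ∀ (l : List (Subgroup G × G)) (A : Set G), H71.GoldChain (S : Subgroup G) 2 A l →
      ∃ h ∈ fixG β, ∀ a ∈ A, h⁻¹ * a * h = ((l.map Prod.snd).prod)⁻¹ * a * (l.map Prod.snd).prod := by
  intro l
  induction l with
  | nil => exact fun A _ => ⟨1, one_mem _, fun a _ => by simp⟩
  | cons d l ih =>
    intro A hA
    obtain ⟨hOK, hx, hAD, hrest⟩ := hA
    obtain ⟨y, hy, hya⟩ := exists_fixed_step B hOK hx
    obtain ⟨h, hh, hha⟩ := ih _ hrest
    refine ⟨y * h, mul_mem hy hh, fun a ha => ?_⟩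
    have h1 := hha _ ⟨a, ha, rfl⟩
    simp only [List.map_cons, List.prod_cons]
    calc (y * h)⁻¹ * a * (y * h) = h⁻¹ * (y⁻¹ * a * y) * h := by group
      _ = h⁻¹ * (d.2⁻¹ * a * d.2) * h := by rw [hya a (hAD ha)]
      _ = _ := by rw [h1]; group

/-- Fusion inside `S` is realized by fixed elements. -/
theorem fusion_fixed {S : Sylow 2 G} {β : MulAut G} (B : Beta S β) {R : Subgroup G}
    (hR : R ≤ (S : Subgroup G)) {g : G} (hg : ∀ a ∈ R, g⁻¹ * a * g ∈ (S : Subgroup G)) :
    ∃ h ∈ fixG β, ∀ a ∈ R, h⁻¹ * a * h = g⁻¹ * a * g := by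
  haveI : Fact (Nat.Prime 2) := ⟨Nat.prime_two⟩
  have hg' : H71.cjBy g R ≤ (S : Subgroup G) := by
    rintro _ ⟨a, ha, rfl⟩
    simpa using hg a ha
  obtain ⟨c, l, -, hc, hl, rfl⟩ :=
    H71.goldGood_sylow S (Nat.card (S : Subgroup G)) R g (Nat.le_add_left _ _) hR hg'
  obtain ⟨h, hh, hha⟩ := exists_fixed_chain B l _ hl
  refine ⟨h, hh, fun a ha => ?_⟩
  rw [hha a ha]
  have h1 : a * c = c * a := hc a ha
  calc ((l.map Prod.snd).prod)⁻¹ * a * (l.map Prod.snd).prod
      = ((l.map Prod.snd).prod)⁻¹ * (c⁻¹ * (c * a)) * (l.map Prod.snd).prod := by group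
    _ = _ := by rw [← h1]; group

theorem isPGroup_map_conj {P : Subgroup G} (hP : IsPGroup 2 ↥P) (g : G) :
    IsPGroup 2 ↥(P.map (MulAut.conj g).toMonoidHom) := hP.map _

/-- The key step: no involution is a twisted commutator with a fixed Sylow subgroup. -/
theorem eq_one_of_twist {S : Sylow 2 G} {β : MulAut G} (B : Beta S β) {g t : G}
    (hgt : β g = t * g) (ht : β t = t) (ht2 : t * t = 1) : t = 1 := by
  haveI : Fact (Nat.Prime 2) := ⟨Nat.prime_two⟩
  have hSF : (S : Subgroup G) ≤ fixG β := fun s hs => B.fixS s hs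
  -- Sylow conjugation inside the fixed subgroup
  have hcon : ∀ Q : Subgroup G, IsPGroup 2 ↥Q → Q ≤ fixG β →
      ∃ f ∈ fixG β, ∀ x ∈ Q, f * x * f⁻¹ ∈ (S : Subgroup G) := by
    intro Q hQ hQF
    obtain ⟨m, hm, hle⟩ := H71.exists_cjBy_le S.isPGroup' hSF
      (fun h => S.not_dvd_index (h.trans (relIndex_dvd_index_of_le hSF))) hQ hQF
    exact ⟨m⁻¹, inv_mem hm, fun x hx => hle ⟨x, hx, rfl⟩⟩
  -- move `t` into `S`
  have hzt : IsPGroup 2 ↥(zpowers t) := by
    rintro ⟨x, hx⟩
    obtain ⟨i, rfl⟩ := mem_zpowers_iff.1 hx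
    refine ⟨1, Subtype.ext ?_⟩
    show (t ^ i) ^ 2 ^ 1 = 1
    rw [pow_one, ← zpow_natCast, ← zpow_mul, mul_comm, zpow_mul, zpow_natCast, sq, ht2, one_zpow]
  obtain ⟨f, hf, hfS⟩ := hcon _ hzt (zpowers_le.2 ht)
  set s := f * t * f⁻¹ with hs
  have hsS : s ∈ (S : Subgroup G) := hfS t (mem_zpowers t)
  suffices s = 1 by rwa [hs, conj_eq_one_iff] at this
  have hs2 : s * s = 1 := by rw [hs]; simp [mul_assoc, ← mul_assoc t t, ht2]
  have hg1 : β (f * g) = s * (f * g) := by
    rw [map_mul, show β f = f from hf, hgt, hs]; group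
  set g' := f * g with hg'
  -- `P = C_S(s)` is fixed by the conjugate automorphism
  set P := (S : Subgroup G) ⊓ centralizer ({s} : Set G) with hP
  have hsP : s ∈ P := ⟨hsS, mem_centralizer_singleton_iff.2 rfl⟩
  have hPcomm : ∀ a ∈ P, a * s = s * a := fun a ha => mem_centralizer_singleton_iff.1 ha.2
  have hPp : IsPGroup 2 ↥P := S.isPGroup'.to_le inf_le_left
  have hPF : P.map (MulAut.conj g'⁻¹).toMonoidHom ≤ fixG β := by
    rintro _ ⟨a, ha, rfl⟩
    show β (g'⁻¹ * a * g'⁻¹⁻¹) = g'⁻¹ * a * g'⁻¹⁻¹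
    rw [inv_inv, map_mul, map_mul, map_inv, hg1, B.fixS a ha.1]
    calc (s * g')⁻¹ * a * (s * g') = g'⁻¹ * s⁻¹ * (a * s) * g' := by group
      _ = g'⁻¹ * a * g' := by rw [hPcomm a ha]; group
  obtain ⟨f₁, hf₁, hf₁S⟩ := hcon _ (hPp.map _) hPF
  set g₁ := g' * f₁⁻¹ with hg₁
  obtain ⟨h, hh, hha⟩ := fusion_fixed B (R := P) inf_le_left (g := g₁) (fun a ha => by
    have h1 := hf₁S _ ⟨a, ha, rfl⟩
    rw [hg₁]
    simpa [mul_assoc] using h1)
  set c := g₁ * h⁻¹ with hc
  have hβc : β c = s * c := by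
    rw [hc, hg₁, map_mul, map_mul, map_inv, map_inv, show β h = h from hh, show β f₁ = f₁ from hf₁,
      hg1]
    group
  have hcP : ∀ a ∈ P, c * a = a * c := by
    intro a ha
    calc c * a = g₁ * (h⁻¹ * a * h) * h⁻¹ := by rw [hc]; group
      _ = a * c := by rw [hha a ha, hc]; group
  clear_value c
  -- make the centralizer of `P` have its Sylow subgroup inside `S`
  obtain ⟨Q₀⟩ : Nonempty (Sylow 2 ↥(centralizer (P : Set G))) := inferInstance
  set Q := (Q₀ : Subgroup ↥(centralizer (P : Set G))).map (centralizer (P : Set G)).subtype with hQ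
  have hQp : IsPGroup 2 ↥Q := Q₀.isPGroup'.map _
  have hPQ : IsPGroup 2 ↥(P ⊔ Q) := by
    refine hPp.to_sup_of_normal_left' hQp ?_
    intro q hq
    have hqc : q ∈ centralizer (P : Set G) := map_subtype_le _ hq
    exact centralizer_le_normalizer _ hqc
  obtain ⟨T, hT⟩ := hPQ.exists_le_sylow
  obtain ⟨g₂, hg₂⟩ := MulAction.exists_smul_eq G T S
  have hin : ∀ x ∈ P ⊔ Q, g₂ * x * g₂⁻¹ ∈ (S : Subgroup G) := by
    intro x hx
    rw [← hg₂, Sylow.coe_subgroup_smul, Subgroup.mem_pointwise_smul_iff_inv_smul_mem]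
    simpa [mul_assoc] using hT hx
  obtain ⟨k, hk, hka⟩ := fusion_fixed B (R := P) inf_le_left (g := g₂⁻¹) (fun a ha => by
    rw [inv_inv]; exact hin a (mem_sup_left ha))
  have hkP : ∀ a ∈ P, k⁻¹ * a * k = g₂ * a * g₂⁻¹ := fun a ha => by rw [hka a ha, inv_inv]
  -- the twisted subgroup of `C(P')`
  set P' := P.map (MulAut.conj g₂).toMonoidHom with hP'
  set C := centralizer (P' : Set G) with hC
  set s' := g₂ * s * g₂⁻¹ with hs'
  have hs'P : s' ∈ P' := ⟨s, hsP, rfl⟩
  have hCs : ∀ x ∈ C, x * s' = s' * x := fun x hx => (mem_centralizer_iff.1 hx s' hs'P).symm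
  set C₁ := twisted β C s' hCs with hC₁
  set d := k⁻¹ * c * k with hd
  have hdC : d ∈ C := by
    refine mem_centralizer_iff.2 ?_
    rintro _ ⟨a, ha, rfl⟩
    show g₂ * a * g₂⁻¹ * d = d * (g₂ * a * g₂⁻¹)
    rw [← hkP a ha, hd]
    calc k⁻¹ * a * k * (k⁻¹ * c * k) = k⁻¹ * (a * c) * k := by group
      _ = _ := by rw [← hcP a ha]; group
  have hβd : β d = s' * d := by
    rw [hd, map_mul, map_mul, map_inv, show β k = k from hk, hβc, hs', ← hkP s hsP]
    group
  have hd₁ : d ∈ C₁ := ⟨hdC, by rw [hβd, mul_inv_cancel_right]; exact mem_zpowers s'⟩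
  set Q' := Q.map (MulAut.conj g₂).toMonoidHom with hQ'
  have hQ'C : Q' ≤ C := by
    rintro _ ⟨q, hq, rfl⟩
    refine mem_centralizer_iff.2 ?_
    rintro _ ⟨a, ha, rfl⟩
    show g₂ * a * g₂⁻¹ * (g₂ * q * g₂⁻¹) = g₂ * q * g₂⁻¹ * (g₂ * a * g₂⁻¹)
    have hqc : a * q = q * a := mem_centralizer_iff.1 (map_subtype_le _ hq) a ha
    calc g₂ * a * g₂⁻¹ * (g₂ * q * g₂⁻¹) = g₂ * (a * q) * g₂⁻¹ := by group
      _ = _ := by rw [hqc]; group
  set F₁ := C₁ ⊓ fixG β with hF₁
  have hQ'F : Q' ≤ F₁ := by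
    rintro _ ⟨q, hq, rfl⟩
    have hfx : β (g₂ * q * g₂⁻¹) = g₂ * q * g₂⁻¹ := B.fixS _ (hin q (mem_sup_right hq))
    exact ⟨⟨hQ'C ⟨q, hq, rfl⟩, by
      show β (g₂ * q * g₂⁻¹) * (g₂ * q * g₂⁻¹)⁻¹ ∈ zpowers s'
      rw [hfx, mul_inv_cancel]; exact one_mem _⟩, hfx⟩
  by_contra hne
  have hne' : s' ≠ 1 := fun h => hne (conj_eq_one_iff.1 h)
  have hdF : d ∉ F₁ := fun h => hne' (mul_eq_right.1 (hβd.symm.trans h.2))
  have hzero : ∀ z ∈ zpowers s', z = 1 ∨ z = s' := by
    intro z hz
    obtain ⟨i, rfl⟩ := mem_zpowers_iff.1 hz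
    have h2 : s' ^ (2 : ℤ) = 1 := by
      rw [zpow_two, hs']
      calc g₂ * s * g₂⁻¹ * (g₂ * s * g₂⁻¹) = g₂ * (s * s) * g₂⁻¹ := by group
        _ = 1 := by rw [hs2]; group
    rcases Int.even_or_odd i with ⟨j, rfl⟩ | ⟨j, rfl⟩
    · left; rw [← two_mul, zpow_mul, h2, one_zpow]
    · right; rw [zpow_add, zpow_mul, h2, one_zpow, one_mul, zpow_one]
  have hindex : F₁.relIndex C₁ = 2 := by
    refine (index_eq_two_iff (H := F₁.subgroupOf C₁)).2 ⟨⟨d, hd₁⟩, fun x => ?_⟩
    have hxC : (x : G) ∈ C := x.2.1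
    have hprod : β ((x : G) * d) * ((x : G) * d)⁻¹ = (β (x : G) * (x : G)⁻¹) * s' := by
      rw [map_mul, hβd, mul_inv_rev]
      calc β (x : G) * (s' * d) * (d⁻¹ * (x : G)⁻¹) = β (x : G) * (s' * (x : G)⁻¹) := by group
        _ = _ := by
          rw [show s' * (x : G)⁻¹ = (x : G)⁻¹ * s' from
            ((show Commute (x : G) s' from hCs _ hxC).inv_left).eq.symm]
          group
    simp only [mem_subgroupOf, Subgroup.coe_mul, hF₁, Subgroup.mem_inf, x.2, mul_mem x.2 hd₁,
      true_and, mem_fixG]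
    rcases hzero _ x.2.2 with hx1 | hx1
    · refine Or.inr ⟨mul_inv_eq_one.1 hx1, fun h => hne' ?_⟩
      rw [← mul_inv_eq_one, hprod, hx1, one_mul] at h
      exact h
    · refine Or.inl ⟨mul_inv_eq_one.1 ?_, fun h => hne' ?_⟩
      · rw [hprod, hx1, ← sq]
        rcases hzero _ (pow_mem (mem_zpowers s') 2) with h | h
        · exact h
        · exact absurd (by simpa [sq] using h) hne'
      · rw [← mul_inv_eq_one] at h
        exact hx1.symm.trans h
  have hcardQ : Nat.card Q' = Nat.card ↥(Q₀ : Subgroup ↥(centralizer (P : Set G))) := by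
    rw [hQ', card_map_of_injective (MulAut.conj g₂).injective, hQ,
      card_map_of_injective (subtype_injective _)]
  have hCC : Nat.card C = Nat.card ↥(centralizer (P : Set G)) := by
    have h1 : C = (centralizer (P : Set G)).map (MulAut.conj g₂).toMonoidHom := by
      ext x
      constructor
      · intro hx
        refine ⟨g₂⁻¹ * x * g₂, mem_centralizer_iff.2 fun a ha => ?_, by
          show g₂ * (g₂⁻¹ * x * g₂) * g₂⁻¹ = x
          group⟩
        have h := mem_centralizer_iff.1 hx (g₂ * a * g₂⁻¹) ⟨a, ha, rfl⟩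
        calc a * (g₂⁻¹ * x * g₂) = g₂⁻¹ * (g₂ * a * g₂⁻¹ * x) * g₂ := by group
          _ = g₂⁻¹ * x * g₂ * a := by rw [h]; group
      · rintro ⟨y, hy, rfl⟩
        refine mem_centralizer_iff.2 ?_
        rintro _ ⟨a, ha, rfl⟩
        have h := mem_centralizer_iff.1 hy a ha
        show g₂ * a * g₂⁻¹ * (g₂ * y * g₂⁻¹) = g₂ * y * g₂⁻¹ * (g₂ * a * g₂⁻¹)
        calc g₂ * a * g₂⁻¹ * (g₂ * y * g₂⁻¹) = g₂ * (a * y) * g₂⁻¹ := by group
          _ = _ := by rw [h]; group
    rw [h1, card_map_of_injective (MulAut.conj g₂).injective]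
  have hdvd : 2 * Nat.card Q' ∣ Nat.card C := by
    refine dvd_trans ?_ (card_dvd_of_le (show C₁ ≤ C from fun x hx => hx.1))
    have h := card_subgroup_dvd_card (F₁.subgroupOf C₁)
    rw [← (F₁.subgroupOf C₁).card_mul_index,
      show (F₁.subgroupOf C₁).index = 2 from hindex,
      Nat.card_congr (subgroupOfEquivOfLe (inf_le_left : F₁ ≤ C₁)).toEquiv, mul_comm _ 2]
    exact mul_dvd_mul_left 2 (card_dvd_of_le hQ'F)
  rw [hcardQ, hCC, Q₀.card_eq_multiplicity, ← pow_succ'] at hdvd
  have h3 := (Nat.prime_two.pow_dvd_iff_le_factorization (Nat.card_pos.ne')).1 hdvd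
  omega

/-- No involutory automorphism satisfies `Beta`. -/
theorem beta_false (hO : pPrimeCore 2 G = ⊥) (hZ : Subgroup.center G = ⊥) {S : Sylow 2 G}
    {β : MulAut G} (hβ : orderOf β = 2) (B : Beta S β) : False := by
  set I : Subgroup (MulAut G) := (MulAut.conj : G →* MulAut G).range with hI
  have hconj : ∀ (α : MulAut G) (g : G), α * MulAut.conj g * α⁻¹ = MulAut.conj (α g) := by
    intro α g
    ext x
    show α (g * (α⁻¹ x) * g⁻¹) = α g * x * (α g)⁻¹
    rw [map_mul, map_mul, map_inv, MulAut.apply_inv_self]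
  have hinj : ∀ x y : G, MulAut.conj x = MulAut.conj y → x = y := by
    intro x y h
    have h1 : y⁻¹ * x ∈ Subgroup.center G := mem_center_iff.2 fun z => by
      have h2 : x * z * x⁻¹ = y * z * y⁻¹ := DFunLike.congr_fun h z
      calc z * (y⁻¹ * x) = y⁻¹ * (y * z * y⁻¹) * x := by group
        _ = y⁻¹ * x * z := by rw [← h2]; group
    rw [hZ, mem_bot, inv_mul_eq_one] at h1
    exact h1.symm
  haveI hIn : I.Normal := ⟨by rintro _ ⟨g, rfl⟩ α; exact ⟨α g, (hconj α g).symm⟩⟩
  set H : Subgroup (MulAut G) := zpowers β ⊔ I with hH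
  set u : H := ⟨β, mem_sup_left (mem_zpowers β)⟩ with hu
  have hββ : β * β = 1 := by rw [← sq, ← hβ]; exact pow_orderOf_eq_one β
  have hβinv : β⁻¹ = β := inv_eq_of_mul_eq_one_right hββ
  have hiso : Cfsg.IsIsolatedInvolution u := by
    refine ⟨by rw [hu, Subgroup.orderOf_mk, hβ], fun x hx => ?_⟩
    have hxH : (x : MulAut G) ∈ (((zpowers β ⊔ I : Subgroup (MulAut G))) : Set (MulAut G)) := x.2
    rw [sup_comm, Subgroup.normal_mul] at hxH
    obtain ⟨_, ⟨g, rfl⟩, e, he, hxe⟩ := hxH
    obtain ⟨i, rfl⟩ := mem_zpowers_iff.1 he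
    have hxe' : MulAut.conj g * β ^ i = (x : MulAut G) := hxe
    set t := g * (β g)⁻¹ with ht
    have hval : (x : MulAut G) * β * (x : MulAut G)⁻¹ = MulAut.conj t * β := by
      rw [← hxe', mul_inv_rev, ht, map_mul, map_inv, ← hconj β g, hβinv]
      calc MulAut.conj g * β ^ i * β * ((β ^ i)⁻¹ * (MulAut.conj g)⁻¹)
          = MulAut.conj g * β * (MulAut.conj g)⁻¹ := by group
        _ = MulAut.conj g * (β * MulAut.conj g * β)⁻¹ * β := by
            rw [mul_inv_rev, mul_inv_rev, hβinv]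
            calc _ = MulAut.conj g * β * (MulAut.conj g)⁻¹ * (β * β) := by rw [hββ, mul_one]
              _ = _ := by simp only [mul_assoc]
    have hcomm : β * (MulAut.conj t * β) = (MulAut.conj t * β) * β := by
      rw [← hval]
      exact congrArg Subtype.val hx.eq
    have hβt : β t = t := by
      refine hinj _ _ ?_
      rw [← hconj β t, hβinv, mul_assoc, hcomm, mul_assoc, hββ, mul_one]
    have ht2 : t * t = 1 := by
      have h1 : β t = t⁻¹ := by rw [ht, map_mul, map_inv, B.invol]; group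
      calc t * t = t * β t := by rw [hβt]
        _ = 1 := by rw [h1, mul_inv_cancel]
    have ht1 : t = 1 := by
      have hgt : β g = t * g := by
        rw [show t = t⁻¹ from (inv_eq_of_mul_eq_one_right ht2).symm, ht]
        group
      exact eq_one_of_twist B hgt hβt ht2
    apply Subtype.ext
    show (x : MulAut G) * β * (x : MulAut G)⁻¹ = β
    rw [hval, ht1, map_one, one_mul]
  have hcen := H85.zStar hiso
  haveI := H1.pPrimeCore_normal' 2 ↥H
  set M := pPrimeCore 2 ↥H with hM
  let j : G →* ↥H := (MulAut.conj : G →* MulAut G).codRestrict H fun g => mem_sup_right ⟨g, rfl⟩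
  have hj : Function.Injective j := fun x y h => hinj x y (congrArg Subtype.val h)
  have hMbot : M.comap j = ⊥ := by
    refine le_bot_iff.1 (hO ▸ H1.le_pPrimeCore ?_)
    refine Nat.Coprime.coprime_dvd_left ?_ (H1.card_pPrimeCore_coprime 2 ↥H)
    exact card_comap_dvd_of_injective M j hj
  apply (show orderOf β ≠ 1 by omega)
  rw [orderOf_eq_one_iff]
  ext g
  have h1 : u * j g * u⁻¹ * (j g)⁻¹ ∈ M := hcen (j g)
  have h2 : u * j g * u⁻¹ * (j g)⁻¹ = j (β g * g⁻¹) := by
    apply Subtype.ext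
    show β * MulAut.conj g * β⁻¹ * (MulAut.conj g)⁻¹ = MulAut.conj (β g * g⁻¹)
    rw [hconj, map_mul, map_inv]
  rw [h2, ← Subgroup.mem_comap, hMbot, mem_bot, mul_inv_eq_one] at h1
  exact h1

/-- The automorphisms fixing `S` elementwise. -/
def fixAut (S : Subgroup G) : Subgroup (MulAut G) where
  carrier := {α | ∀ s ∈ S, α s = s}
  mul_mem' {a b} ha hb := fun s hs => by rw [MulAut.mul_apply, hb s hs, ha s hs]
  one_mem' := fun _ _ => rfl
  inv_mem' {a} ha := fun s hs => by
    conv_lhs => rw [← ha s hs]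
    exact MulAut.inv_apply_self _ a s

/-- The `D`-part of the displacement of an element of an admissible local subgroup. -/
theorem exists_displacement {S : Sylow 2 G} (k : fixAut (S : Subgroup G)) {D : Subgroup G}
    (hD : H71.GoldOK (S : Subgroup G) D 2) {n : G} (hn : n ∈ normalizer (D : Set G)) :
    ∃! d, d ∈ D ∧ (∀ a ∈ D, d * a = a * d) ∧ ∃ o ∈
      (pPrimeCore 2 ↥(normalizer (D : Set G))).map (normalizer (D : Set G)).subtype,
        (k : MulAut G) n * n⁻¹ = o * d := by
  obtain ⟨hDS, hcen, hdir, -⟩ := hD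
  set O := (pPrimeCore 2 ↥(normalizer (D : Set G))).map (normalizer (D : Set G)).subtype with hOdef
  have hOD : O ≤ normalizer (D : Set G) := map_subtype_le _
  have hcomm : ∀ o ∈ O, ∀ a ∈ D, o * a = a * o := hdir.2.2.1
  have hkD : ∀ a ∈ D, (k : MulAut G) a = a := fun a ha => k.2 a (hDS ha)
  have hc : (k : MulAut G) n * n⁻¹ ∈ centralizer (D : Set G) := by
    refine mem_centralizer_iff.2 fun a ha => ?_
    have h1 : n⁻¹ * a * n ∈ D := (mem_normalizer_iff''.1 hn a).1 ha
    have h2 := hkD _ h1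
    rw [map_mul, map_mul, map_inv, hkD a ha] at h2
    calc a * ((k : MulAut G) n * n⁻¹) = (k : MulAut G) n * (((k : MulAut G) n)⁻¹ * a * (k : MulAut G) n) * n⁻¹ := by group
      _ = _ := by rw [h2]; group
  have hsup := hcen hc
  rw [← hdir.2.2.2.2] at hsup
  have hDN : D ≤ normalizer (D : Set G) := le_normalizer
  have hnorm : D ≤ normalizer (O : Set G) := fun a ha =>
    centralizer_le_normalizer _ (mem_centralizer_iff.2 fun o ho => hcomm o ho a ha)
  rw [← SetLike.mem_coe, Subgroup.coe_mul_of_right_le_normalizer_left _ _ hnorm] at hsup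
  obtain ⟨o, ho, d, hd, he⟩ := hsup
  have he' : o * d = (k : MulAut G) n * n⁻¹ := he
  refine ⟨d, ⟨hd, fun a ha => ?_, o, ho, he'.symm⟩, ?_⟩
  · have h1 : a * (o * d) = o * d * a := by rw [he']; exact mem_centralizer_iff.1 hc a ha
    rw [← mul_assoc, ← hcomm o ho a ha, mul_assoc, mul_assoc] at h1
    exact (mul_left_cancel h1).symm
  · rintro d' ⟨hd', -, o', ho', he''⟩
    have h1 : o⁻¹ * o' = d * d'⁻¹ := by
      calc o⁻¹ * o' = o⁻¹ * (o' * d') * d'⁻¹ := by group
        _ = d * d'⁻¹ := by rw [← he'', ← he']; group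
    have h2 : o⁻¹ * o' ∈ O ⊓ D :=
      Subgroup.mem_inf.2 ⟨mul_mem (inv_mem ho) ho', by rw [h1]; exact mul_mem hd (inv_mem hd')⟩
    rw [hdir.2.2.2.1, mem_bot, h1, mul_inv_eq_one] at h2
    exact h2.symm

/-- The displacement as a homomorphism. -/
noncomputable def displacement (S : Sylow 2 G) {D : Subgroup G} (hD : H71.GoldOK (S : Subgroup G) D 2)
    {n : G} (hn : n ∈ normalizer (D : Set G)) : fixAut (S : Subgroup G) →* G :=
  MonoidHom.mk' (fun k => Classical.choose (exists_displacement k hD hn).exists) <| by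
    intro k l
    obtain ⟨hdk, hdkc, o, ho, hek⟩ := Classical.choose_spec (exists_displacement k hD hn).exists
    obtain ⟨hdl, -, o', ho', hel⟩ := Classical.choose_spec (exists_displacement l hD hn).exists
    set dk := Classical.choose (exists_displacement k hD hn).exists
    set dl := Classical.choose (exists_displacement l hD hn).exists
    obtain ⟨d, hd, huni⟩ := exists_displacement (k * l) hD hn
    rw [huni _ (Classical.choose_spec (exists_displacement (k * l) hD hn).exists)]
    refine (huni _ ⟨mul_mem hdk hdl, fun a ha => ?_, (k : MulAut G) o' * o, ?_, ?_⟩).symm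
    · obtain ⟨-, hdlc, -⟩ := Classical.choose_spec (exists_displacement l hD hn).exists
      exact ((show Commute dk a from hdkc a ha).mul_left (hdlc a ha)).eq
    · refine mul_mem ?_ ho
      obtain ⟨hDS, -, -, -⟩ := hD
      set N := normalizer (D : Set G) with hN
      have hmap : ∀ x, x ∈ N ↔ (k : MulAut G) x ∈ N := by
        intro x
        simp only [hN, mem_normalizer_iff]
        constructor
        · intro h a
          constructor
          · intro ha
            have h1 := (h a).1 ha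
            rw [show (k : MulAut G) x * a * ((k : MulAut G) x)⁻¹ = (k : MulAut G) (x * a * x⁻¹) by
              rw [map_mul, map_mul, map_inv, k.2 a (hDS ha)], k.2 _ (hDS h1)]
            exact h1
          · intro ha
            have h1 := k.2 _ (hDS ha)
            have h2 : x * a * x⁻¹ = (k : MulAut G) x * a * ((k : MulAut G) x)⁻¹ →
                a ∈ D := fun e => (h a).2 (e ▸ ha)
            obtain ⟨b, hb, hb'⟩ : ∃ b ∈ D, x * b * x⁻¹ = (k : MulAut G) x * a * ((k : MulAut G) x)⁻¹ :=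
              ⟨x⁻¹ * ((k : MulAut G) x * a * ((k : MulAut G) x)⁻¹) * x, (h _).2 (by
                simpa [mul_assoc] using ha), by group⟩
            have h3 : (k : MulAut G) (x * b * x⁻¹) = x * b * x⁻¹ := by rw [hb']; exact h1
            rw [map_mul, map_mul, map_inv, k.2 b (hDS hb)] at h3
            rw [hb'] at h3
            have : b = a := mul_left_cancel (mul_right_cancel h3)
            exact this ▸ hb
        · intro h a
          constructor
          · intro ha
            have h1 := (h a).1 ha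
            rw [show (k : MulAut G) x * a * ((k : MulAut G) x)⁻¹ = (k : MulAut G) (x * a * x⁻¹) by
              rw [map_mul, map_mul, map_inv, k.2 a (hDS ha)]] at h1
            have h2 := k.2 _ (hDS h1)
            rwa [← (k : MulAut G).injective h2]
          · intro ha
            refine (h a).2 ?_
            have h1 := k.2 _ (hDS ha)
            rw [map_mul, map_mul, map_inv] at h1
            obtain ⟨b, hb, hb'⟩ : ∃ b ∈ D,
                (k : MulAut G) x * b * ((k : MulAut G) x)⁻¹ = x * a * x⁻¹ :=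
              ⟨((k : MulAut G) x)⁻¹ * (x * a * x⁻¹) * (k : MulAut G) x, (h _).2 (by
                simpa [mul_assoc] using ha), by group⟩
            have h3 : (k : MulAut G) (x * b * x⁻¹) = (k : MulAut G) (x * a * x⁻¹) := by
              rw [map_mul, map_mul, map_inv, k.2 b (hDS hb), hb', k.2 _ (hDS ha)]
            have : b = a := mul_left_cancel (mul_right_cancel ((k : MulAut G).injective h3))
            rw [← this] at ha ⊢
            rw [← this] at hb'
            rwa [hb']
      let e : ↥N ≃* ↥N :=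
        { toFun := fun x => ⟨(k : MulAut G) x, (hmap _).1 x.2⟩
          invFun := fun x => ⟨(k : MulAut G).symm x, (hmap _).2 (by simp)⟩
          left_inv := fun x => Subtype.ext (by simp)
          right_inv := fun x => Subtype.ext (by simp)
          map_mul' := fun x y => Subtype.ext (map_mul (k : MulAut G) _ _) }
      obtain ⟨o'', ho'', rfl⟩ := ho'
      refine ⟨e o'', ?_, rfl⟩
      rw [← H1.map_pPrimeCore_equiv 2 e]
      exact ⟨o'', ho'', rfl⟩
    · show (k : MulAut G) ((l : MulAut G) n) * n⁻¹ = _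
      have hl' : (l : MulAut G) n = o' * dl * n := by rw [← hel, inv_mul_cancel_right]
      have hk' : (k : MulAut G) n = o * dk * n := by rw [← hek, inv_mul_cancel_right]
      rw [hl', map_mul, map_mul, k.2 dl (hD.1 hdl), hk']
      have hc : dl * o = o * dl := (hD.2.2.1.2.2.1 o ho dl hdl).symm
      have hd : dl * dk = dk * dl := (hdkc dl hdl).symm
      calc (k : MulAut G) o' * dl * (o * dk * n) * n⁻¹
          = (k : MulAut G) o' * (dl * o) * dk := by group
        _ = (k : MulAut G) o' * o * (dl * dk) := by rw [hc]; group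
        _ = _ := by rw [hd]

/-- The kernel of all displacement maps. -/
noncomputable def allKer (S : Sylow 2 G) : Subgroup (fixAut (S : Subgroup G)) :=
  ⨅ (D : Subgroup G) (hD : H71.GoldOK (S : Subgroup G) D 2) (n : G)
    (hn : n ∈ normalizer (D : Set G)), (displacement S hD hn).ker

theorem odd_allKer (hO : pPrimeCore 2 G = ⊥) (hZ : Subgroup.center G = ⊥) (S : Sylow 2 G) :
    Odd (Nat.card (allKer S)) := by
  rw [Nat.odd_iff, ← Nat.not_even_iff, even_iff_two_dvd]
  intro h
  haveI : Fact (Nat.Prime 2) := ⟨Nat.prime_two⟩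
  obtain ⟨⟨⟨β, hβfix⟩, hβker⟩, hβ⟩ := exists_prime_orderOf_dvd_card' 2 h
  have hord : orderOf β = 2 := by
    rw [← Subgroup.orderOf_mk β hβfix, ← Subgroup.orderOf_mk _ hβker, hβ]
  refine beta_false hO hZ hord ⟨fun x => ?_, hβfix, fun D hD n hn => ?_⟩
  · rw [← MulAut.mul_apply, ← sq, ← hord, pow_orderOf_eq_one, MulAut.one_apply]
  · simp only [allKer, mem_iInf, MonoidHom.mem_ker] at hβker
    obtain ⟨-, -, o, ho, he⟩ :=
      Classical.choose_spec (exists_displacement ⟨β, hβfix⟩ hD hn).exists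
    have h1 : Classical.choose (exists_displacement ⟨β, hβfix⟩ hD hn).exists = 1 := hβker D hD n hn
    rw [h1, mul_one] at he
    exact he ▸ ho

/-- **Glauberman.** The automorphisms fixing a Sylow 2-subgroup elementwise form a solvable group. -/
theorem solvable_fixAut (hFT : OddOrderSolvable.{u}) (hO : pPrimeCore 2 G = ⊥)
    (hZ : Subgroup.center G = ⊥) (S : Sylow 2 G) : Group.IsSolvable (fixAut (S : Subgroup G)) := by
  haveI := hFT (allKer S) (odd_allKer hO hZ S)
  have hle : commutator (fixAut (S : Subgroup G)) ≤ allKer S := by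
    rw [commutator_def, commutator_le]
    intro k _ l _
    simp only [allKer, mem_iInf, MonoidHom.mem_ker]
    intro D hD n hn
    rw [commutatorElement_def, map_mul, map_mul, map_mul, map_inv, map_inv]
    obtain ⟨hdk, hdkc, -⟩ := Classical.choose_spec (exists_displacement k hD hn).exists
    obtain ⟨hdl, -, -⟩ := Classical.choose_spec (exists_displacement l hD hn).exists
    have hc : Commute (displacement S hD hn k) (displacement S hD hn l) := hdkc _ hdl
    rw [hc.eq, mul_inv_cancel_right, mul_inv_cancel]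
  haveI : Group.IsSolvable (commutator (fixAut (S : Subgroup G))) :=
    Group.isSolvable_of_isSolvable_injective (Subgroup.inclusion_injective hle)
  haveI : Group.IsSolvable (fixAut (S : Subgroup G) ⧸ commutator (fixAut (S : Subgroup G))) :=
    inferInstanceAs (Group.IsSolvable (Abelianization (fixAut (S : Subgroup G))))
  exact Group.isSolvable_of_ker_le_range (commutator (fixAut (S : Subgroup G))).subtype
    (QuotientGroup.mk' (commutator (fixAut (S : Subgroup G)))) (by simp)

/-- The automorphisms stabilizing `S`. -/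
def stabAut (S : Subgroup G) : Subgroup (MulAut G) where
  carrier := {α | ∀ s, α s ∈ S ↔ s ∈ S}
  mul_mem' {a b} ha hb := fun s => by rw [MulAut.mul_apply, ha, hb]
  one_mem' := fun _ => Iff.rfl
  inv_mem' {a} ha := fun s => by rw [← ha, MulAut.apply_inv_self]

/-- Restriction to `S`. -/
def restrictAut (S : Subgroup G) : stabAut S →* MulAut S where
  toFun α :=
    { toFun := fun s => ⟨(α : MulAut G) s, (α.2 _).2 s.2⟩
      invFun := fun s => ⟨(α⁻¹ : stabAut S).1 s, ((α⁻¹ : stabAut S).2 _).2 s.2⟩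
      left_inv := fun s => Subtype.ext (MulAut.inv_apply_self G (α : MulAut G) s)
      right_inv := fun s => Subtype.ext (MulAut.apply_inv_self G (α : MulAut G) s)
      map_mul' := fun s t => Subtype.ext (map_mul (α : MulAut G) _ _) }
  map_one' := by ext s; rfl
  map_mul' _ _ := by ext s; rfl

/-- `Out G` is solvable if the group induced on `S` by automorphisms of `G` is solvable. -/
theorem out_solvable (hFT : OddOrderSolvable.{u}) (hO : pPrimeCore 2 G = ⊥)
    (hZ : Subgroup.center G = ⊥) (S : Sylow 2 G)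
    (hR : Group.IsSolvable (restrictAut (S : Subgroup G)).range) : Group.IsSolvable (Cfsg.Out G) := by
  haveI : Fact (Nat.Prime 2) := ⟨Nat.prime_two⟩
  haveI := hR
  haveI := solvable_fixAut hFT hO hZ S
  set R := restrictAut (S : Subgroup G)
  haveI : Group.IsSolvable R.ker := by
    have hfix : ∀ k : R.ker, ∀ s ∈ (S : Subgroup G), ((k : stabAut (S : Subgroup G)) : MulAut G) s = s := by
      intro k s hs
      have h := DFunLike.congr_fun (MonoidHom.mem_ker.1 k.2) ⟨s, hs⟩
      exact congrArg Subtype.val h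
    refine Group.isSolvable_of_isSolvable_injective (f :=
      MonoidHom.mk' (fun k : R.ker => (⟨((k : stabAut (S : Subgroup G)) : MulAut G), hfix k⟩ :
          fixAut (S : Subgroup G))) fun _ _ => rfl) ?_
    intro a b h
    apply Subtype.ext
    apply Subtype.ext
    exact congrArg (fun x : fixAut (S : Subgroup G) => (x : MulAut G)) h
  haveI : Group.IsSolvable (stabAut (S : Subgroup G)) :=
    Group.isSolvable_of_ker_le_range R.ker.subtype R.rangeRestrict (by simp [MonoidHom.ker_rangeRestrict])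
  refine Group.isSolvable_of_surjective
    (f := (QuotientGroup.mk' (Cfsg.Inn G)).comp (stabAut (S : Subgroup G)).subtype) ?_
  intro q
  obtain ⟨α, rfl⟩ := QuotientGroup.mk'_surjective (Cfsg.Inn G) q
  have hT : ¬ 2 ∣ ((S : Subgroup G).map α.toMonoidHom).index := by
    rw [index_map_of_bijective α.bijective]; exact S.not_dvd_index
  set T : Sylow 2 G := (S.isPGroup'.map α.toMonoidHom).toSylow hT
  obtain ⟨g, hg⟩ := MulAction.exists_smul_eq G T S
  refine ⟨⟨MulAut.conj g * α, fun s => ?_⟩, ?_⟩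
  · show g * α s * g⁻¹ ∈ S ↔ s ∈ S
    have h1 : ((T : Subgroup G).map (MulAut.conj g).toMonoidHom) = (S : Subgroup G) := by
      rw [← hg]; rfl
    constructor
    · intro h
      rw [← SetLike.mem_coe] at h
      obtain ⟨x, ⟨s', hs', rfl⟩, hx⟩ := h1.ge h
      have hx' : α s' = α s := mul_left_cancel (mul_right_cancel hx)
      exact α.injective hx' ▸ hs'
    · intro hs
      exact h1.le ⟨α s, ⟨s, hs, rfl⟩, rfl⟩
  · show QuotientGroup.mk' (Cfsg.Inn G) (MulAut.conj g * α) = _
    rw [map_mul, show QuotientGroup.mk' (Cfsg.Inn G) (MulAut.conj g) = 1 from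
      (QuotientGroup.eq_one_iff _).2 ⟨g, rfl⟩, one_mul]

end AutFixSylow

end H3
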