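import Cfsg.Agent.H3.AutFixSylow
import Cfsg.Agent.H27.ConjUnion
import Cfsg.Agent.H70.AbelianSylowTwo

/-!
A finite group in which no class size is divisible by four is solvable, given solvability of
groups of odd order.
-/

set_option autoImplicit false
set_option linter.style.haveILetI false

namespace H3.ClassSizeFour

open Subgroup
open scoped commutatorElement

variable {G : Type*} [Group G] [Finite G]

/-- A conjugate of `x` centralises a subgroup of index at most two of the Sylow 2-subgroup `S`. -/
theorem exists_conj (S : Sylow 2 G) {x : G}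
    (h : ¬ 4 ∣ (centralizer ({x} : Set G)).index) :
    ∃ g : G, ((centralizer ({g⁻¹ * x * g} : Set G)).subgroupOf (S : Subgroup G)).index ≤ 2 := by
  haveI : Fact (Nat.Prime 2) := ⟨Nat.prime_two⟩
  set C := centralizer ({x} : Set G) with hC
  obtain ⟨Q⟩ : Nonempty (Sylow 2 C) := inferInstance
  have hQle : (Q : Subgroup C).map C.subtype ≤ C := map_subtype_le _
  obtain ⟨P, hP⟩ := IsPGroup.exists_le_sylow (IsPGroup.map Q.isPGroup' C.subtype)
  obtain ⟨g, rfl⟩ := MulAction.exists_smul_eq G S P
  refine ⟨g, ?_⟩
  set R := (Q : Subgroup C).map C.subtype with hR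
  -- `R` conjugated into `S`
  let R' : Subgroup G := R.map (MulAut.conj g⁻¹).toMonoidHom
  have hR'S : R' ≤ (S : Subgroup G) := by
    rintro _ ⟨r, hr, rfl⟩
    have := hP hr
    rw [Sylow.coe_subgroup_smul] at this
    obtain ⟨s, hs, rfl⟩ := this
    have e : g⁻¹ * (g * s * g⁻¹) * g⁻¹⁻¹ = s := by group
    show g⁻¹ * (g * s * g⁻¹) * g⁻¹⁻¹ ∈ (S : Subgroup G)
    rw [e]
    exact hs
  have hR'C : R' ≤ centralizer ({g⁻¹ * x * g} : Set G) := by
    rintro _ ⟨r, hr, rfl⟩
    have h1 : r * x = x * r := H27.mem_cent.mp (hQle hr)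
    rw [H27.mem_cent]
    simp only [MulEquiv.coe_toMonoidHom, MulAut.conj_apply, inv_inv, mul_assoc,
      mul_inv_cancel_left]
    rw [← mul_assoc r x, h1, mul_assoc]
  have hcard : Nat.card R' = Nat.card Q := by
    rw [card_map_of_injective (MulEquiv.injective _), card_map_of_injective C.subtype_injective]
  have hle : (centralizer ({g⁻¹ * x * g} : Set G)).relIndex (S : Subgroup G) ≤
      R'.relIndex (S : Subgroup G) :=
    Nat.le_of_dvd (Nat.pos_of_ne_zero index_ne_zero_of_finite)
      (relIndex_dvd_of_le_left _ hR'C)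
  refine hle.trans ?_
  have hmul : Nat.card R' * R'.relIndex (S : Subgroup G) = Nat.card (S : Subgroup G) := by
    rw [← relIndex_bot_left, relIndex_mul_relIndex _ _ _ bot_le hR'S, relIndex_bot_left]
  have hfac : (Nat.card G).factorization 2 ≤ (Nat.card C).factorization 2 + 1 := by
    rw [← C.card_mul_index, Nat.factorization_mul Nat.card_pos.ne' index_ne_zero_of_finite,
      Finsupp.add_apply]
    have : C.index.factorization 2 ≤ 1 := by
      by_contra hlt
      exact h ((Nat.prime_two.pow_dvd_iff_le_factorization index_ne_zero_of_finite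
        (k := 2)).2 (by omega))
    omega
  rw [hcard, Q.card_eq_multiplicity, S.card_eq_multiplicity] at hmul
  by_contra hlt
  have h2 : 2 ^ (Nat.card G).factorization 2 ≤ 2 ^ ((Nat.card C).factorization 2 + 1) :=
    Nat.pow_le_pow_right (by norm_num) hfac
  rw [pow_succ] at h2
  have hpos : 0 < 2 ^ (Nat.card C).factorization 2 := pow_pos (by norm_num) _
  nlinarith

/-- If the normaliser of an abelian Sylow 2-subgroup fixes no nontrivial element of it, every
subgroup of index at most two meets every class of the normaliser. -/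
theorem exists_conj_mem [IsSimpleGroup G] (hna : ¬ IsMulCommutative G) (S : Sylow 2 G)
    (hab : IsMulCommutative ↥(S : Subgroup G)) (z : (S : Subgroup G))
    (M : Subgroup (S : Subgroup G)) (hM : M.index ≤ 2) :
    ∃ n : normalizer ((S : Subgroup G) : Set G),
      (normalizerMonoidHom (S : Subgroup G) n) z ∈ M := by
  classical
  haveI : Fact (Nat.Prime 2) := ⟨Nat.prime_two⟩
  letI : CommGroup (S : Subgroup G) :=
    { (inferInstance : Group (S : Subgroup G)) with mul_comm := hab.is_comm.comm }
  set act := normalizerMonoidHom (S : Subgroup G) with hact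
  by_contra hcon
  push Not at hcon
  have hM2 : M.index = 2 := by
    have h0 : M.index ≠ 0 := index_ne_zero_of_finite
    have h1 : M.index ≠ 1 := fun h1 => hcon 1 (by rw [index_eq_one.1 h1]; exact mem_top _)
    omega
  haveI := Fintype.ofFinite act.range
  have hodd : Odd (Nat.card act.range) := by
    rw [Nat.odd_iff, ← Nat.two_dvd_ne_zero, ← index_ker act]
    intro h2
    have hle : ((S : Subgroup G).subgroupOf (normalizer ((S : Subgroup G) : Set G))) ≤
        act.ker := by
      intro x hx
      rw [MonoidHom.mem_ker]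
      refine MulEquiv.ext fun v => Subtype.ext ?_
      show (x : G) * v * (x : G)⁻¹ = v
      have := congrArg Subtype.val (hab.is_comm.comm ⟨(x : G), hx⟩ v)
      rw [show (x : G) * v = v * x from this, mul_inv_cancel_right]
    have h3 : (S : Subgroup G).relIndex (normalizer ((S : Subgroup G) : Set G)) ∣
        (S : Subgroup G).index :=
      ⟨_, (relIndex_mul_index le_normalizer).symm⟩
    exact S.not_dvd_index ((h2.trans (index_dvd_of_le hle)).trans h3)
  let μ : (S : Subgroup G) := ∏ a : act.range, (a : MulAut (S : Subgroup G)) z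
  have hμ : μ = 1 := by
    have hcomm : commutator G = ⊤ := by
      refine (Subgroup.Normal.eq_bot_or_eq_top (H := commutator G) inferInstance).resolve_left
        fun h => hna ⟨⟨fun a b => ?_⟩⟩
      have : ⁅a, b⁆ ∈ commutator G := commutator_mem_commutator (mem_top a) (mem_top b)
      rw [h, mem_bot, commutatorElement_eq_one_iff_mul_comm] at this
      exact this
    apply Subtype.ext
    refine H70.eq_one_of_mem_commutator_of_fixed S hab μ.2 (by rw [hcomm]; exact mem_top _)
      fun n hn => ?_
    have h1 : act ⟨n, hn⟩ μ = μ := by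
      rw [map_prod]
      exact Fintype.prod_equiv (Equiv.mulLeft (⟨act ⟨n, hn⟩, ⟨_, rfl⟩⟩ : act.range)) _ _
        fun b => rfl
    exact congrArg Subtype.val h1
  haveI : M.Normal := normal_of_index_eq_two hM2
  have h2 : ∀ a : act.range, QuotientGroup.mk' M ((a : MulAut (S : Subgroup G)) z) =
      QuotientGroup.mk' M z := by
    have hne : ∀ n, QuotientGroup.mk' M (act n z) ≠ 1 := fun n h =>
      hcon n ((QuotientGroup.eq_one_iff _).1 h)
    rintro ⟨_, n, rfl⟩
    have hq : Nat.card ((S : Subgroup G) ⧸ M) = 2 := hM2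
    obtain ⟨y, -, hy⟩ := (Nat.card_eq_two_iff' (1 : (S : Subgroup G) ⧸ M)).1 hq
    have hz : QuotientGroup.mk' M z ≠ 1 := by simpa using hne 1
    rw [hy _ (hne n), hy _ hz]
  have h3 : QuotientGroup.mk' M μ = (QuotientGroup.mk' M z) ^ Nat.card act.range := by
    rw [map_prod, Finset.prod_congr rfl (fun a _ => h2 a), Finset.prod_const, Finset.card_univ,
      Nat.card_eq_fintype_card]
  rw [hμ, map_one] at h3
  have h4 : (QuotientGroup.mk' M z) ^ 2 = 1 := by
    rw [← map_pow]
    exact (QuotientGroup.eq_one_iff _).2 (sq_mem_of_index_two hM2 z)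
  have h5 := pow_gcd_eq_one.mpr ⟨h3.symm, h4⟩
  rw [Nat.Coprime.gcd_eq_one (Nat.coprime_two_right.mpr hodd), pow_one] at h5
  exact hcon 1 (by simpa using (QuotientGroup.eq_one_iff _).1 h5)

/-- A simple group of even order has a class size divisible by four, unless it is abelian. -/
theorem not_simple [IsSimpleGroup G] (hna : ¬ IsMulCommutative G) (heven : 2 ∣ Nat.card G)
    (h : ∀ x : G, ¬ 4 ∣ (centralizer ({x} : Set G)).index) : False := by
  haveI : Fact (Nat.Prime 2) := ⟨Nat.prime_two⟩
  obtain ⟨S⟩ : Nonempty (Sylow 2 G) := inferInstance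
  have key : ∃ z : (S : Subgroup G), z ≠ 1 ∧
      ∀ x : G, ∃ g : G, g⁻¹ * x * g ∈ centralizer ({(z : G)} : Set G) := by
    by_cases hsq : ∃ a : (S : Subgroup G), a ^ 2 ≠ 1
    · obtain ⟨a, ha⟩ := hsq
      refine ⟨a ^ 2, ha, fun x => ?_⟩
      obtain ⟨g, hg⟩ := exists_conj S (h x)
      refine ⟨g, ?_⟩
      set M := (centralizer ({g⁻¹ * x * g} : Set G)).subgroupOf (S : Subgroup G)
      have hmem : a ^ 2 ∈ M := by
        have h0 : M.index ≠ 0 := index_ne_zero_of_finite
        rcases (show M.index = 1 ∨ M.index = 2 by omega) with h1 | h2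
        · rw [index_eq_one.1 h1]; exact mem_top _
        · exact sq_mem_of_index_two h2 a
      exact H27.mem_cent_symm.mp (mem_subgroupOf.1 hmem)
    · push Not at hsq
      have hab : IsMulCommutative ↥(S : Subgroup G) := ⟨⟨fun a b => by
        have h1 := hsq (a * b)
        have ha := hsq a
        have hb := hsq b
        rw [pow_two] at h1 ha hb
        have e : (a * b)⁻¹ = a * b := inv_eq_of_mul_eq_one_right h1
        rwa [mul_inv_rev, inv_eq_of_mul_eq_one_right ha, inv_eq_of_mul_eq_one_right hb,
          eq_comm] at e⟩⟩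
      haveI : Nontrivial (S : Subgroup G) :=
        (nontrivial_iff_ne_bot _).mpr (S.ne_bot_of_dvd_card heven)
      obtain ⟨z, hz⟩ := exists_ne (1 : (S : Subgroup G))
      refine ⟨z, hz, fun x => ?_⟩
      obtain ⟨g, hg⟩ := exists_conj S (h x)
      obtain ⟨n, hn⟩ := exists_conj_mem hna S hab z _ hg
      refine ⟨g * n, ?_⟩
      have h1 : ((n : G) * z * (n : G)⁻¹) * (g⁻¹ * x * g) =
          (g⁻¹ * x * g) * ((n : G) * z * (n : G)⁻¹) := H27.mem_cent.mp (mem_subgroupOf.1 hn)
      rw [H27.mem_cent]
      have h2 := congrArg (fun t => (n : G)⁻¹ * t * n) h1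
      simpa [mul_assoc] using h2.symm
  obtain ⟨z, hz, hcov⟩ := key
  have htop := H27.eq_top_of_forall_conj_mem _ hcov
  rw [H27.cent_eq_top_iff] at htop
  have hcen : center G = ⊥ :=
    ((inferInstance : (center G).Normal).eq_bot_or_eq_top).resolve_right fun h' =>
      hna ⟨⟨fun a b => mem_center_iff.1 (h' ▸ mem_top b : b ∈ center G) a⟩⟩
  rw [hcen, mem_bot] at htop
  exact hz (Subtype.ext htop)

theorem solvable_of_forall_not_four_dvd.{u} (hFT : AutFixSylow.OddOrderSolvable.{u}) (n : ℕ) :
    ∀ (G : Type u) [Group G] [Finite G], Nat.card G = n →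
      (∀ x : G, ¬ 4 ∣ (centralizer ({x} : Set G)).index) → Group.IsSolvable G := by
  induction n using Nat.strong_induction_on with
  | _ n ih =>
    intro G _ _ hn h
    by_cases hN : ∃ N : Subgroup G, N.Normal ∧ N ≠ ⊥ ∧ N ≠ ⊤
    · obtain ⟨N, hNn, hN1, hN2⟩ := hN
      have h1 := N.card_mul_index
      have hi : 1 < N.index := by
        have := index_ne_zero_of_finite (H := N)
        have : N.index ≠ 1 := fun e => hN2 (index_eq_one.1 e)
        omega
      have hc : 1 < Nat.card N := by
        have : Nat.card N ≠ 1 := fun e => hN1 (eq_bot_of_card_eq N e)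
        have := Nat.card_pos (α := N)
        omega
      have hA : Group.IsSolvable N := ih (Nat.card N) (by nlinarith) N rfl fun x h4 =>
        h _ (h4.trans (H27.index_cent_normal_dvd N x))
      have hB : Group.IsSolvable (G ⧸ N) :=
        ih (Nat.card (G ⧸ N)) (by change N.index < n; nlinarith) (G ⧸ N) rfl fun x h4 => by
          obtain ⟨x, rfl⟩ := QuotientGroup.mk_surjective x
          exact h _ (h4.trans (H27.index_cent_quot_dvd N x))
      haveI := hA
      haveI := hB
      exact Group.isSolvable_of_ker_le_range N.subtype (QuotientGroup.mk' N)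
        (by rw [QuotientGroup.ker_mk', range_subtype])
    · rcases Nat.even_or_odd (Nat.card G) with heven | hodd
      · by_contra hns
        have hna : ¬ IsMulCommutative G := fun hc =>
          hns (Group.isSolvable_of_comm fun a b => hc.is_comm.comm a b)
        haveI : Nontrivial G := not_subsingleton_iff_nontrivial.1 fun hs =>
          hna ⟨⟨fun a b => Subsingleton.elim _ _⟩⟩
        haveI : IsSimpleGroup G :=
          ⟨fun N hNn => by
            by_contra hc
            push Not at hc
            exact hN ⟨N, hNn, hc.1, hc.2⟩⟩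
        exact not_simple hna heven.two_dvd h
      · exact hFT G hodd

end H3.ClassSizeFour
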