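import Cfsg.Prelude.Def_EvenTechniques
import Cfsg.Prelude.Def_CaseTheorems
import Cfsg.Agent.H71.Delta
import Cfsg.Agent.H7.RankGraph
import Cfsg.Agent.CompLayer
import Mathlib.GroupTheory.FixedPointFree

/-!
The cores `O(C(y))`, `y` in an elementary abelian 2-group `Y` of order at least 8, when no `C(y)` has
components and some `C(z)` has characteristic 2: they are abelian, inverted by `z`, balanced, and
pairwise commuting.
-/

set_option autoImplicit false

namespace H3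

namespace CoresAbelian

open Cfsg

variable {X : Type*} [Group X] [Finite X]

local notation "θ" => centralizerPPrimeCore 2

/-- An involutive conjugation without nontrivial fixed points inverts and forces commutativity. -/
theorem fpf_inverts (K : Subgroup X) (z : X) (hz : z * z = 1) (hn : ∀ x ∈ K, z * x * z⁻¹ ∈ K)
    (hfix : ∀ x ∈ K, z * x = x * z → x = 1) :
    (∀ x ∈ K, z * x * z⁻¹ = x⁻¹) ∧ ∀ x ∈ K, ∀ y ∈ K, x * y = y * x := by
  let φ : ↥K →* ↥K :=
    { toFun := fun x => ⟨z * (x : X) * z⁻¹, hn _ x.2⟩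
      map_one' := by ext; simp
      map_mul' := fun a b => by ext; simp [mul_assoc] }
  have hfpf : MonoidHom.FixedPointFree φ := by
    intro x hx
    have h1 : z * (x : X) * z⁻¹ = x := congrArg Subtype.val hx
    exact Subtype.ext (hfix _ x.2 (mul_inv_eq_iff_eq_mul.1 h1))
  have hinv : Function.Involutive φ := by
    intro x
    apply Subtype.ext
    show z * (z * (x : X) * z⁻¹) * z⁻¹ = x
    have h1 : z⁻¹ * z⁻¹ = 1 := by rw [← mul_inv_rev, hz, inv_one]
    calc z * (z * (x : X) * z⁻¹) * z⁻¹ = (z * z) * (x : X) * (z⁻¹ * z⁻¹) := by group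
      _ = x := by rw [hz, h1, one_mul, mul_one]
  refine ⟨fun x hx => ?_, fun x hx y hy => ?_⟩
  · exact congrArg Subtype.val (congrFun (hfpf.coe_eq_inv_of_involutive hinv) ⟨x, hx⟩)
  · exact congrArg Subtype.val (hfpf.commute_all_of_involutive hinv ⟨x, hx⟩ ⟨y, hy⟩).eq

theorem mem_cent {y x : X} (hx : x ∈ θ y) : x * y = y * x :=
  Subgroup.mem_centralizer_singleton_iff.1 (H71.centralizerPPrimeCore_le y hx)

theorem conj_mem {y c x : X} (hc : c * y = y * c) (hx : x ∈ θ y) : c * x * c⁻¹ ∈ θ y :=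
  (Subgroup.mem_normalizer_iff.1
    (H71.centralizer_le_normalizer_centralizerPPrimeCore y
      (Subgroup.mem_centralizer_singleton_iff.2 hc)) x).1 hx

theorem odd_orderOf {y x : X} (hx : x ∈ θ y) : ¬ 2 ∣ orderOf x := by
  haveI : Fact (Nat.Prime 2) := ⟨Nat.prime_two⟩
  intro h
  apply H71.not_dvd_centralizerPPrimeCore (p := 2) y
  refine h.trans ?_
  have := orderOf_dvd_natCard (⟨x, hx⟩ : ↥(θ y))
  rwa [Subgroup.orderOf_mk] at this

theorem eq_one_of_isPGroup {x : X} (hodd : ¬ 2 ∣ orderOf x) {Q : Subgroup X} (hQ : IsPGroup 2 ↥Q)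
    (hx : x ∈ Q) : x = 1 := by
  obtain ⟨k, hk⟩ := hQ ⟨x, hx⟩
  rw [← orderOf_eq_one_iff]
  refine Nat.eq_one_of_dvd_coprimes ?_ (orderOf_dvd_of_pow_eq_one (congrArg Subtype.val hk)) dvd_rfl
  exact (Nat.Prime.coprime_iff_not_dvd Nat.prime_two).2 hodd |>.pow_left k

theorem mem_of_pow_two_pow {x : X} (hodd : ¬ 2 ∣ orderOf x) {K : Subgroup X} {k : ℕ}
    (h : x ^ 2 ^ k ∈ K) : x ∈ K := by
  obtain ⟨m, hm⟩ := exists_pow_eq_self_of_coprime
    (((Nat.Prime.coprime_iff_not_dvd Nat.prime_two).2 hodd).pow_left k)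
  rw [← hm]
  exact pow_mem h m

/-- `O(C(a))` centralizes every 2-subgroup it normalizes together with `a`. -/
theorem commute_of_pgroup {a x : X} (ha : a ^ 2 = 1) (hx : x ∈ θ a) {Q : Subgroup X}
    (hQ : IsPGroup 2 ↥Q) (haQ : a ∈ Subgroup.normalizer (Q : Set X))
    (hxQ : x ∈ Subgroup.normalizer (Q : Set X)) : ∀ q ∈ Q, x * q = q * x := by
  haveI : Fact (Nat.Prime 2) := ⟨Nat.prime_two⟩
  have hP : IsPGroup 2 ↥(Subgroup.zpowers a) := by
    rintro ⟨b, hb⟩
    obtain ⟨i, rfl⟩ := Subgroup.mem_zpowers_iff.1 hb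
    refine ⟨1, Subtype.ext ?_⟩
    show (a ^ i) ^ 2 ^ 1 = 1
    rw [pow_one, ← zpow_natCast, ← zpow_mul, mul_comm, zpow_mul, zpow_natCast, ha, one_zpow]
  refine Comp.pxq_lemma hP (odd_orderOf hx) ?_ Q hQ ((Subgroup.zpowers_le).2 haQ) hxQ ?_
  · rintro b hb
    obtain ⟨i, rfl⟩ := Subgroup.mem_zpowers_iff.1 hb
    have h : Commute a x := (mem_cent hx).symm
    exact (h.zpow_left i).eq.symm
  · intro q hq hqC
    have hqa : q * a = a * q :=
      (Subgroup.mem_centralizer_iff.1 hqC a (Subgroup.mem_zpowers a)).symm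
    have h1 : q * x * q⁻¹ * x⁻¹ ∈ θ a := mul_mem (conj_mem hqa hx) (inv_mem hx)
    have h2 : q * x * q⁻¹ * x⁻¹ ∈ Q := by
      have h3 := mul_mem hq ((Subgroup.mem_normalizer_iff.1 hxQ q⁻¹).1 (inv_mem hq))
      simpa [mul_assoc] using h3
    have h4 := eq_one_of_isPGroup (odd_orderOf h1) hQ h2
    exact (mul_inv_eq_iff_eq_mul.1 (mul_inv_eq_one.1 h4)).symm

theorem commute_pCore {a b x : X} (ha : a ^ 2 = 1) (hx : x ∈ θ a)
    (hab : a * b = b * a) (hxb : x * b = b * x) :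
    ∀ q ∈ pCore 2 ↥(Subgroup.centralizer ({b} : Set X)), x * (q : X) = (q : X) * x := by
  haveI : Fact (Nat.Prime 2) := ⟨Nat.prime_two⟩
  set H : Subgroup X := Subgroup.centralizer ({b} : Set X)
  set Q : Subgroup X := (pCore 2 ↥H).map H.subtype
  have hn : H ≤ Subgroup.normalizer (Q : Set X) := by
    haveI := H1.pCore_normal' 2 ↥H
    refine H8.le_normalizer_of_conj_mem ?_
    rintro c hc _ ⟨q, hq, rfl⟩
    exact ⟨⟨c, hc⟩ * q * ⟨c, hc⟩⁻¹, Subgroup.Normal.conj_mem inferInstance q hq ⟨c, hc⟩, rfl⟩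
  intro q hq
  exact commute_of_pgroup ha hx ((H1.isPGroup_pCore 2 ↥H).map H.subtype)
    (hn (Subgroup.mem_centralizer_singleton_iff.2 hab))
    (hn (Subgroup.mem_centralizer_singleton_iff.2 hxb)) (q : X) ⟨q, hq, rfl⟩

variable {Y : Subgroup X}

/-- In a group of characteristic 2 the core of another centralizer acts trivially. -/
theorem eq_one_of_commute_z {a z x : X} (ha : a ^ 2 = 1) (haz : a * z = z * a)
    (hF : generalizedFittingSubgroup ↥(Subgroup.centralizer ({z} : Set X)) =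
      pCore 2 ↥(Subgroup.centralizer ({z} : Set X)))
    (hx : x ∈ θ a) (hxz : x * z = z * x) : x = 1 := by
  set H : Subgroup X := Subgroup.centralizer ({z} : Set X)
  have hxH : x ∈ H := Subgroup.mem_centralizer_singleton_iff.2 hxz
  have hc := commute_pCore ha hx haz hxz
  have h1 : (⟨x, hxH⟩ : ↥H) ∈ Subgroup.centralizer (pCore 2 ↥H : Set ↥H) :=
    Subgroup.mem_centralizer_iff.2 fun q hq => Subtype.ext (hc q hq).symm
  have h2 := Comp.centralizer_fStar_le (G := ↥H)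
  rw [hF] at h2
  exact eq_one_of_isPGroup (odd_orderOf hx) ((H1.isPGroup_pCore 2 ↥H).map H.subtype)
    ⟨⟨x, hxH⟩, h2 h1, rfl⟩

/-- The hypotheses on `Y` and `z`. -/
structure Setup (Y : Subgroup X) (z : X) : Prop where
  comm : ∀ a ∈ Y, ∀ b ∈ Y, a * b = b * a
  sq : ∀ a ∈ Y, a ^ 2 = 1
  lay : ∀ x ∈ Y, x ≠ 1 → layer ↥(Subgroup.centralizer ({x} : Set X)) = ⊥
  zY : z ∈ Y
  fstar : generalizedFittingSubgroup ↥(Subgroup.centralizer ({z} : Set X)) =
    pCore 2 ↥(Subgroup.centralizer ({z} : Set X))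

theorem inverts {z : X} (S : Setup Y z) {a : X} (ha : a ∈ Y) :
    (∀ x ∈ θ a, z * x * z⁻¹ = x⁻¹) ∧ ∀ x ∈ θ a, ∀ y ∈ θ a, x * y = y * x :=
  fpf_inverts _ z (by rw [← sq]; exact S.sq z S.zY)
    (fun _ hx => conj_mem (S.comm z S.zY a ha) hx)
    (fun _ hx h => eq_one_of_commute_z (S.sq a ha) (S.comm a ha z S.zY) S.fstar hx h.symm)

/-- Balance. -/
theorem balance {z : X} (S : Setup Y z) {a b : X} (ha : a ∈ Y) (hb : b ∈ Y) (hb1 : b ≠ 1) {x : X}
    (hx : x ∈ θ a) (hxb : x * b = b * x) : x ∈ θ b := by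
  haveI : Fact (Nat.Prime 2) := ⟨Nat.prime_two⟩
  set H : Subgroup X := Subgroup.centralizer ({b} : Set X)
  set O : Subgroup X := θ b with hO
  have hxH : x ∈ H := Subgroup.mem_centralizer_singleton_iff.2 hxb
  have hzx : z * x * z⁻¹ = x⁻¹ := (inverts S ha).1 x hx
  set K : Subgroup X := Subgroup.zpowers x ⊔ O with hK
  have hxN : Subgroup.zpowers x ≤ Subgroup.normalizer (O : Set X) :=
    (Subgroup.zpowers_le).2 (H71.centralizer_le_normalizer_centralizerPPrimeCore b hxH)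
  have hmem : ∀ k ∈ K, ∃ i : ℤ, ∃ o ∈ O, k = x ^ i * o := by
    intro k hk
    have h1 : k ∈ ((Subgroup.zpowers x ⊔ O : Subgroup X) : Set X) := hk
    rw [Subgroup.coe_mul_of_left_le_normalizer_right _ _ hxN] at h1
    obtain ⟨u, hu, o, ho, rfl⟩ := h1
    obtain ⟨i, rfl⟩ := Subgroup.mem_zpowers_iff.1 hu
    exact ⟨i, o, ho, rfl⟩
  have hact : ∀ (i : ℤ) (o : X), o ∈ O → z * (x ^ i * o) * z⁻¹ = x ^ (-i) * o⁻¹ := by
    intro i o ho
    rw [show z * (x ^ i * o) * z⁻¹ = (z * x * z⁻¹) ^ i * (z * o * z⁻¹) by rw [conj_zpow]; group,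
      hzx, (inverts S hb).1 o ho, inv_zpow']
  have hKcomm := (fpf_inverts K z (by rw [← sq]; exact S.sq z S.zY) ?_ ?_).2
  rotate_left
  · intro k hk
    obtain ⟨i, o, ho, rfl⟩ := hmem k hk
    rw [hact i o ho]
    exact mul_mem (Subgroup.mem_sup_left (Subgroup.zpow_mem_zpowers x _))
      (Subgroup.mem_sup_right (inv_mem ho))
  · intro k hk hfix
    obtain ⟨i, o, ho, rfl⟩ := hmem k hk
    have h1 : x ^ (-i) * o⁻¹ = x ^ i * o := by
      rw [← hact i o ho, hfix, mul_inv_cancel_right]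
    have h2 : (x ^ i)⁻¹ ^ 2 = o ^ 2 := by
      rw [zpow_neg] at h1
      calc (x ^ i)⁻¹ ^ 2 = (x ^ i)⁻¹ * ((x ^ i)⁻¹ * o⁻¹) * o := by rw [sq]; group
        _ = o ^ 2 := by rw [h1, sq]; group
    have h3 : x ^ i ∈ O := by
      have hodd : ¬ 2 ∣ orderOf (x ^ i)⁻¹ := by
        rw [orderOf_inv]
        refine fun h => odd_orderOf hx (h.trans ?_)
        exact orderOf_dvd_of_mem_zpowers (Subgroup.zpow_mem_zpowers x i)
      have h4 : (x ^ i)⁻¹ ∈ O := mem_of_pow_two_pow (k := 1) hodd (by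
        rw [pow_one, h2]; exact pow_mem ho 2)
      simpa using inv_mem h4
    exact eq_one_of_commute_z (S.sq b hb) (S.comm b hb z S.zY) S.fstar (mul_mem h3 ho) hfix.symm
  have hxO : ∀ o ∈ O, x * o = o * x := fun o ho =>
    hKcomm x (Subgroup.mem_sup_left (Subgroup.mem_zpowers x)) o (Subgroup.mem_sup_right ho)
  have hq := commute_pCore (S.sq a ha) hx (S.comm a ha b hb) hxb
  set x' : ↥H := ⟨x, hxH⟩ with hx'
  have hpc : ∀ p : ℕ, p.Prime → pCore p ↥H ≤ Subgroup.centralizer ({x'} : Set ↥H) := by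
    intro p hp q hqp
    rw [Subgroup.mem_centralizer_singleton_iff]
    apply Subtype.ext
    show (q : X) * x = x * (q : X)
    by_cases hp2 : p = 2
    · subst hp2; exact (hq q hqp).symm
    · haveI : Fact p.Prime := ⟨hp⟩
      haveI := H1.pCore_normal' p ↥H
      have hle : pCore p ↥H ≤ pPrimeCore 2 ↥H := by
        refine H1.le_pPrimeCore ?_
        obtain ⟨k, hk⟩ := IsPGroup.iff_card.1 (H1.isPGroup_pCore p ↥H)
        rw [hk]
        exact ((Nat.coprime_primes hp Nat.prime_two).2 hp2).pow_left k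
      exact (hxO (q : X) ⟨q, hle hqp, rfl⟩).symm
  have hFF : generalizedFittingSubgroup ↥H = fittingSubgroup ↥H := by
    rw [generalizedFittingSubgroup, S.lay b hb hb1, bot_sup_eq]
  have hFc : fittingSubgroup ↥H ≤ Subgroup.centralizer ({x'} : Set ↥H) := by
    rw [Comp.fitting_eq_iSup_pCore]
    exact iSup_le fun p => hpc p.1 p.2
  have hxF : x' ∈ fittingSubgroup ↥H := by
    rw [← hFF]
    refine Comp.centralizer_fStar_le (Subgroup.mem_centralizer_iff.2 fun q hqF => ?_)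
    exact Subgroup.mem_centralizer_singleton_iff.1 (hFc (hFF ▸ hqF))
  have hsup : fittingSubgroup ↥H ≤ pPrimeCore 2 ↥H ⊔ pCore 2 ↥H := by
    rw [Comp.fitting_eq_iSup_pCore]
    refine iSup_le fun p => ?_
    by_cases hp2 : p.1 = 2
    · rw [hp2]; exact le_sup_right
    · haveI : Fact p.1.Prime := ⟨p.2⟩
      haveI := H1.pCore_normal' p.1 ↥H
      refine le_trans (H1.le_pPrimeCore ?_) le_sup_left
      obtain ⟨k, hk⟩ := IsPGroup.iff_card.1 (H1.isPGroup_pCore p.1 ↥H)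
      rw [hk]
      exact ((Nat.coprime_primes p.2 Nat.prime_two).2 hp2).pow_left k
  haveI := H1.pPrimeCore_normal' 2 ↥H
  haveI := H1.pCore_normal' 2 ↥H
  obtain ⟨o, ho, t, ht, hot⟩ := Subgroup.mem_sup_of_normal_right.1 (hsup hxF)
  obtain ⟨k, hk⟩ := H1.isPGroup_pCore 2 ↥H ⟨t, ht⟩
  have hcom : Commute o t := by
    have h := Comp.commute_of_isPGroup_of_not_dvd (H1.isPGroup_pCore 2 ↥H)
      (Comp.not_dvd_card_pPrimeCore (G := ↥H) 2)
      Comp.le_normalizer_of_normal Comp.le_normalizer_of_normal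
    exact (Comp.commute_of_commutator_eq_bot h ht ho).symm
  have hpow : x' ^ 2 ^ k = o ^ 2 ^ k := by
    rw [← hot, hcom.mul_pow, show t ^ 2 ^ k = 1 from congrArg Subtype.val hk, mul_one]
  refine mem_of_pow_two_pow (odd_orderOf hx) (k := k) ⟨o ^ 2 ^ k, pow_mem ho _, ?_⟩
  exact (congrArg Subtype.val hpow).symm

/-- An element of an abelian odd-order core is built from pieces fixed by the involutions of a
four-group acting on it. -/
theorem mem_of_four {z : X} (S : Setup Y z) {a u w : X} (ha : a ∈ Y) (hu : u ∈ Y) (hw : w ∈ Y)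
    (C : Subgroup X)
    (h1 : ∀ x ∈ θ a, x * w = w * x → x ∈ C) (h2 : ∀ x ∈ θ a, x * u = u * x → x ∈ C)
    (h3 : ∀ x ∈ θ a, x * (u * w) = (u * w) * x → x ∈ C) : θ a ≤ C := by
  have hsplit : ∀ v ∈ Y, ∀ x ∈ θ a, ∃ p ∈ θ a, ∃ q ∈ θ a,
      x ^ 2 = p * q ∧ p * v = v * p ∧ v * q * v⁻¹ = q⁻¹ ∧
        ∀ t ∈ Y, t * x * t⁻¹ = x⁻¹ → t * q * t⁻¹ = q⁻¹ := by
    intro v hv x hx
    have hvx : v * x * v⁻¹ ∈ θ a := conj_mem (S.comm v hv a ha) hx
    have hvv : v * v = 1 := by rw [← sq]; exact S.sq v hv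
    have hc : x * (v * x * v⁻¹) = (v * x * v⁻¹) * x := (inverts S ha).2 x hx _ hvx
    have hvi : v⁻¹ = v := inv_eq_of_mul_eq_one_right hvv
    refine ⟨x * (v * x * v⁻¹), mul_mem hx hvx, x * (v * x * v⁻¹)⁻¹, mul_mem hx (inv_mem hvx),
      ?_, ?_, ?_, ?_⟩
    · have hc' : Commute x (v * x * v⁻¹) := hc
      rw [sq, mul_assoc x (v * x * v⁻¹), ← mul_assoc (v * x * v⁻¹), ← hc'.eq, mul_assoc x,
        mul_inv_cancel, mul_one]
    · refine (mul_inv_eq_iff_eq_mul.1 ?_).symm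
      calc v * (x * (v * x * v⁻¹)) * v⁻¹ = (v * x * v⁻¹) * ((v * v) * x * (v * v)⁻¹) := by group
        _ = (v * x * v⁻¹) * x := by rw [hvv]; group
        _ = x * (v * x * v⁻¹) := hc.symm
    · calc v * (x * (v * x * v⁻¹)⁻¹) * v⁻¹
          = (v * x * v⁻¹) * ((v * v) * x⁻¹ * (v * v)⁻¹) := by group
        _ = (v * x * v⁻¹) * x⁻¹ := by rw [hvv]; group
        _ = (x * (v * x * v⁻¹)⁻¹)⁻¹ := by group
    · intro t ht htx
      have htv : t * v = v * t := S.comm t ht v hv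
      have h4 : t * (v * x * v⁻¹) * t⁻¹ = (v * x * v⁻¹)⁻¹ := by
        calc t * (v * x * v⁻¹) * t⁻¹ = (t * v) * x * (t * v)⁻¹ := by group
          _ = v * (t * x * t⁻¹) * v⁻¹ := by rw [htv]; group
          _ = (v * x * v⁻¹)⁻¹ := by rw [htx]; group
      calc t * (x * (v * x * v⁻¹)⁻¹) * t⁻¹
          = (t * x * t⁻¹) * (t * (v * x * v⁻¹) * t⁻¹)⁻¹ := by group
        _ = (x * (v * x * v⁻¹)⁻¹)⁻¹ := by
            rw [htx, h4, inv_inv, mul_inv_rev, inv_inv]
            exact ((Commute.inv_left (show Commute x (v * x * v⁻¹) from hc))).eq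
  intro x hx
  refine mem_of_pow_two_pow (k := 2) (odd_orderOf hx) ?_
  obtain ⟨p, hp, q, hq, hxpq, hpw, hqw, -⟩ := hsplit w hw x hx
  obtain ⟨r, hr, s, hs, hqrs, hru, hsu, hst⟩ := hsplit u hu q hq
  have hsw : w * s * w⁻¹ = s⁻¹ := hst w hw hqw
  have hs3 : s ∈ C := h3 s hs <| by
    refine (mul_inv_eq_iff_eq_mul.1 ?_).symm
    calc u * w * s * (u * w)⁻¹ = u * (w * s * w⁻¹) * u⁻¹ := by group
      _ = (u * s * u⁻¹)⁻¹ := by rw [hsw]; group
      _ = s := by rw [hsu, inv_inv]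
  have hpq : Commute p q := (inverts S ha).2 p hp q hq
  have h4 : x ^ 2 ^ 2 = p ^ 2 * (r * s) := by
    rw [show x ^ 2 ^ 2 = (x ^ 2) ^ 2 by rw [← pow_mul]; norm_num, hxpq, hpq.mul_pow, hqrs]
  rw [h4]
  exact mul_mem (pow_mem (h1 p hp hpw) 2) (mul_mem (h2 r hr hru) hs3)

/-- The cores pairwise commute. -/
theorem cores_commute {z : X} (S : Setup Y z) (h8 : 8 ≤ Nat.card ↥Y) {a b : X} (ha : a ∈ Y) (ha1 : a ≠ 1)
    (hb : b ∈ Y) (hb1 : b ≠ 1) {x y : X} (hx : x ∈ θ a) (hy : y ∈ θ b) : x * y = y * x := by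
  by_cases hab : a = b
  · subst hab; exact (inverts S ha).2 x hx y hy
  obtain ⟨c, hc, hcn⟩ : ∃ c ∈ Y, c ∉ ({1, a, b, a * b} : Set X) := by
    by_contra hcon
    push Not at hcon
    have hsub : (Y : Set X) ⊆ {1, a, b, a * b} := hcon
    have h4 : Set.ncard ({1, a, b, a * b} : Set X) ≤ 4 := by
      calc Set.ncard ({1, a, b, a * b} : Set X) ≤ Set.ncard ({a, b, a * b} : Set X) + 1 :=
            Set.ncard_insert_le _ _
        _ ≤ Set.ncard ({b, a * b} : Set X) + 1 + 1 := by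
            gcongr; exact Set.ncard_insert_le _ _
        _ ≤ Set.ncard ({a * b} : Set X) + 1 + 1 + 1 := by
            gcongr; exact Set.ncard_insert_le _ _
        _ = 4 := by rw [Set.ncard_singleton]
    have h5 := Set.ncard_le_ncard hsub (Set.toFinite _)
    rw [← Nat.card_coe_set_eq] at h5
    have h6 : Nat.card ↥Y ≤ _ := h5
    omega
  simp only [Set.mem_insert_iff, Set.mem_singleton_iff, not_or] at hcn
  obtain ⟨hc1, hca, hcb, hcab⟩ := hcn
  have hmul : ∀ {p q : X}, p ∈ Y → p ≠ q → q ∈ Y → p * q ≠ 1 := by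
    intro p q hp hpq hq h
    apply hpq
    rw [mul_eq_one_iff_eq_inv.1 h]
    exact inv_eq_of_mul_eq_one_right (by rw [← sq]; exact S.sq q hq)
  -- a common fixing involution makes two elements commute
  have key : ∀ u ∈ Y, u ≠ 1 → ∀ x' ∈ θ a, ∀ y' ∈ θ b, x' * u = u * x' → y' * u = u * y' →
      x' * y' = y' * x' := fun u hu hu1 x' hx' y' hy' h1 h2 =>
    (inverts S hu).2 x' (balance S ha hu hu1 hx' h1) y' (balance S hb hu hu1 hy' h2)
  have hmulc : ∀ {x' p q : X}, x' * p = p * x' → x' * q = q * x' → x' * (p * q) = p * q * x' :=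
    fun h1 h2 => (Commute.mul_right h1 h2).eq
  suffices θ a ≤ Subgroup.centralizer ({y} : Set X) from
    Subgroup.mem_centralizer_singleton_iff.1 (this hx)
  clear hx x
  refine mem_of_four S ha hb hc _ ?_ ?_ ?_ <;> intro x hx hxw <;>
    rw [Subgroup.mem_centralizer_singleton_iff] <;>
    refine (?_ : ∀ y' ∈ θ b, x * y' = y' * x) y hy <;> clear hy y <;> intro y hy
  -- `x` is fixed by `c`
  · have h : θ b ≤ Subgroup.centralizer ({x} : Set X) := by
      refine mem_of_four S hb ha hc _ ?_ ?_ ?_ <;> intro y hy hyw <;>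
        rw [Subgroup.mem_centralizer_singleton_iff]
      · exact (key c hc hc1 x hx y hy hxw hyw).symm
      · exact (key a ha ha1 x hx y hy (mem_cent hx) hyw).symm
      · exact (key (a * c) (mul_mem ha hc) (hmul ha (Ne.symm hca) hc) x hx y hy
          (hmulc (mem_cent hx) hxw) hyw).symm
    exact (Subgroup.mem_centralizer_singleton_iff.1 (h hy)).symm
  · exact key b hb hb1 x hx y hy hxw (mem_cent hy)
  · have h : θ b ≤ Subgroup.centralizer ({x} : Set X) := by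
      refine mem_of_four S hb ha hc _ ?_ ?_ ?_ <;> intro y hy hyw <;>
        rw [Subgroup.mem_centralizer_singleton_iff]
      · exact (key (b * c) (mul_mem hb hc) (hmul hb (Ne.symm hcb) hc) x hx y hy hxw
          (hmulc (mem_cent hy) hyw)).symm
      · exact (key a ha ha1 x hx y hy (mem_cent hx) hyw).symm
      · refine (key (a * (b * c)) (mul_mem ha (mul_mem hb hc)) ?_ x hx y hy
          (hmulc (mem_cent hx) hxw) ?_).symm
        · refine hmul ha (fun h => hcab ?_) (mul_mem hb hc)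
          calc c = (b * b) * c := by rw [show b * b = 1 by rw [← sq]; exact S.sq b hb, one_mul]
            _ = b * a := by rw [h, mul_assoc]
            _ = a * b := S.comm b hb a ha
        · rw [show a * (b * c) = b * (a * c) by
            rw [← mul_assoc, S.comm a ha b hb, mul_assoc]]
          exact hmulc (mem_cent hy) hyw
    exact (Subgroup.mem_centralizer_singleton_iff.1 (h hy)).symm

/-- The cores generate a group of odd order. -/
theorem odd_card_iSup {z : X} (S : Setup Y z) (h8 : 8 ≤ Nat.card ↥Y) :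
    Odd (Nat.card ↥(⨆ y : {y : X // y ∈ Y ∧ y ≠ 1}, θ (y : X))) := by
  set W : Subgroup X := ⨆ y : {y : X // y ∈ Y ∧ y ≠ 1}, θ (y : X)
  have h1 : ∀ x ∈ W, ∀ y : {y : X // y ∈ Y ∧ y ≠ 1}, ∀ u ∈ θ (y : X), x * u = u * x := by
    intro x hx y u hu
    have hle : W ≤ Subgroup.centralizer ({u} : Set X) := iSup_le fun v w hw =>
      Subgroup.mem_centralizer_singleton_iff.2
        (cores_commute S h8 v.2.1 v.2.2 y.2.1 y.2.2 hw hu)
    exact Subgroup.mem_centralizer_singleton_iff.1 (hle hx)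
  have h2 : ∀ x ∈ W, ∀ y ∈ W, x * y = y * x := by
    intro x hx y hy
    have hle : W ≤ Subgroup.centralizer ({x} : Set X) := iSup_le fun v w hw =>
      Subgroup.mem_centralizer_singleton_iff.2 (h1 x hx v w hw).symm
    exact (Subgroup.mem_centralizer_singleton_iff.1 (hle hy)).symm
  have h3 : ∀ x ∈ W, ¬ 2 ∣ orderOf x := by
    intro x hx
    suffices x ∈ W ∧ ¬ 2 ∣ orderOf x from this.2
    refine Subgroup.iSup_induction (C := fun x => x ∈ W ∧ ¬ 2 ∣ orderOf x)
      (fun y : {y : X // y ∈ Y ∧ y ≠ 1} => θ (y : X)) hx ?_ ?_ ?_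
    · exact fun y u hu => ⟨(le_iSup (fun y : {y : X // y ∈ Y ∧ y ≠ 1} => θ (y : X)) y) hu,
        odd_orderOf hu⟩
    · exact ⟨one_mem _, by simp⟩
    · rintro u v ⟨hu, hu2⟩ ⟨hv, hv2⟩
      refine ⟨mul_mem hu hv, fun h => ?_⟩
      rcases Nat.prime_two.dvd_mul.1 (h.trans (Commute.orderOf_mul_dvd_mul_orderOf (h2 u hu v hv))) with h | h
      · exact hu2 h
      · exact hv2 h
  rw [Nat.odd_iff, ← Nat.not_even_iff, even_iff_two_dvd]
  intro h
  haveI : Fact (Nat.Prime 2) := ⟨Nat.prime_two⟩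
  obtain ⟨g, hg⟩ := exists_prime_orderOf_dvd_card' 2 h
  exact h3 g g.2 (by rw [← Subgroup.orderOf_coe] at hg; rw [hg])

omit [Finite X] in
theorem normalizer_le [Finite X] (Y : Subgroup X) :
    Subgroup.normalizer (Y : Set X) ≤ Subgroup.normalizer
      ((⨆ y : {y : X // y ∈ Y ∧ y ≠ 1}, θ (y : X) : Subgroup X) : Set X) := by
  refine H8.le_normalizer_of_conj_mem ?_
  intro g hg x hx
  have hle : (⨆ y : {y : X // y ∈ Y ∧ y ≠ 1}, θ (y : X)).map (MulAut.conj g).toMonoidHom ≤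
      ⨆ y : {y : X // y ∈ Y ∧ y ≠ 1}, θ (y : X) := by
    rw [Subgroup.map_iSup]
    refine iSup_le fun y => ?_
    rw [← H7.centralizerPPrimeCore_conj_eq]
    exact le_iSup (fun y : {y : X // y ∈ Y ∧ y ≠ 1} => θ (y : X))
      ⟨g * y * g⁻¹, (Subgroup.mem_normalizer_iff.1 hg _).1 y.2.1,
        fun h => y.2.2 (by simpa [mul_inv_eq_one] using h)⟩
  exact hle ⟨x, hx, rfl⟩

end CoresAbelian

end H3
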