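import Mathlib.GroupTheory.OrderOfElement
import Mathlib.GroupTheory.Solvable
import Mathlib.Algebra.Group.Pi.Lemmas
import Mathlib.Algebra.Group.TypeTags.Finite
import Mathlib.SetTheory.Cardinal.Finite
import Mathlib.Data.Fintype.BigOperators
import Mathlib.Data.Finite.Prod
import Mathlib.Data.ZMod.Basic
import Mathlib.Tactic.Ring

/-!
Counting solutions of `x ^ d = 1`: products, order types, and groups `V ⋊ H` with `V` abelian.
-/

set_option autoImplicit false

namespace H3

universe u v

/-- Number of solutions of `x ^ d = 1`. -/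
noncomputable def powCount (G : Type u) [Monoid G] (d : ℕ) : ℕ := Nat.card {g : G // g ^ d = 1}

theorem powCount_pi {ι : Type v} [Fintype ι] {G : ι → Type u} [∀ i, Monoid (G i)] (d : ℕ) :
    powCount ((i : ι) → G i) d = ∏ i, powCount (G i) d := by
  simp only [powCount]
  rw [← Nat.card_pi]
  refine Nat.card_congr ((Equiv.subtypeEquivRight fun f => ?_).trans Equiv.subtypePiEquivPi)
  simp [funext_iff]

theorem powCount_gcd {G : Type u} [Monoid G] {e : ℕ} (he : ∀ g : G, g ^ e = 1) (d : ℕ) :
    powCount G d = powCount G (d.gcd e) := by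
  refine Nat.card_congr (Equiv.subtypeEquivRight fun g => ?_)
  simp only [← orderOf_dvd_iff_pow_eq_one, Nat.dvd_gcd_iff]
  exact (and_iff_left (orderOf_dvd_of_pow_eq_one (he g))).symm

/-- Equal numbers of solutions of all equations `x ^ d = 1` give equal order types. -/
theorem card_orderOf_eq_of_powCount {G : Type u} {H : Type v} [Group G] [Finite G] [Group H]
    [Finite H] (h : ∀ d, 0 < d → powCount G d = powCount H d) (n : ℕ) :
    Nat.card {g : G // orderOf g = n} = Nat.card {g : H // orderOf g = n} := by
  classical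
  have := Fintype.ofFinite G
  have := Fintype.ofFinite H
  induction n using Nat.strong_induction_on with
  | _ n ih =>
  rcases Nat.eq_zero_or_pos n with rfl | hn
  · haveI : IsEmpty {g : G // orderOf g = 0} := ⟨fun g => (orderOf_pos g.1).ne' g.2⟩
    haveI : IsEmpty {g : H // orderOf g = 0} := ⟨fun g => (orderOf_pos g.1).ne' g.2⟩
    rw [Nat.card_of_isEmpty, Nat.card_of_isEmpty]
  have key : ∀ {K : Type u} [Group K] [Fintype K], powCount K n =
      ∑ m ∈ n.divisors, Nat.card {g : K // orderOf g = m} := by
    intro K _ _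
    have h1 := Finset.card_eq_sum_card_fiberwise (s := Finset.univ.filter fun g : K => g ^ n = 1)
      (f := fun g => orderOf g) (t := n.divisors) (fun g hg => Nat.mem_divisors.mpr
        ⟨orderOf_dvd_of_pow_eq_one (by simpa using hg), hn.ne'⟩)
    rw [powCount, Nat.card_eq_fintype_card, Fintype.card_subtype, h1]
    refine Finset.sum_congr rfl fun m hm => ?_
    rw [Nat.card_eq_fintype_card, Fintype.card_subtype, Finset.filter_filter]
    congr 1
    ext g
    simp only [Finset.mem_filter, Finset.mem_univ, true_and, and_iff_right_iff_imp]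
    intro hg
    exact orderOf_dvd_iff_pow_eq_one.mp (hg ▸ Nat.dvd_of_mem_divisors hm)
  have key' : ∀ {K : Type v} [Group K] [Fintype K], powCount K n =
      ∑ m ∈ n.divisors, Nat.card {g : K // orderOf g = m} := by
    intro K _ _
    have h1 := Finset.card_eq_sum_card_fiberwise (s := Finset.univ.filter fun g : K => g ^ n = 1)
      (f := fun g => orderOf g) (t := n.divisors) (fun g hg => Nat.mem_divisors.mpr
        ⟨orderOf_dvd_of_pow_eq_one (by simpa using hg), hn.ne'⟩)
    rw [powCount, Nat.card_eq_fintype_card, Fintype.card_subtype, h1]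
    refine Finset.sum_congr rfl fun m hm => ?_
    rw [Nat.card_eq_fintype_card, Fintype.card_subtype, Finset.filter_filter]
    congr 1
    ext g
    simp only [Finset.mem_filter, Finset.mem_univ, true_and, and_iff_right_iff_imp]
    intro hg
    exact orderOf_dvd_iff_pow_eq_one.mp (hg ▸ Nat.dvd_of_mem_divisors hm)
  have h2 := h n hn
  rw [key, key', ← Nat.cons_self_properDivisors hn.ne', Finset.sum_cons, Finset.sum_cons,
    Finset.sum_congr rfl fun m hm => ih m (Nat.mem_properDivisors.mp hm).2] at h2
  omega

theorem isSolvable_fin_pi : ∀ {n : ℕ} {G : Fin n → Type u} [∀ i, Group (G i)],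
    (∀ i, Group.IsSolvable (G i)) → Group.IsSolvable ((i : Fin n) → G i)
  | 0, G, _, _ => Group.isSolvable_of_comm fun a b => funext fun i => i.elim0
  | n + 1, G, _, h => by
    haveI := h 0
    haveI := isSolvable_fin_pi (G := fun i : Fin n => G i.succ) fun i => h i.succ
    let f : ((i : Fin (n + 1)) → G i) →* G 0 := Pi.evalMonoidHom G 0
    let emb : ((i : Fin n) → G i.succ) →* ((i : Fin (n + 1)) → G i) :=
      { toFun := fun g => Fin.cons (α := G) 1 g
        map_one' := by funext i; refine Fin.cases ?_ (fun j => ?_) i <;> simp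
        map_mul' := fun a b => by funext i; refine Fin.cases ?_ (fun j => ?_) i <;> simp }
    refine Group.isSolvable_of_ker_le_range emb f fun g hg => ⟨fun i => g i.succ, ?_⟩
    funext i
    refine Fin.cases ?_ (fun j => ?_) i
    · exact (MonoidHom.mem_ker.mp hg).symm
    · simp [emb]

/-- An abelian group with an action of the group `H` by automorphisms. -/
structure ActBlk (H : Type) [Group H] where
  V : Type
  [grp : AddCommGroup V]
  [fin : Fintype V]
  [dec : DecidableEq V]
  act : H → V → V
  act_add : ∀ h v w, act h (v + w) = act h v + act h w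
  act_one : ∀ v, act 1 v = v
  act_mul : ∀ g h v, act (g * h) v = act g (act h v)

attribute [instance] ActBlk.grp ActBlk.fin ActBlk.dec

variable {H : Type} [Group H]

theorem ActBlk.act_zero (B : ActBlk H) (h : H) : B.act h 0 = 0 := by
  have := B.act_add h 0 0
  rw [add_zero] at this
  exact left_eq_add.mp this

/-- `v + f v + ... + f^(d-1) v`. -/
def actNorm {V : Type} [AddZeroClass V] (f : V → V) : ℕ → V → V
  | 0, _ => 0
  | d + 1, v => v + f (actNorm f d v)

/-- Number of zeros of the norm. -/
def ActBlk.cnt (B : ActBlk H) (h : H) (d : ℕ) : ℕ :=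
  (Finset.univ.filter fun v : B.V => actNorm (B.act h) d v = 0).card

/-- The product of two blocks. -/
def ActBlk.prod (A B : ActBlk H) : ActBlk H where
  V := A.V × B.V
  act h v := (A.act h v.1, B.act h v.2)
  act_add h v w := Prod.ext (A.act_add h v.1 w.1) (B.act_add h v.2 w.2)
  act_one v := Prod.ext (A.act_one v.1) (B.act_one v.2)
  act_mul g h v := Prod.ext (A.act_mul g h v.1) (B.act_mul g h v.2)

theorem ActBlk.cnt_prod (A B : ActBlk H) (h : H) (d : ℕ) :
    (A.prod B).cnt h d = A.cnt h d * B.cnt h d := by
  have key : ∀ d, ∀ v : (A.prod B).V, actNorm ((A.prod B).act h) d v =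
      ((actNorm (A.act h) d v.1, actNorm (B.act h) d v.2) : (A.prod B).V) := by
    intro d
    induction d with
    | zero => intro v; rfl
    | succ d ih =>
      intro v
      show v + (A.prod B).act h (actNorm ((A.prod B).act h) d v) = _
      rw [ih]
      rfl
  unfold ActBlk.cnt
  rw [← Finset.card_product]
  refine Finset.card_bij' (fun v _ => v) (fun v _ => v) ?_ ?_ (fun _ _ => rfl) fun _ _ => rfl
  · intro v hv
    simp only [Finset.mem_filter, Finset.mem_univ, true_and] at hv
    rw [key] at hv
    exact Finset.mem_product.mpr ⟨Finset.mem_filter.mpr ⟨Finset.mem_univ _, congrArg Prod.fst hv⟩,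
      Finset.mem_filter.mpr ⟨Finset.mem_univ _, congrArg Prod.snd hv⟩⟩
  · intro v hv
    simp only [Finset.mem_product, Finset.mem_filter, Finset.mem_univ, true_and] at hv
    exact Finset.mem_filter.mpr ⟨Finset.mem_univ _, (key d v).trans (Prod.ext hv.1 hv.2)⟩

/-- The semidirect product of a block by its acting group. -/
@[ext]
structure Aff (B : ActBlk H) where
  v : B.V
  h : H

variable (B : ActBlk H)

instance affGroup : Group (Aff B) where
  mul x y := ⟨x.v + B.act x.h y.v, x.h * y.h⟩
  one := ⟨0, 1⟩
  inv x := ⟨B.act x.h⁻¹ (-x.v), x.h⁻¹⟩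
  mul_assoc x y z := Aff.ext
    (show x.v + B.act x.h y.v + B.act (x.h * y.h) z.v = x.v + B.act x.h (y.v + B.act y.h z.v) by
      rw [B.act_add, B.act_mul, add_assoc])
    (mul_assoc x.h y.h z.h)
  one_mul x := Aff.ext (show (0 : B.V) + B.act 1 x.v = x.v by rw [B.act_one, zero_add]) (one_mul x.h)
  mul_one x := Aff.ext (show x.v + B.act x.h 0 = x.v by rw [B.act_zero, add_zero]) (mul_one x.h)
  inv_mul_cancel x := Aff.ext
    (show B.act x.h⁻¹ (-x.v) + B.act x.h⁻¹ x.v = 0 by rw [← B.act_add, neg_add_cancel, B.act_zero])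
    (inv_mul_cancel x.h)

/-- As a set it is the product. -/
def affEquiv : Aff B ≃ B.V × H where
  toFun x := (x.v, x.h)
  invFun p := ⟨p.1, p.2⟩
  left_inv _ := rfl
  right_inv _ := rfl

instance affFinite [Finite H] : Finite (Aff B) := Finite.of_equiv _ (affEquiv B).symm

theorem aff_pow (x : Aff B) (d : ℕ) : x ^ d = ⟨actNorm (B.act x.h) d x.v, x.h ^ d⟩ := by
  induction d with
  | zero => exact Aff.ext rfl (pow_zero x.h).symm
  | succ d ih =>
    rw [pow_succ', ih]
    exact Aff.ext rfl (pow_succ' x.h d).symm

/-- The computable count. -/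
def affCount [Fintype H] [DecidableEq H] (d : ℕ) : ℕ :=
  ∑ h : H, if h ^ d = 1 then B.cnt h d else 0

theorem powCount_aff [Fintype H] [DecidableEq H] (d : ℕ) : powCount (Aff B) d = affCount B d := by
  have e : {x : Aff B // x ^ d = 1} ≃
      Σ h : H, {v : B.V // h ^ d = 1 ∧ actNorm (B.act h) d v = 0} :=
    { toFun := fun x => ⟨x.1.h, x.1.v, by
        have h := x.2; rw [aff_pow] at h
        exact ⟨congrArg Aff.h h, congrArg Aff.v h⟩⟩
      invFun := fun p => ⟨⟨p.2.1, p.1⟩, by rw [aff_pow]; exact Aff.ext p.2.2.2 p.2.2.1⟩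
      left_inv := fun _ => rfl
      right_inv := fun _ => rfl }
  rw [powCount, Nat.card_congr e, Nat.card_sigma]
  refine Finset.sum_congr rfl fun h _ => ?_
  rw [Nat.card_eq_fintype_card, Fintype.card_subtype]
  by_cases hd : h ^ d = 1
  · rw [if_pos hd]
    unfold ActBlk.cnt
    congr 1
    ext v
    simp [hd]
  · rw [if_neg hd, Finset.card_eq_zero]
    ext v
    simp [hd]

theorem isSolvable_aff [Group.IsSolvable H] : Group.IsSolvable (Aff B) := by
  let f : Multiplicative B.V →* Aff B :=
    { toFun := fun v => ⟨v.toAdd, 1⟩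
      map_one' := rfl
      map_mul' := fun a b => Aff.ext
        (show a.toAdd + b.toAdd = a.toAdd + B.act 1 b.toAdd by rw [B.act_one]) (mul_one (1 : H)).symm }
  let g : Aff B →* H :=
    { toFun := Aff.h
      map_one' := rfl
      map_mul' := fun _ _ => rfl }
  haveI : Group.IsSolvable (Multiplicative B.V) := Group.isSolvable_of_comm fun a b => mul_comm a b
  exact Group.isSolvable_of_ker_le_range f g fun x hx =>
    ⟨Multiplicative.ofAdd x.v, Aff.ext rfl (MonoidHom.mem_ker.mp hx).symm⟩

/-- The cyclic group acting through powers of one automorphism. -/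
def cycBlk {V : Type} [AddCommGroup V] [Fintype V] [DecidableEq V] (o : ℕ) [NeZero o] (f : V → V)
    (hadd : ∀ v w, f (v + w) = f v + f w) (hper : ∀ v, f^[o] v = v) :
    ActBlk (Multiplicative (ZMod o)) where
  V := V
  act j := f^[j.toAdd.val]
  act_add j v w := by
    induction j.toAdd.val generalizing v w with
    | zero => rfl
    | succ n ih => simp only [Function.iterate_succ_apply, hadd, ih]
  act_one v := by simp
  act_mul g h v := by
    have hm : ∀ (k r : ℕ) (w : V), f^[r + o * k] w = f^[r] w := by
      intro k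
      induction k with
      | zero => intro r w; simp
      | succ k ih =>
        intro r w
        rw [show r + o * (k + 1) = (r + o * k) + o by ring, Function.iterate_add_apply, hper, ih]
    rw [← Function.iterate_add_apply, toAdd_mul, ZMod.val_add]
    conv_rhs => rw [← Nat.mod_add_div (g.toAdd.val + h.toAdd.val) o]
    rw [hm]

end H3
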