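import Mathlib.Tactic.FinCases
import Mathlib.Tactic.IntervalCases
import Mathlib.Tactic.NormNum.Prime
import Mathlib.Algebra.BigOperators.Fin
import Cfsg.Agent.H3.PowCount

/-!
Solution counts in `GL(3,2)`, and tools for groups of exponent dividing 84.
-/

set_option autoImplicit false

namespace H3

namespace OrderTypeExample

/-- The divisors of 84. -/
def dv : Fin 12 → ℕ := ![1, 2, 3, 4, 6, 7, 12, 14, 21, 28, 42, 84]

theorem exists_dv (d : ℕ) : ∃ i, Nat.gcd d 84 = dv i := by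
  have h : ∀ n ∈ Nat.divisors 84, ∃ i, n = dv i := by decide +kernel
  exact h _ (Nat.mem_divisors.mpr ⟨Nat.gcd_dvd_right _ _, by norm_num⟩)

theorem pow_eq_one_of_count {G : Type*} [Monoid G] [Finite G] {e : ℕ}
    (h : powCount G e = Nat.card G) (g : G) : g ^ e = 1 := by
  have h1 : Set.ncard {x : G | x ^ e = 1} = Nat.card G := h
  rw [← Set.ncard_univ] at h1
  have h2 := Set.eq_of_subset_of_ncard_le (Set.subset_univ _) h1.ge (Set.toFinite _)
  exact (h2.symm ▸ Set.mem_univ g : g ∈ {x : G | x ^ e = 1})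

theorem powCount_prod {A B : Type*} [Monoid A] [Monoid B] (d : ℕ) :
    powCount (A × B) d = powCount A d * powCount B d := by
  simp only [powCount]
  rw [← Nat.card_prod]
  exact Nat.card_congr ((Equiv.subtypeEquivRight fun p => by simp [Prod.ext_iff]).trans
    (Equiv.subtypeProdEquivProd (p := fun a : A => a ^ d = 1) (q := fun b : B => b ^ d = 1)))

/-- `3 × 3` matrices over the field with two elements. -/
@[ext]
structure Mat32 where
  a : ZMod 2
  b : ZMod 2
  c : ZMod 2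
  d : ZMod 2
  e : ZMod 2
  f : ZMod 2
  g : ZMod 2
  h : ZMod 2
  i : ZMod 2
deriving DecidableEq

instance mat32Fintype : Fintype Mat32 :=
  Fintype.ofEquiv ((ZMod 2 × ZMod 2 × ZMod 2) × (ZMod 2 × ZMod 2 × ZMod 2) × (ZMod 2 × ZMod 2 × ZMod 2))
    { toFun := fun p => ⟨p.1.1, p.1.2.1, p.1.2.2, p.2.1.1, p.2.1.2.1, p.2.1.2.2, p.2.2.1, p.2.2.2.1, p.2.2.2.2⟩
      invFun := fun m => ((m.a, m.b, m.c), (m.d, m.e, m.f), (m.g, m.h, m.i))
      left_inv := fun _ => rfl
      right_inv := fun _ => rfl }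

/-- Matrix multiplication. -/
def mat32Mul (x y : Mat32) : Mat32 :=
  ⟨x.a * y.a + x.b * y.d + x.c * y.g, x.a * y.b + x.b * y.e + x.c * y.h,
    x.a * y.c + x.b * y.f + x.c * y.i, x.d * y.a + x.e * y.d + x.f * y.g,
    x.d * y.b + x.e * y.e + x.f * y.h, x.d * y.c + x.e * y.f + x.f * y.i,
    x.g * y.a + x.h * y.d + x.i * y.g, x.g * y.b + x.h * y.e + x.i * y.h,
    x.g * y.c + x.h * y.f + x.i * y.i⟩

instance mat32Monoid : Monoid Mat32 where
  mul := mat32Mul
  one := ⟨1, 0, 0, 0, 1, 0, 0, 0, 1⟩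
  mul_assoc x y z := by
    show mat32Mul (mat32Mul x y) z = mat32Mul x (mat32Mul y z)
    ext <;> simp only [mat32Mul] <;> ring
  one_mul x := by
    show mat32Mul ⟨1, 0, 0, 0, 1, 0, 0, 0, 1⟩ x = x
    ext <;> simp only [mat32Mul] <;> ring
  mul_one x := by
    show mat32Mul x ⟨1, 0, 0, 0, 1, 0, 0, 0, 1⟩ = x
    ext <;> simp only [mat32Mul] <;> ring

/-- `GL(3,2)`. -/
abbrev GL32 : Type := Mat32ˣ

instance gl32Finite : Finite GL32 := Finite.of_injective (fun u : GL32 => (u : Mat32)) Units.val_injective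

theorem powCount_units {M : Type*} [Monoid M] {d : ℕ} (hd : 0 < d) :
    powCount Mˣ d = powCount M d := by
  refine Nat.card_eq_of_bijective
    (fun u => ⟨(u.1 : M), by rw [← Units.val_pow_eq_pow_val, u.2, Units.val_one]⟩) ⟨?_, ?_⟩
  · intro u v e
    exact Subtype.ext (Units.ext (congrArg Subtype.val e :))
  · rintro ⟨m, hm⟩
    exact ⟨⟨Units.ofPowEqOne m d hm hd.ne', Units.ext (by simpa using hm)⟩, rfl⟩

/-- Its solution counts. -/
def gl32T : Fin 12 → ℕ := ![1, 22, 57, 64, 78, 49, 120, 70, 105, 112, 126, 168]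

theorem mat32_cases (m : Mat32) :
    (m = 1 ∨ m ^ 2 = 1 ∨ m ^ 3 = 1 ∨ m ^ 4 = 1 ∨ m ^ 7 = 1) ∨ (m ^ 12 = m ^ 6 ∧ m ^ 6 ≠ 1) := by
  revert m
  decide +kernel

theorem gl32_orderOf (u : GL32) : orderOf u ∈ ({1, 2, 3, 4, 7} : Finset ℕ) := by
  have hk : ∀ k : ℕ, (u : Mat32) ^ k = 1 → orderOf u ∣ k := fun k hk =>
    orderOf_dvd_of_pow_eq_one (Units.ext (by rw [Units.val_pow_eq_pow_val, hk, Units.val_one]))
  rcases mat32_cases (u : Mat32) with (h | h | h | h | h) | ⟨h1, h2⟩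
  · have := hk 1 (by rw [pow_one, h])
    rw [Nat.dvd_one] at this
    simp [this]
  · rcases (Nat.dvd_prime Nat.prime_two).mp (hk 2 h) with e | e <;> simp [e]
  · rcases (Nat.dvd_prime Nat.prime_three).mp (hk 3 h) with e | e <;> simp [e]
  · obtain ⟨j, hj, e⟩ := (Nat.dvd_prime_pow Nat.prime_two).mp (show orderOf u ∣ 2 ^ 2 from hk 4 h)
    interval_cases j <;> simp [e]
  · rcases (Nat.dvd_prime (by norm_num : Nat.Prime 7)).mp (hk 7 h) with e | e <;> simp [e]
  · exfalso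
    apply h2
    have h3 : u ^ 12 = u ^ 6 :=
      Units.ext (by rw [Units.val_pow_eq_pow_val, Units.val_pow_eq_pow_val, h1])
    rw [show 12 = 6 + 6 from rfl, pow_add, mul_eq_right] at h3
    rw [← Units.val_pow_eq_pow_val, h3, Units.val_one]

theorem gl32_tab : ∀ i, powCount GL32 (dv i) = gl32T i := by
  classical
  have := Fintype.ofFinite GL32
  set c : ℕ → ℕ := fun k => (Finset.univ.filter fun u : GL32 => orderOf u = k).card
  have key : ∀ d, 0 < d → powCount GL32 d =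
      ∑ k ∈ ({1, 2, 3, 4, 7} : Finset ℕ), if k ∣ d then c k else 0 := by
    intro d _
    rw [← Finset.sum_filter, powCount, Nat.card_eq_fintype_card, Fintype.card_subtype,
      Finset.card_eq_sum_card_fiberwise (f := fun u : GL32 => orderOf u)
        (t := ({1, 2, 3, 4, 7} : Finset ℕ).filter (· ∣ d)) (fun u hu => Finset.mem_filter.mpr
          ⟨gl32_orderOf u, orderOf_dvd_of_pow_eq_one (Finset.mem_filter.mp hu).2⟩)]
    refine Finset.sum_congr rfl fun k hk => ?_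
    rw [Finset.filter_filter]
    congr 1
    ext u
    simp only [Finset.mem_filter, Finset.mem_univ, true_and, and_iff_right_iff_imp]
    intro hu
    exact orderOf_dvd_iff_pow_eq_one.mp (hu ▸ (Finset.mem_filter.mp hk).2)
  have hp : ∀ k : Fin 5, powCount GL32 (![1, 2, 3, 4, 7] k) = ![1, 22, 57, 64, 49] k := by
    intro k
    rw [powCount_units (by revert k; decide), powCount, Nat.card_eq_fintype_card, Fintype.card_subtype]
    revert k
    decide +kernel
  have e1 := (key 1 one_pos).symm.trans (hp 0)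
  have e2 := (key 2 two_pos).symm.trans (hp 1)
  have e3 := (key 3 three_pos).symm.trans (hp 2)
  have e4 := (key 4 four_pos).symm.trans (hp 3)
  have e7 := (key 7 (by norm_num)).symm.trans (hp 4)
  simp [Finset.sum_insert] at e1 e2 e3 e4 e7
  intro i
  rw [key _ (by revert i; decide)]
  fin_cases i <;> simp [dv, gl32T, Finset.sum_insert] <;> omega

theorem gl32_exp (u : GL32) : u ^ 84 = 1 := by
  have h := gl32_orderOf u
  refine orderOf_dvd_iff_pow_eq_one.mp ?_
  simp only [Finset.mem_insert, Finset.mem_singleton] at h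
  rcases h with e | e | e | e | e <;> rw [e] <;> norm_num

/-- An elementary transvection. -/
def tv : Fin 6 → GL32 := ![
  ⟨⟨1, 1, 0, 0, 1, 0, 0, 0, 1⟩, ⟨1, 1, 0, 0, 1, 0, 0, 0, 1⟩, by decide +kernel, by decide +kernel⟩,
  ⟨⟨1, 0, 1, 0, 1, 0, 0, 0, 1⟩, ⟨1, 0, 1, 0, 1, 0, 0, 0, 1⟩, by decide +kernel, by decide +kernel⟩,
  ⟨⟨1, 0, 0, 1, 1, 0, 0, 0, 1⟩, ⟨1, 0, 0, 1, 1, 0, 0, 0, 1⟩, by decide +kernel, by decide +kernel⟩,
  ⟨⟨1, 0, 0, 0, 1, 1, 0, 0, 1⟩, ⟨1, 0, 0, 0, 1, 1, 0, 0, 1⟩, by decide +kernel, by decide +kernel⟩,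
  ⟨⟨1, 0, 0, 0, 1, 0, 1, 0, 1⟩, ⟨1, 0, 0, 0, 1, 0, 1, 0, 1⟩, by decide +kernel, by decide +kernel⟩,
  ⟨⟨1, 0, 0, 0, 1, 0, 0, 1, 1⟩, ⟨1, 0, 0, 0, 1, 0, 0, 1, 1⟩, by decide +kernel, by decide +kernel⟩]

theorem gl32_not_solvable : ¬ Group.IsSolvable GL32 := by
  intro hs
  obtain ⟨n, hn⟩ := (Group.isSolvable_def GL32).mp hs
  have hcomm : ∀ i : Fin 6, ∃ j k : Fin 6, tv i = tv j * tv k * (tv j)⁻¹ * (tv k)⁻¹ := by
    decide +kernel
  have hmem : ∀ (m : ℕ) (i : Fin 6), tv i ∈ derivedSeries GL32 m := by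
    intro m
    induction m with
    | zero => intro i; simp
    | succ m ih =>
      intro i
      obtain ⟨j, k, hjk⟩ := hcomm i
      rw [derivedSeries_succ, hjk]
      exact Subgroup.commutator_mem_commutator (ih j) (ih k)
  have h1 := hmem n 0
  rw [hn, Subgroup.mem_bot] at h1
  exact absurd h1 (by decide +kernel)

end OrderTypeExample

end H3
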