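import Cfsg.Agent.H3.SsTower
import Mathlib.GroupTheory.IndexNormal

/-!
Groups all of whose subgroups satisfy the converse of Lagrange's theorem.
-/

set_option autoImplicit false

namespace H3

open Subgroup

universe u

variable {G : Type u} [Group G]

theorem clt_congr {K : Type u} [Group K] (e : G ≃* K) (h : Cfsg.HasSubgroupOfEveryOrder G) :
    Cfsg.HasSubgroupOfEveryOrder K := by
  intro d hd
  obtain ⟨H, hH⟩ := h d (Nat.card_congr e.toEquiv ▸ hd)
  exact ⟨H.map e.toMonoidHom, by rw [Subgroup.card_map_of_injective e.injective, hH]⟩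

theorem clt_subgroup (h : ∀ H : Subgroup G, Cfsg.HasSubgroupOfEveryOrder H) (M : Subgroup G) :
    ∀ H : Subgroup M, Cfsg.HasSubgroupOfEveryOrder H := fun H =>
  clt_congr (H.equivMapOfInjective M.subtype M.subtype_injective).symm (h (H.map M.subtype))

theorem exists_index_of_clt [Finite G] (h : ∀ H : Subgroup G, Cfsg.HasSubgroupOfEveryOrder H)
    {q : ℕ} (hq : 0 < q) (hd : q ∣ Nat.card G) : ∃ M : Subgroup G, M.index = q := by
  obtain ⟨e, he⟩ := hd
  obtain ⟨H, hH⟩ := h ⊤ e (by rw [Subgroup.card_top, he]; exact dvd_mul_left e q)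
  refine ⟨H.map (⊤ : Subgroup G).subtype, ?_⟩
  have h1 := Subgroup.card_mul_index (H.map (⊤ : Subgroup G).subtype)
  rw [Subgroup.card_map_of_injective (Subgroup.subtype_injective _), hH, he, mul_comm q] at h1
  have he0 : 0 < e := hH ▸ Nat.card_pos
  exact Nat.eq_of_mul_eq_mul_left he0 h1

theorem clt_normal_sylow [Finite G] (h : ∀ H : Subgroup G, Cfsg.HasSubgroupOfEveryOrder H)
    (p : ℕ) [Fact p.Prime] (hmax : ∀ q : ℕ, q.Prime → q ∣ Nat.card G → q ≤ p) :
    ∀ P : Sylow p G, (P : Subgroup G).Normal := by
  induction hn : Nat.card G using Nat.strong_induction_on generalizing G with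
  | _ n ih =>
    intro P
    rcases subsingleton_or_nontrivial G with hs | hnt
    · rw [Subsingleton.elim (P : Subgroup G) ⊥]; infer_instance
    have hne : Nat.card G ≠ 1 := (Finite.one_lt_card (α := G)).ne'
    have hq := Nat.minFac_prime hne
    obtain ⟨M, hM⟩ := exists_index_of_clt h hq.pos (Nat.minFac_dvd _)
    haveI : M.Normal := Subgroup.normal_of_index_eq_minFac_card hM
    by_cases hqp : (Nat.card G).minFac = p
    · have hP : IsPGroup p G := by
        refine IsPGroup.of_card (n := (Nat.card G).factorization p) ?_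
        conv_lhs => rw [← Nat.prod_factorization_pow_eq_self (Nat.card_pos (α := G)).ne']
        rw [Finsupp.prod, Finset.prod_eq_single p]
        · intro r hr hrp
          rw [Nat.support_factorization, Nat.mem_primeFactors] at hr
          exact absurd (le_antisymm (hmax r hr.1 hr.2.1) (hqp ▸ Nat.minFac_le_of_dvd hr.1.two_le hr.2.1)) hrp
        · intro hnot
          rw [Finsupp.notMem_support_iff.mp hnot, pow_zero]
      have htop : (⊤ : Subgroup G) = (P : Subgroup G) :=
        P.is_maximal' (hP.to_subgroup ⊤) le_top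
      rw [← htop]; infer_instance
    · have hMlt : Nat.card M < n := by
        rw [← hn, ← Subgroup.card_mul_index M, hM]
        exact lt_mul_of_one_lt_right Nat.card_pos hq.one_lt
      obtain ⟨Q⟩ : Nonempty (Sylow p M) := inferInstance
      haveI hQn := ih _ hMlt (clt_subgroup h M)
        (fun q hq hd => hmax q hq (hd.trans M.card_subgroup_dvd_card)) rfl Q
      haveI : (Q : Subgroup M).Characteristic := Q.characteristic_of_normal hQn
      set Q' := (Q : Subgroup M).map M.subtype
      haveI hQ'n : Q'.Normal := inferInstance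
      have hfac : (Nat.card G).factorization p = (Nat.card M).factorization p := by
        rw [← Subgroup.card_mul_index M, hM, Nat.factorization_mul Nat.card_pos.ne' hq.ne_zero]
        simp [hq.factorization, hqp]
      have hQc : Nat.card Q' = p ^ (Nat.card G).factorization p := by
        rw [Subgroup.card_map_of_injective M.subtype_injective, hfac]
        exact Q.card_eq_multiplicity
      haveI : (Sylow.ofCard Q' hQc : Subgroup G).Normal := by rw [Sylow.coe_ofCard]; exact hQ'n
      haveI : Subsingleton (Sylow p G) :=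
        (Sylow.unique_of_normal (Sylow.ofCard Q' hQc) inferInstance).instSubsingleton
      rw [Subsingleton.elim P (Sylow.ofCard Q' hQc)]
      infer_instance

/-- `M` supersolvable of index `p` together with a normal `p`-subgroup `P` whose quotient is
supersolvable forces `G` to be supersolvable. -/
theorem ss_of_supersolvable_index [Finite G] (p : ℕ) [hp : Fact p.Prime] (P M : Subgroup G)
    [P.Normal] (hP : IsPGroup p P) (hsup : P ⊔ M = ⊤) (hMp : M.index = p)
    (hM : Cfsg.IsSupersolvable M) (hGP : Cfsg.IsSupersolvable (G ⧸ P)) :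
    Cfsg.IsSupersolvable G := by
  induction hn : Nat.card G using Nat.strong_induction_on generalizing G with
  | _ n ih =>
    have hindex : (P ⊓ M).relIndex P = p := by
      have e : P.relIndex M = P.index := by
        have h := Subgroup.relIndex_sup_left M P
        rwa [hsup, Subgroup.relIndex_top_right, eq_comm] at h
      have h1 := Subgroup.relIndex_mul_index (inf_le_left : P ⊓ M ≤ P)
      have h2 := Subgroup.relIndex_mul_index (inf_le_right : P ⊓ M ≤ M)
      rw [Subgroup.inf_relIndex_right, e, hMp, mul_comm] at h2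
      exact Nat.eq_of_mul_eq_mul_right (Nat.pos_of_ne_zero Subgroup.index_ne_zero_of_finite) (h1.trans h2.symm)
    by_cases hbot : P ⊓ M = ⊥
    · rw [hbot, Subgroup.relIndex_bot_left] at hindex
      exact ss_of_quotient_prime P (hindex ▸ hp.out) hGP
    -- `P ⊓ M` is normal in `P`, so meets the centre of `P`
    haveI hn1 : ((P ⊓ M).subgroupOf P).Normal := by
      apply Subgroup.normal_of_index_eq_minFac_card
      rw [← Subgroup.relIndex, hindex]
      obtain ⟨k, hk⟩ := hP.exists_card_eq
      rw [hk, Nat.pow_minFac, hp.out.minFac_eq]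
      intro hk0
      rw [hk0, pow_zero] at hk
      exact hbot (eq_bot_iff.mpr ((inf_le_left).trans (Subgroup.eq_bot_of_card_eq _ hk).le))
    have hP1 : (P ⊓ M).subgroupOf P ≠ ⊥ := by
      rw [Ne, Subgroup.subgroupOf_eq_bot, disjoint_iff, inf_comm (P ⊓ M), ← inf_assoc, inf_idem]
      exact hbot
    haveI : Nontrivial P := by
      rw [Subgroup.nontrivial_iff_ne_bot]
      exact fun h => hbot (by rw [h, bot_inf_eq])
    obtain ⟨z, hz1, hz2, hz0⟩ : ∃ z : P, z ∈ (P ⊓ M).subgroupOf P ∧ z ∈ center P ∧ z ≠ 1 := by
      have := hP.isNilpotent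
      have h := this
      obtain ⟨k, hk0, hk⟩ := (IsPGroup.nontrivial_iff_card
        (hP.to_subgroup ((P ⊓ M).subgroupOf P))).mp ((Subgroup.nontrivial_iff_ne_bot _).mpr hP1)
      -- fixed points of the conjugation action
      haveI : Fintype ((P ⊓ M).subgroupOf P) := Fintype.ofFinite _
      have hdvd : p ∣ Nat.card ((P ⊓ M).subgroupOf P) := hk ▸ dvd_pow_self p hk0.ne'
      letI : MulAction P ((P ⊓ M).subgroupOf P) :=
        MulAction.compHom _ (MulAut.conjNormal (H := (P ⊓ M).subgroupOf P))
      obtain ⟨b, hb, hb1⟩ := hP.exists_fixed_point_of_prime_dvd_card_of_fixed_point _ hdvd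
        (a := (1 : (P ⊓ M).subgroupOf P)) (fun x => by
          show MulAut.conjNormal x (1 : (P ⊓ M).subgroupOf P) = 1
          exact map_one _)
      refine ⟨b, b.2, ?_, ?_⟩
      · rw [Subgroup.mem_center_iff]
        intro g
        have hfix : MulAut.conjNormal g b = b := hb g
        have := congrArg Subtype.val hfix
        rw [MulAut.conjNormal_apply] at this
        calc g * (b : P) = g * (b : P) * g⁻¹ * g := by group
          _ = (b : P) * g := by rw [this]
      · intro h0
        exact hb1 (Subtype.ext h0.symm)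
    set Z := (center P).map P.subtype ⊓ M
    haveI hZn : (Z.subgroupOf M).Normal := by
      have hmn : ((center P).map P.subtype).Normal := inferInstance
      rw [Subgroup.inf_subgroupOf_right]
      exact hmn.subgroupOf M
    have hZne : Z.subgroupOf M ≠ ⊥ := by
      intro h
      have hmem : (⟨(z : G), (hz1 : (z : G) ∈ P ⊓ M).2⟩ : M) ∈ Z.subgroupOf M :=
        ⟨Subgroup.mem_map_of_mem _ hz2, (hz1 : (z : G) ∈ P ⊓ M).2⟩
      rw [h] at hmem
      have h1 := Subgroup.mem_bot.mp hmem
      have h2 : (z : G) = 1 := congrArg Subtype.val h1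
      exact hz0 (Subtype.ext h2)
    obtain ⟨N₀, hN₀, hN₀Z, hN₀p⟩ := exists_normal_prime_le hM (Z.subgroupOf M) hZne
    set N := N₀.map M.subtype with hN
    have hNM : N ≤ M := Subgroup.map_subtype_le _
    have hNZ : N ≤ Z := (Subgroup.map_mono hN₀Z).trans (Subgroup.map_subgroupOf_eq_of_le inf_le_right).le
    have hNP : N ≤ P := hNZ.trans (inf_le_left.trans (Subgroup.map_subtype_le _))
    have hNnorm : N.Normal := by
      rw [← Subgroup.normalizer_eq_top_iff, eq_top_iff, ← hsup, sup_le_iff]
      refine ⟨fun x hx => ?_, ?_⟩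
      · rw [Subgroup.mem_normalizer_iff]
        intro y
        have hc : ∀ y ∈ N, x * y = y * x := by
          intro y hy
          obtain ⟨w, hw, rfl⟩ := (hNZ hy).1
          exact congrArg Subtype.val (Subgroup.mem_center_iff.mp hw ⟨x, hx⟩)
        constructor
        · intro hy
          rw [hc y hy, mul_inv_cancel_right]; exact hy
        · intro hy
          have h := hc _ hy
          have : y = x * y * x⁻¹ := by
            calc y = x⁻¹ * ((x * y * x⁻¹) * x) := by group
              _ = x⁻¹ * (x * (x * y * x⁻¹)) := by rw [h]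
              _ = x * y * x⁻¹ := by group
          rwa [← this] at hy
      · rw [← Subgroup.normal_subgroupOf_iff_le_normalizer hNM]
        have : N.subgroupOf M = N₀ :=
          Subgroup.comap_map_eq_self_of_injective M.subtype_injective N₀
        rw [this]; exact hN₀
    haveI := hNnorm
    have hNp : (Nat.card N).Prime := by
      rwa [hN, Subgroup.card_map_of_injective M.subtype_injective]
    have hNne : N ≠ ⊥ := fun h => by simp [h, Nat.not_prime_one] at hNp
    set q := QuotientGroup.mk' N
    have hq : Function.Surjective q := QuotientGroup.mk'_surjective N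
    have hkP : q.ker ≤ P := by rwa [QuotientGroup.ker_mk']
    have hkM : q.ker ≤ M := by rwa [QuotientGroup.ker_mk']
    haveI : (P.map q).Normal := (inferInstance : P.Normal).map q hq
    refine ss_of_quotient_prime N hNp
      (ih _ (hn ▸ card_quotient_lt N hNne) (P.map q) (M.map q) (hP.map q) ?_ ?_ ?_ ?_ rfl)
    · rw [← Subgroup.map_sup, hsup, Subgroup.map_top_of_surjective q hq]
    · rw [Subgroup.index_map_eq M hq hkM, hMp]
    · exact ss_of_surjective (q.subgroupMap M) (q.subgroupMap_surjective M) hM
    · exact ss_congr (QuotientGroup.quotientQuotientEquivQuotient N P hNP).symm hGP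

theorem ss_of_hereditary_clt [Finite G] (h : ∀ H : Subgroup G, Cfsg.HasSubgroupOfEveryOrder H) :
    Cfsg.IsSupersolvable G := by
  induction hn : Nat.card G using Nat.strong_induction_on generalizing G with
  | _ n ih =>
    rcases subsingleton_or_nontrivial G with hs | hnt
    · exact ss_of_subsingleton
    obtain ⟨p, hp, hmax⟩ := (Nat.card G).primeFactors.exists_max_image id
      (Nat.nonempty_primeFactors.mpr (Finite.one_lt_card (α := G)))
    rw [Nat.mem_primeFactors] at hp
    have hmax' : ∀ q : ℕ, q.Prime → q ∣ Nat.card G → q ≤ p := fun q hq hd =>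
      hmax q (Nat.mem_primeFactors.mpr ⟨hq, hd, hp.2.2⟩)
    haveI := Fact.mk hp.1
    obtain ⟨P⟩ : Nonempty (Sylow p G) := inferInstance
    haveI := clt_normal_sylow h p hmax' P
    obtain ⟨M, hM⟩ := exists_index_of_clt h hp.1.pos hp.2.1
    have hlt : ∀ H : Subgroup G, H ≠ ⊤ → Nat.card H < n := by
      intro H hH
      rw [← hn, ← Subgroup.card_mul_index H]
      exact lt_mul_of_one_lt_right Nat.card_pos (Subgroup.one_lt_index_of_ne_top hH)
    have hMss : Cfsg.IsSupersolvable M :=
      ih _ (hlt M (fun h' => hp.1.ne_one (by rw [← hM, h', Subgroup.index_top]))) (clt_subgroup h M) rfl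
    have hne : (P : Subgroup G) ≠ ⊥ := P.ne_bot_of_dvd_card hp.2.1
    obtain ⟨C, hC⟩ := Subgroup.exists_right_complement'_of_coprime P.card_coprime_index
    have hCtop : C ≠ ⊤ := by
      intro h'
      have := hC.disjoint
      rw [h', disjoint_top] at this
      exact hne this
    have hGP : Cfsg.IsSupersolvable (G ⧸ (P : Subgroup G)) :=
      ss_congr hC.symm.QuotientMulEquiv.symm (ih _ (hlt C hCtop) (clt_subgroup h C) rfl)
    refine ss_of_supersolvable_index p (P : Subgroup G) M P.isPGroup' ?_ hM hMss hGP
    have h1 : ((P : Subgroup G) ⊔ M).index ∣ (P : Subgroup G).index :=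
      Subgroup.index_dvd_of_le le_sup_left
    have h2 : ((P : Subgroup G) ⊔ M).index ∣ p := (Subgroup.index_dvd_of_le le_sup_right).trans hM.dvd
    rw [← Subgroup.index_eq_one]
    rcases (Nat.dvd_prime hp.1).mp h2 with h3 | h3
    · exact h3
    · rw [h3] at h1
      exact absurd h1 P.not_dvd_index

end H3
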