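import Cfsg.Agent.H71.Goldschmidt
import Cfsg.Agent.H85.ZStarApps
import Cfsg.Agent.H85.BrauerSuzuki
import Cfsg.Agent.H3.OutSolvable

/-!
A non-abelian simple group of even order has a 2-subgroup of exponent two with an odd order element
normalising it non-trivially.
-/

set_option autoImplicit false
set_option linter.style.haveILetI false

namespace H3.InvolutionAutomizer

open Subgroup

variable {G : Type*} [Group G]

/-- The involutions (and `1`) of the centre of `D`, as a subgroup of `G`. -/
def omegaCenter (D : Subgroup G) : Subgroup G where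
  carrier := {d | d ∈ D ∧ (∀ y ∈ D, y * d = d * y) ∧ d * d = 1}
  one_mem' := ⟨one_mem _, fun y _ => by rw [one_mul, mul_one], one_mul 1⟩
  mul_mem' := by
    rintro a b ⟨ha, hac, ha2⟩ ⟨hb, hbc, hb2⟩
    refine ⟨mul_mem ha hb, fun y hy => ?_, ?_⟩
    · rw [← mul_assoc, hac y hy, mul_assoc, hbc y hy, ← mul_assoc]
    · calc a * b * (a * b) = a * (b * a) * b := by simp [mul_assoc]
        _ = a * (a * b) * b := by rw [← hac b hb]
        _ = (a * a) * (b * b) := by simp [mul_assoc]
        _ = 1 := by rw [ha2, hb2, one_mul]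
  inv_mem' := by
    rintro a ⟨ha, hac, ha2⟩
    rw [inv_eq_of_mul_eq_one_right ha2]
    exact ⟨ha, hac, ha2⟩

theorem conj_mem_omegaCenter {D : Subgroup G} {x d : G} (hx : x ∈ normalizer (D : Set G))
    (hd : d ∈ omegaCenter D) : x * d * x⁻¹ ∈ omegaCenter D := by
  obtain ⟨hd1, hd2, hd3⟩ := hd
  refine ⟨(mem_normalizer_iff.1 hx d).1 hd1, fun y hy => ?_, ?_⟩
  · have hy' : x⁻¹ * y * x ∈ D := by
      have := (mem_normalizer_iff.1 (inv_mem hx) y).1 hy
      rwa [inv_inv] at this
    have := congrArg (fun t => x * t * x⁻¹) (hd2 _ hy')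
    simpa [mul_assoc] using this
  · calc x * d * x⁻¹ * (x * d * x⁻¹) = x * (d * d) * x⁻¹ := by group
      _ = 1 := by rw [hd3, mul_one, mul_inv_cancel]

theorem normalizer_le_normalizer_omegaCenter (D : Subgroup G) :
    normalizer (D : Set G) ≤ normalizer (omegaCenter D : Set G) := by
  intro x hx
  refine mem_normalizer_iff.2 fun d => ⟨conj_mem_omegaCenter hx, fun h => ?_⟩
  have := conj_mem_omegaCenter (inv_mem hx) h
  simpa [mul_assoc] using this

variable [Finite G]

/-- One admissible step fixes a central element of the Sylow subgroup, if odd elements act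
trivially on the involutions of the centre. -/
theorem fixes_of_step {P D : Subgroup G} {x z : G} (hOK : H71.GoldOK P D 2)
    (hx : x ∈ normalizer (D : Set G)) (hzD : z ∈ D) (hz : z * z = 1)
    (hzP : ∀ y ∈ P, y * z = z * y)
    (hodd : ∀ b ∈ normalizer (D : Set G), Odd (orderOf b) → ∀ u ∈ omegaCenter D, Commute b u) :
    x * z = z * x := by
  haveI : Fact (Nat.Prime 2) := ⟨Nat.prime_two⟩
  have hzV : z ∈ omegaCenter D := ⟨hzD, fun y hy => hzP y (hOK.1 hy), hz⟩
  set N := normalizer (D : Set G) with hN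
  set K : Subgroup N := (centralizer (omegaCenter D : Set G)).subgroupOf N with hK
  haveI : K.Normal := by
    constructor
    intro k hk g
    rw [hK, mem_subgroupOf, mem_centralizer_iff] at hk ⊢
    intro d hd
    have hd' : (g : G)⁻¹ * d * g ∈ omegaCenter D := by
      have := conj_mem_omegaCenter (inv_mem g.2) hd
      rwa [inv_inv] at this
    have := congrArg (fun t => (g : G) * t * (g : G)⁻¹) (hk _ hd')
    simpa [mul_assoc] using this
  have hp : IsPGroup 2 (N ⧸ K) := by
    intro q
    obtain ⟨g, rfl⟩ := QuotientGroup.mk_surjective q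
    obtain ⟨i, m, hm, hg⟩ := Nat.exists_eq_pow_mul_and_not_dvd (orderOf_pos g).ne' 2 (by norm_num)
    refine ⟨i, ?_⟩
    rw [← QuotientGroup.mk_pow, QuotientGroup.eq_one_iff]
    show ((g ^ 2 ^ i : N) : G) ∈ centralizer (omegaCenter D : Set G)
    rw [mem_centralizer_iff]
    intro d hd
    refine ((hodd _ (g ^ 2 ^ i).2 ?_) d hd).eq.symm
    rw [Subgroup.orderOf_coe, orderOf_pow, hg, Nat.gcd_eq_right (dvd_mul_right _ _),
      Nat.mul_div_cancel_left _ (pow_pos two_pos _), Nat.odd_iff, ← Nat.two_dvd_ne_zero]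
    exact hm
  set M : Subgroup N := (centralizer ({z} : Set G)).subgroupOf N with hM
  have hKM : K ≤ M := fun k hk => by
    rw [hM, mem_subgroupOf, mem_centralizer_singleton_iff]
    exact ((mem_centralizer_iff.1 (mem_subgroupOf.1 hk)) z hzV).symm
  have hPM : (P ⊓ N).subgroupOf N ≤ M := fun k hk => by
    rw [hM, mem_subgroupOf, mem_centralizer_singleton_iff]
    exact hzP _ (mem_subgroupOf.1 hk).1
  obtain ⟨j, hj⟩ := IsPGroup.iff_card.1 hp
  have hMidx : M.index = 1 := by
    refine Nat.eq_one_of_dvd_coprimes ?_ (index_dvd_of_le hPM) ((index_dvd_of_le hKM).trans (dvd_of_eq hj))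
    exact ((Nat.prime_two.coprime_iff_not_dvd.2 hOK.2.2.2).symm).pow_right j
  have hxM : (⟨x, hx⟩ : N) ∈ M := by rw [index_eq_one.1 hMidx]; exact mem_top _
  exact mem_centralizer_singleton_iff.1 (mem_subgroupOf.1 hxM)

theorem fixes_of_chain {P : Subgroup G} {z : G} (hz : z * z = 1) (hzP : ∀ y ∈ P, y * z = z * y)
    (hodd : ∀ D : Subgroup G, IsPGroup 2 D → ∀ b ∈ normalizer (D : Set G), Odd (orderOf b) →
      ∀ u ∈ omegaCenter D, Commute b u) (hP : IsPGroup 2 P) :
    ∀ l : List (Subgroup G × G), H71.GoldChain P 2 {z} l →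
      (l.map Prod.snd).prod * z = z * (l.map Prod.snd).prod := by
  intro l
  induction l with
  | nil => intro _; simp
  | cons a l ih =>
    obtain ⟨D, x⟩ := a
    intro h
    obtain ⟨hOK, hx, hzD, hrest⟩ := h
    have h1 := fixes_of_step hOK hx (hzD rfl) hz hzP (hodd D (hP.to_le hOK.1))
    have himg : (fun a => x⁻¹ * a * x) '' ({z} : Set G) = {z} := by
      rw [Set.image_singleton, mul_assoc, ← h1, inv_mul_cancel_left]
    rw [himg] at hrest
    rw [List.map_cons, List.prod_cons, mul_assoc, ih hrest, ← mul_assoc, h1, mul_assoc]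

/-- A subgroup of exponent two with a non-trivial action of odd order, in a simple group. -/
theorem exists_action [IsSimpleGroup G] (hna : ¬ IsMulCommutative G) (heven : 2 ∣ Nat.card G) :
    ∃ E : Subgroup G, (∀ e ∈ E, e * e = 1) ∧ ∃ b ∈ normalizer (E : Set G), Odd (orderOf b) ∧
      ∃ u ∈ E, ¬ Commute b u := by
  classical
  haveI : Fact (Nat.Prime 2) := ⟨Nat.prime_two⟩
  by_contra hcon
  push Not at hcon
  have hodd : ∀ D : Subgroup G, IsPGroup 2 D → ∀ b ∈ normalizer (D : Set G), Odd (orderOf b) →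
      ∀ u ∈ omegaCenter D, Commute b u :=
    fun D _ b hb ho u hu => hcon (omegaCenter D) (fun e he => he.2.2) b
      (normalizer_le_normalizer_omegaCenter D hb) ho u hu
  obtain ⟨P⟩ : Nonempty (Sylow 2 G) := inferInstance
  haveI : Nontrivial (P : Subgroup G) :=
    (nontrivial_iff_ne_bot _).mpr (P.ne_bot_of_dvd_card heven)
  haveI := P.isPGroup'.center_nontrivial
  obtain ⟨⟨w, hwc⟩, hw⟩ : ∃ w : center (P : Subgroup G), orderOf w = 2 := by
    refine exists_prime_orderOf_dvd_card' 2 ?_
    obtain ⟨m, hm⟩ := IsPGroup.iff_card.1 (P.isPGroup'.to_subgroup (center (P : Subgroup G)))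
    rw [hm]
    have : m ≠ 0 := by
      rintro rfl
      have := Finite.one_lt_card (α := center (P : Subgroup G))
      omega
    exact dvd_pow_self 2 this
  rw [← Subgroup.orderOf_coe] at hw
  obtain ⟨z, hzP⟩ := w
  rw [← Subgroup.orderOf_coe] at hw
  have hz2 : z * z = 1 := by rw [← pow_two, ← hw, pow_orderOf_eq_one]
  have hzc : ∀ y ∈ (P : Subgroup G), y * z = z * y := fun y hy =>
    congrArg Subtype.val (mem_center_iff.1 hwc ⟨y, hy⟩)
  have hwf : H85.WeaklyFixed (P : Subgroup G) (zpowers z) := by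
    intro x hx
    refine ⟨(zpowers_le.2 hzP) hx, fun g hg => ?_⟩
    obtain ⟨k, rfl⟩ := mem_zpowers_iff.1 hx
    suffices h : Commute g (z ^ k) by rw [h.eq, mul_inv_cancel_right]
    rcases Int.even_or_odd k with ⟨i, hi⟩ | ⟨i, hi⟩
    · rw [hi, ← two_mul, zpow_mul, zpow_two, hz2, one_zpow]
      exact Commute.one_right g
    · have hzk : z ^ k = z := by
        rw [hi, zpow_add, zpow_mul, zpow_two, hz2, one_zpow, one_mul, zpow_one]
      rw [hzk] at hg ⊢
      obtain ⟨c, l, -, hc, hl, he⟩ := H71.GoldGood.mono (A := {z})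
        (B := ((zpowers z : Subgroup G) : Set G)) (by simp)
        (H71.goldGood_sylow P (Nat.card (P : Subgroup G)) (zpowers z) g⁻¹ (Nat.le_add_left _ _)
          (zpowers_le.2 hzP) (by
            intro y hy
            rw [H71.mem_cjBy, inv_inv] at hy
            obtain ⟨j, hj⟩ := mem_zpowers_iff.1 hy
            have : y = g * (z ^ j) * g⁻¹ := by rw [hj]; group
            rw [this, ← conj_zpow]
            exact zpow_mem hg j))
      have h1 := fixes_of_chain hz2 hzc hodd P.isPGroup' l hl
      have h2 : c * z = z * c := (mem_centralizer_iff.1 hc z rfl).symm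
      have h3 : Commute g⁻¹ z := by
        rw [he]
        exact Commute.mul_left h2 h1
      simpa using h3.inv_left
  have hcore := H85.mem_core_of_weaklyFixed (orderOf z) G P (zpowers z) hwf z (mem_zpowers z) rfl
  rw [AutFixSylow.simple_oddCore_eq_bot P (P.ne_bot_of_dvd_card heven)] at hcore
  have hzcen : z ∈ center G := mem_center_iff.2 fun g => by
    have := mem_bot.1 (hcore g)
    rw [mul_inv_eq_one, mul_inv_eq_iff_eq_mul] at this
    exact this.symm
  rw [AutFixSylow.simple_center_eq_bot hna, mem_bot] at hzcen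
  rw [orderOf_eq_one_iff.2 hzcen] at hw
  norm_num at hw

end H3.InvolutionAutomizer
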