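import Cfsg.Agent.H3.OutSolvable
import Cfsg.Agent.H2.UniqueSubgroup
import Cfsg.Agent.H70.QuaternionQuot
import Cfsg.Agent.S0201
import Cfsg.Agent.S0219
import Mathlib.GroupTheory.SpecificGroups.KleinFour

/-!
A non-cyclic simple group contains a Klein four-group, given solvability of groups of odd order.
-/

set_option autoImplicit false

namespace H3.KleinFour

open Cfsg Subgroup

/-- Two distinct commuting involutions generate a Klein four-group. -/
theorem exists_kleinFour_of_commute {G : Type*} [Group G] {x y : G} (hx : orderOf x = 2)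
    (hy : orderOf y = 2) (hxy : x ≠ y) (hc : x * y = y * x) :
    ∃ E : Subgroup G, IsKleinFour E := by
  have hxx : x * x = 1 := by rw [← pow_two, ← hx, pow_orderOf_eq_one]
  have hyy : y * y = 1 := by rw [← pow_two, ← hy, pow_orderOf_eq_one]
  have hx1 : x ≠ 1 := fun h => by simp [h] at hx
  have hy1 : y ≠ 1 := fun h => by simp [h] at hy
  have hxi : x⁻¹ = x := inv_eq_of_mul_eq_one_right hxx
  have hyi : y⁻¹ = y := inv_eq_of_mul_eq_one_right hyy
  have hxy1 : x * y ≠ 1 := fun h => hxy (by rw [eq_inv_of_mul_eq_one_left h, hyi])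
  let E : Subgroup G :=
    { carrier := {1, x, y, x * y}
      one_mem' := by simp
      mul_mem' := by
        rintro a b (rfl | rfl | rfl | rfl) (rfl | rfl | rfl | rfl) <;>
          simp [hxx, hyy, hc, ← mul_assoc] <;>
          simp [mul_assoc, hxx, hyy] <;>
          simp [← mul_assoc, hxx, hyy, hc]
      inv_mem' := by
        rintro a (rfl | rfl | rfl | rfl) <;> simp [hxi, hyi, hc] }
  refine ⟨E, ?_, ?_⟩
  · have hset : (E : Set G) = ({1, x, y, x * y} : Set G) := rfl
    rw [← SetLike.coe_sort_coe, Nat.card_coe_set_eq, hset]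
    have h1 : (1 : G) ∉ ({x, y, x * y} : Set G) := by
      simp [Ne.symm hx1, Ne.symm hy1, Ne.symm hxy1]
    have h2 : x ∉ ({y, x * y} : Set G) := by
      simp [hxy, hy1]
    have h3 : y ∉ ({x * y} : Set G) := by
      simp [hx1]
    rw [Set.ncard_insert_of_notMem h1, Set.ncard_insert_of_notMem h2,
      Set.ncard_insert_of_notMem h3, Set.ncard_singleton]
  · apply le_antisymm
    · refine Nat.le_of_dvd (by norm_num) (Monoid.exponent_dvd_of_forall_pow_eq_one ?_)
      rintro ⟨a, ha⟩
      ext
      simp only [SubmonoidClass.coe_pow, OneMemClass.coe_one, pow_two]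
      rcases ha with rfl | rfl | rfl | rfl
      · simp
      · exact hxx
      · exact hyy
      · show x * y * (x * y) = 1
        rw [mul_assoc, ← mul_assoc y x y, ← hc, mul_assoc x y y, hyy, mul_one, hxx]
    · have h1 : (⟨x, Or.inr (Or.inl rfl)⟩ : E) ≠ 1 := fun h => hx1 (congrArg Subtype.val h)
      haveI : Nontrivial E := nontrivial_of_ne _ _ h1
      haveI : Finite E := Set.Finite.to_subtype (Set.toFinite ({1, x, y, x * y} : Set G))
      have h2 := Monoid.one_lt_exponent (G := E)
      omega

/-- A non-cyclic simple group contains a Klein four-group. -/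
theorem exists_kleinFour.{u} (hFT : AutFixSylow.OddOrderSolvable.{u}) {G : Type u} [Group G]
    [Finite G] [IsSimpleGroup G] (hG : ¬ IsCyclic G) : ∃ E : Subgroup G, IsKleinFour E := by
  haveI : Fact (Nat.Prime 2) := ⟨Nat.prime_two⟩
  -- the order is even
  have heven : Even (Nat.card G) := by
    rw [← Nat.not_odd_iff_even]
    intro hodd
    haveI := hFT G hodd
    obtain ⟨hcomm⟩ : Nonempty (∀ a b : G, a * b = b * a) := ⟨IsSimpleGroup.comm_iff_isSolvable.2 ‹_›⟩
    apply hG
    letI : CommGroup G := { (inferInstance : Group G) with mul_comm := hcomm }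
    exact IsSimpleGroup.isCyclic
  obtain ⟨S⟩ : Nonempty (Sylow 2 G) := Sylow.nonempty
  have hSp : IsPGroup 2 (S : Subgroup G) := S.isPGroup'
  have hScard : 2 ∣ Nat.card (S : Subgroup G) :=
    S.dvd_card_of_dvd_card heven.two_dvd
  haveI : Nontrivial (S : Subgroup G) := by
    rw [← Finite.one_lt_card_iff_nontrivial]
    exact lt_of_lt_of_le one_lt_two (Nat.le_of_dvd Nat.card_pos hScard)
  -- a central involution of `S`
  haveI := hSp.center_nontrivial
  obtain ⟨⟨z, hzc⟩, hz⟩ : ∃ z : center (S : Subgroup G), orderOf z = 2 := by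
    refine exists_prime_orderOf_dvd_card' 2 ?_
    obtain ⟨m, hm⟩ := IsPGroup.iff_card.1 (hSp.to_subgroup (center (S : Subgroup G)))
    rw [hm]
    have : m ≠ 0 := by
      rintro rfl
      have := Finite.one_lt_card (α := center (S : Subgroup G))
      omega
    exact dvd_pow_self 2 this
  rw [← Subgroup.orderOf_coe] at hz
  by_cases hex : ∃ t : (S : Subgroup G), orderOf t = 2 ∧ t ≠ z
  · obtain ⟨t, ht, htz⟩ := hex
    refine exists_kleinFour_of_commute (x := (z : G)) (y := (t : G)) ?_ ?_ ?_ ?_
    · rw [Subgroup.orderOf_coe]; exact hz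
    · rw [Subgroup.orderOf_coe]; exact ht
    · exact fun h => htz (Subtype.ext h.symm)
    · exact congrArg Subtype.val ((Subgroup.mem_center_iff.1 hzc t).symm)
  push Not at hex
  have hu : ∃! t : (S : Subgroup G), orderOf t = 2 := ⟨z, hz, fun t ht => hex t ht⟩
  exfalso
  by_cases hcomm : IsMulCommutative (S : Subgroup G)
  · -- cyclic Sylow 2-subgroup
    have huniq : ∀ H K : Subgroup (S : Subgroup G), Nat.card H = 2 → Nat.card K = 2 → H = K := by
      have key : ∀ H : Subgroup (S : Subgroup G), Nat.card H = 2 → H = zpowers z := by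
        intro H hH
        haveI : Nontrivial H := Finite.one_lt_card_iff_nontrivial.1 (by omega)
        obtain ⟨h, hh⟩ := exists_ne (1 : H)
        have ho : orderOf (h : (S : Subgroup G)) = 2 := by
          rw [Subgroup.orderOf_coe]
          have := orderOf_dvd_natCard h
          rw [hH] at this
          rcases (Nat.dvd_prime Nat.prime_two).1 this with h1 | h1
          · exact absurd (orderOf_eq_one_iff.1 h1) hh
          · exact h1
        have hz' := hex _ ho
        refine (Subgroup.eq_of_le_of_card_ge ?_ ?_).symm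
        · rw [zpowers_le, ← hz']; exact h.2
        · rw [hH, Nat.card_zpowers, hz]
      intro H K hH hK
      rw [key H hH, key K hK]
    have hcyc : IsCyclic (S : Subgroup G) := by
      have h1 := H2.isCyclic_comm_of_unique hSp huniq ⊤ ?_
      · exact Subgroup.topEquiv.isCyclic.1 h1
      · exact ⟨⟨fun a b => Subtype.ext (hcomm.is_comm.comm a.1 b.1)⟩⟩
    obtain ⟨H, hH⟩ := Cfsg.Agent.S0219.result heven S hcyc
    haveI := Subgroup.normal_of_index_eq_two hH
    rcases IsSimpleGroup.eq_bot_or_eq_top_of_normal H inferInstance with rfl | rfl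
    · rw [Subgroup.index_bot] at hH
      haveI : Fact (Nat.Prime 2) := ⟨Nat.prime_two⟩
      exact hG (isCyclic_of_prime_card hH)
    · simp at hH
  · -- generalised quaternion Sylow 2-subgroup
    obtain ⟨k, hk, ⟨e⟩⟩ := H70.quaternion_of_unique_involution hSp hcomm hu
    obtain ⟨n, rfl⟩ : ∃ n, k = n + 1 := ⟨k - 1, by omega⟩
    have hcen := Cfsg.Agent.S0201.result S n e (fun N hN hodd => by
      rcases IsSimpleGroup.eq_bot_or_eq_top_of_normal N hN with h | h
      · exact h
      · rw [h, Subgroup.card_top] at hodd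
        exact absurd hodd (Nat.not_odd_iff_even.2 heven))
    rcases IsSimpleGroup.eq_bot_or_eq_top_of_normal (center G) inferInstance with h | h
    · rw [h, Subgroup.card_bot] at hcen
      omega
    · apply hG
      haveI : Fact (Nat.Prime 2) := ⟨Nat.prime_two⟩
      rw [h, Subgroup.card_top] at hcen
      exact isCyclic_of_prime_card hcen

end H3.KleinFour
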