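import Cfsg.Agent.H3.Schmidt
import Cfsg.Prelude.Def_Transfer

/-!
Groups all of whose proper subgroups are abelian.
-/

set_option autoImplicit false

namespace H3

open Subgroup

universe u

variable {G : Type u} [Group G]

theorem minimal_non_abelian [Finite G] (hna : ¬ IsMulCommutative G)
    (h : ∀ H : Subgroup G, H ≠ ⊤ → IsMulCommutative H) :
    (∃ p : ℕ, p.Prime ∧ IsPGroup p G) ∨ ∃ p q : ℕ, p.Prime ∧ q.Prime ∧ p ≠ q ∧
      ∃ (P : Sylow p G) (Q : Sylow q G), IsCyclic P ∧ (Q : Subgroup G).Normal ∧
        Cfsg.IsElementaryAbelian q (Q : Subgroup G) ∧ (P : Subgroup G) ⊔ Q = ⊤ := by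
  have hnilp : ∀ H : Subgroup G, H ≠ ⊤ → Group.IsNilpotent H := by
    intro H hH
    haveI := h H hH
    letI : CommGroup H := { (inferInstance : Group H) with mul_comm := fun a b => mul_comm' a b }
    infer_instance
  by_cases hnil : Group.IsNilpotent G
  · left
    by_contra hcon
    apply hna
    refine ⟨⟨fun a b => ?_⟩⟩
    -- every element of prime-power order is central
    have key : ∀ (p : ℕ) [Fact p.Prime] (P : Sylow p G), (P : Subgroup G) ≤ center G := by
      intro p _ P x hx
      have hPtop : (P : Subgroup G) ≠ ⊤ := fun hP => hcon ⟨p, Fact.out, fun g => by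
        obtain ⟨k, hk⟩ := P.isPGroup' ⟨g, hP ▸ mem_top g⟩
        exact ⟨k, by simpa using congrArg Subtype.val hk⟩⟩
      suffices hc : centralizer ({x} : Set G) = ⊤ by
        rw [Subgroup.mem_center_iff]
        intro g
        exact Subgroup.mem_centralizer_singleton_iff.mp (hc ▸ mem_top g)
      refine Subgroup.eq_top_of_card_eq _ (Nat.dvd_antisymm (Subgroup.card_subgroup_dvd_card _) ?_)
      rw [← Nat.factorization_le_iff_dvd Nat.card_pos.ne' Nat.card_pos.ne']
      intro r
      by_cases hr : r.Prime
      swap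
      · rw [Nat.factorization_eq_zero_of_not_prime _ hr]; exact Nat.zero_le _
      haveI := Fact.mk hr
      have hle : ∀ R : Sylow r G, (R : Subgroup G) ≤ centralizer ({x} : Set G) →
          (Nat.card G).factorization r ≤ (Nat.card (centralizer ({x} : Set G))).factorization r := by
        intro R hR
        rw [← hr.pow_dvd_iff_le_factorization Nat.card_pos.ne', ← R.card_eq_multiplicity]
        exact Subgroup.card_dvd_of_le hR
      by_cases hrp : r = p
      · subst hrp
        haveI := h _ hPtop
        refine hle P fun y hy => Subgroup.mem_centralizer_singleton_iff.mpr ?_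
        exact setLike_mul_comm hy hx
      · obtain ⟨R⟩ : Nonempty (Sylow r G) := inferInstance
        haveI := hnil
        haveI : Group.IsNilpotent ↥((R : Subgroup G) ⊔ P) := inferInstance
        refine hle R fun y hy => Subgroup.mem_centralizer_singleton_iff.mpr ?_
        exact (Subgroup.mem_centralizer_iff.mp
          (commute_of_nilpotent_sup hrp R.isPGroup' P.isPGroup' inferInstance hy) x hx).symm
    have htop : center G = ⊤ := by
      refine Subgroup.eq_top_of_card_eq _ (Nat.dvd_antisymm (Subgroup.card_subgroup_dvd_card _) ?_)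
      rw [← Nat.factorization_le_iff_dvd Nat.card_pos.ne' Nat.card_pos.ne']
      intro r
      by_cases hr : r.Prime
      swap
      · rw [Nat.factorization_eq_zero_of_not_prime _ hr]; exact Nat.zero_le _
      haveI := Fact.mk hr
      obtain ⟨R⟩ : Nonempty (Sylow r G) := inferInstance
      rw [← hr.pow_dvd_iff_le_factorization Nat.card_pos.ne', ← R.card_eq_multiplicity]
      exact Subgroup.card_dvd_of_le (key r R)
    exact Subgroup.mem_center_iff.mp (htop ▸ mem_top b) a
  · right
    obtain ⟨p, q, hp, hq, hpq, P, Q, hPc, hQn, htop⟩ := minimal_non_nilpotent ⟨hnil, hnilp⟩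
    haveI := Fact.mk hp
    haveI := Fact.mk hq
    haveI := hQn
    have hQtop : (Q : Subgroup G) ≠ ⊤ := by
      intro hQ
      refine hnil ?_
      have : IsPGroup q G := fun g => by
        obtain ⟨k, hk⟩ := Q.isPGroup' ⟨g, hQ ▸ mem_top g⟩
        exact ⟨k, by simpa using congrArg Subtype.val hk⟩
      exact this.isNilpotent
    haveI := h _ hQtop
    refine ⟨p, q, hp, hq, hpq, P, Q, hPc, hQn, ⟨inferInstance, ?_⟩, htop⟩
    let R : Subgroup G :=
      { carrier := {a | a ∈ (Q : Subgroup G) ∧ a ^ q = 1}
        mul_mem' := fun {a b} ha hb => ⟨mul_mem ha.1 hb.1, by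
          rw [(show Commute a b from setLike_mul_comm ha.1 hb.1).mul_pow, ha.2, hb.2, one_mul]⟩
        one_mem' := ⟨one_mem _, one_pow _⟩
        inv_mem' := fun {a} ha => ⟨inv_mem ha.1, by rw [inv_pow, ha.2, inv_one]⟩ }
    haveI : R.Normal := ⟨fun a ha g => ⟨hQn.conj_mem a ha.1 g, by rw [conj_pow, ha.2]; simp⟩⟩
    have hne : ¬ (P : Subgroup G) ≤ centralizer ((Q : Subgroup G) : Set G) := by
      intro hc
      apply hna
      haveI := hPc
      have hPcomm : ∀ a ∈ (P : Subgroup G), ∀ b ∈ (P : Subgroup G), a * b = b * a := by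
        intro a ha b hb
        letI := IsCyclic.commGroup (α := (P : Subgroup G))
        exact congrArg Subtype.val (mul_comm (⟨a, ha⟩ : (P : Subgroup G)) ⟨b, hb⟩)
      have htop' : center G = ⊤ := by
        rw [eq_top_iff, ← htop, sup_le_iff]
        constructor <;> intro x hx <;> rw [Subgroup.mem_center_iff] <;> intro g <;>
          obtain ⟨a, ha, b, hb, rfl⟩ := Subgroup.mem_sup_of_normal_right.mp (htop.symm ▸ mem_top g)
        · calc a * b * x = a * (b * x) := mul_assoc _ _ _
            _ = a * (x * b) := by rw [Subgroup.mem_centralizer_iff.mp (hc hx) b hb]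
            _ = x * (a * b) := by rw [← mul_assoc, hPcomm a ha x hx, mul_assoc]
        · calc a * b * x = a * (x * b) := by rw [mul_assoc, setLike_mul_comm hb hx]
            _ = x * (a * b) := by
              rw [← mul_assoc, ← Subgroup.mem_centralizer_iff.mp (hc ha) x hx, mul_assoc]
      exact ⟨⟨fun a b => Subgroup.mem_center_iff.mp (htop' ▸ mem_top b) a⟩⟩
    obtain ⟨x, hxP, hxc⟩ := Set.not_subset.mp hne
    -- the `q`-th powers of `Q` generate, with `P`, a proper subgroup
    let S : Subgroup G :=
      { carrier := {a | ∃ b ∈ (Q : Subgroup G), b ^ q = a}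
        mul_mem' := by
          rintro _ _ ⟨b, hb, rfl⟩ ⟨c, hc, rfl⟩
          exact ⟨b * c, mul_mem hb hc, (show Commute b c from setLike_mul_comm hb hc).mul_pow q⟩
        one_mem' := ⟨1, one_mem _, one_pow _⟩
        inv_mem' := by
          rintro _ ⟨b, hb, rfl⟩
          exact ⟨b⁻¹, inv_mem hb, inv_pow b q⟩ }
    haveI : S.Normal := ⟨by
      rintro _ ⟨b, hb, rfl⟩ g
      exact ⟨g * b * g⁻¹, hQn.conj_mem b hb g, conj_pow⟩⟩
    have hdecomp : ∀ N : Subgroup G, N.Normal → N ≤ (Q : Subgroup G) → (P : Subgroup G) ⊔ N = ⊤ →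
        (Q : Subgroup G) ≤ N := by
      intro N hN hNQ hsup y hy
      haveI := hN
      obtain ⟨a, ha, b, hb, rfl⟩ := Subgroup.mem_sup_of_normal_right.mp (hsup ▸ mem_top y)
      have ha' : a ∈ (P : Subgroup G) ⊓ Q :=
        ⟨ha, ((Q : Subgroup G).mul_mem_cancel_right (hNQ hb)).mp hy⟩
      rw [(IsPGroup.disjoint_of_ne p q hpq _ _ P.isPGroup' Q.isPGroup').eq_bot, Subgroup.mem_bot] at ha'
      rw [ha', one_mul]
      exact hb
    have hPS : (P : Subgroup G) ⊔ S ≠ ⊤ := by
      intro hsup
      have hQS : (Q : Subgroup G) ≤ S := hdecomp S inferInstance (by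
        rintro _ ⟨b, hb, rfl⟩; exact pow_mem hb q) hsup
      -- then the `q`-power map on `Q` is bijective, so `Q` is trivial
      have hsurj : Function.Surjective (fun b : (Q : Subgroup G) => b ^ q) := fun b => by
        obtain ⟨c, hc, hcb⟩ := hQS b.2
        exact ⟨⟨c, hc⟩, Subtype.ext (by simpa using hcb)⟩
      have hinj := Finite.injective_iff_surjective.mpr hsurj
      have hQ1 : ¬ q ∣ Nat.card (Q : Subgroup G) := by
        intro hd
        obtain ⟨z, hz⟩ := exists_prime_orderOf_dvd_card' (G := (Q : Subgroup G)) q hd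
        have h1 := hinj (a₁ := z) (a₂ := 1) (show z ^ q = 1 ^ q by
          have hzq := pow_orderOf_eq_one z
          rw [hz] at hzq
          rw [hzq, one_pow])
        rw [h1, orderOf_one] at hz
        exact hq.ne_one hz.symm
      have hQbot : (Q : Subgroup G) = ⊥ := by
        rcases Q.isPGroup'.card_eq_or_dvd with h1 | h1
        · exact Subgroup.eq_bot_of_card_eq _ h1
        · exact absurd h1 hQ1
      exact hne (by rw [hQbot]; intro y _; rw [Subgroup.mem_centralizer_iff]; intro z hz; simp_all)
    have hPR : (P : Subgroup G) ⊔ R = ⊤ := by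
      by_contra hPR
      haveI := h _ hPR
      haveI := h _ hPS
      -- `[x, y]` has order dividing both a power of `p` and `q`
      refine hxc (Subgroup.mem_centralizer_iff.mpr fun y hy => ?_)
      set c := x * y * x⁻¹ * y⁻¹ with hc
      have hcQ : c ∈ (Q : Subgroup G) := mul_mem (hQn.conj_mem y hy x) (inv_mem hy)
      have hxy : x * y ^ q * x⁻¹ = y ^ q := by
        rw [setLike_mul_comm (Subgroup.mem_sup_left (T := S) hxP)
          (Subgroup.mem_sup_right (S := (P : Subgroup G)) (show y ^ q ∈ S from ⟨y, hy, rfl⟩)),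
          mul_inv_cancel_right]
      have hcR : c ∈ R := by
        refine ⟨hcQ, ?_⟩
        rw [hc, (show Commute (x * y * x⁻¹) y⁻¹ from
          setLike_mul_comm (hQn.conj_mem y hy x) (inv_mem hy)).mul_pow, conj_pow, hxy, inv_pow,
          mul_inv_cancel]
      have hxc' : x * c * x⁻¹ = c := by
        rw [setLike_mul_comm (Subgroup.mem_sup_left (T := R) hxP)
          (Subgroup.mem_sup_right (S := (P : Subgroup G)) hcR), mul_inv_cancel_right]
      have hiter : ∀ n : ℕ, x ^ n * y * (x ^ n)⁻¹ = c ^ n * y := by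
        intro n
        induction n with
        | zero => simp
        | succ n ih =>
          calc x ^ (n + 1) * y * (x ^ (n + 1))⁻¹ = x * (x ^ n * y * (x ^ n)⁻¹) * x⁻¹ := by
                rw [pow_succ']; group
            _ = (x * c ^ n * x⁻¹) * (x * y * x⁻¹) := by rw [ih]; group
            _ = c ^ (n + 1) * y := by
                rw [← conj_pow, hxc', pow_succ, hc]; group
      obtain ⟨k, hk⟩ := P.isPGroup' ⟨x, hxP⟩
      have hxk : x ^ p ^ k = 1 := by simpa using congrArg Subtype.val hk
      have h1 := hiter (p ^ k)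
      rw [hxk, one_mul, inv_one, mul_one, right_eq_mul] at h1
      have hc1 : c = 1 := orderOf_eq_one_iff.mp (Nat.eq_one_of_dvd_coprimes
        (((Nat.coprime_primes hp hq).mpr hpq).pow_left k) (orderOf_dvd_of_pow_eq_one h1)
        (orderOf_dvd_of_pow_eq_one hcR.2))
      rw [hc, mul_inv_eq_one, mul_inv_eq_iff_eq_mul] at hc1
      exact hc1.symm
    intro a ha
    exact (hdecomp R inferInstance (fun z hz => hz.1) hPR ha).2

end H3
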