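import Cfsg.Agent.H3.AutFixSylow
import Cfsg.Agent.H16.OddOrder

/-!
The odd order theorem in the shape used by the conditional results.
-/

set_option autoImplicit false

namespace H3

universe u

theorem oddOrderSolvable : AutFixSylow.OddOrderSolvable.{u} := fun H _ _ h => H16.FT.oddOrder h

end H3
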