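import Cfsg.Agent.H3.GL32Count

/-!
A solvable and a non-solvable group of the same order type: a product of small semidirect products
and a product of the same kind times nine copies of `GL(3,2)`.  (Generated data, checked by `decide`.)
-/

set_option autoImplicit false
set_option maxRecDepth 100000

namespace H3

namespace OrderTypeExample

instance affDecEq {H : Type} [Group H] [DecidableEq H] (B : ActBlk H) : DecidableEq (Aff B) :=
  (affEquiv B).decidableEq

instance affFintype {H : Type} [Group H] [Fintype H] (B : ActBlk H) : Fintype (Aff B) :=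
  Fintype.ofEquiv _ (affEquiv B).symm

theorem aff_exp {H : Type} [Group H] [Fintype H] [DecidableEq H] (B : ActBlk H)
    (h : powCount (Aff B) 84 = Fintype.card B.V * Fintype.card H) (g : Aff B) : g ^ 84 = 1 := by
  refine pow_eq_one_of_count ?_ g
  rw [h, Nat.card_congr (affEquiv B), Nat.card_prod, Nat.card_eq_fintype_card,
    Nat.card_eq_fintype_card]

/-- A solvable group with its solution counts. -/
structure CountGroup where
  T : Type
  [grp : Group T]
  [fin : Finite T]
  solv : Group.IsSolvable T
  tab : Fin 12 → ℕ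
  htab : ∀ i, powCount T (dv i) = tab i
  hexp : ∀ g : T, g ^ 84 = 1

attribute [instance] CountGroup.grp CountGroup.fin

/-- A linear map. -/
def f0 (v : ZMod 2 × ZMod 2 × ZMod 2) : ZMod 2 × ZMod 2 × ZMod 2 := (v.1, v.2.1, v.2.2)

/-- A block. -/
def b0 : ActBlk (Multiplicative (ZMod 1)) :=
  cycBlk 1 f0 (by decide +kernel) (by decide +kernel)

/-- A factor. -/
def g0B : ActBlk (Multiplicative (ZMod 1)) := b0

/-- Its solution counts. -/
def g0T : Fin 12 → ℕ := ![1, 8, 1, 8, 8, 1, 8, 8, 1, 8, 8, 8]

theorem g0_tab : ∀ i, powCount (Aff g0B) (dv i) = g0T i := by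
  intro i
  rw [powCount_aff]
  simp only [affCount, g0B, ActBlk.cnt_prod]
  revert i
  decide +kernel

/-- The factor as a group with counts. -/
def g0 : CountGroup where
  T := Aff g0B
  solv := by
    haveI : Group.IsSolvable (Multiplicative (ZMod 1)) := Group.isSolvable_of_comm mul_comm
    exact isSolvable_aff _
  tab := g0T
  htab := g0_tab
  hexp := aff_exp _ ((g0_tab 11).trans (by decide +kernel))

/-- A linear map. -/
def f1 (v : ZMod 3) : ZMod 3 := v

/-- A block. -/
def b1 : ActBlk (Multiplicative (ZMod 1)) :=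
  cycBlk 1 f1 (by decide +kernel) (by decide +kernel)

/-- A factor. -/
def g1B : ActBlk (Multiplicative (ZMod 1)) := b1

/-- Its solution counts. -/
def g1T : Fin 12 → ℕ := ![1, 1, 3, 1, 3, 1, 3, 1, 3, 1, 3, 3]

theorem g1_tab : ∀ i, powCount (Aff g1B) (dv i) = g1T i := by
  intro i
  rw [powCount_aff]
  simp only [affCount, g1B, ActBlk.cnt_prod]
  revert i
  decide +kernel

/-- The factor as a group with counts. -/
def g1 : CountGroup where
  T := Aff g1B
  solv := by
    haveI : Group.IsSolvable (Multiplicative (ZMod 1)) := Group.isSolvable_of_comm mul_comm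
    exact isSolvable_aff _
  tab := g1T
  htab := g1_tab
  hexp := aff_exp _ ((g1_tab 11).trans (by decide +kernel))

/-- A linear map. -/
def f2 (v : ZMod 7) : ZMod 7 := v

/-- A block. -/
def b2 : ActBlk (Multiplicative (ZMod 1)) :=
  cycBlk 1 f2 (by decide +kernel) (by decide +kernel)

/-- A factor. -/
def g2B : ActBlk (Multiplicative (ZMod 1)) := b2

/-- Its solution counts. -/
def g2T : Fin 12 → ℕ := ![1, 1, 1, 1, 1, 7, 1, 7, 7, 7, 7, 7]

theorem g2_tab : ∀ i, powCount (Aff g2B) (dv i) = g2T i := by
  intro i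
  rw [powCount_aff]
  simp only [affCount, g2B, ActBlk.cnt_prod]
  revert i
  decide +kernel

/-- The factor as a group with counts. -/
def g2 : CountGroup where
  T := Aff g2B
  solv := by
    haveI : Group.IsSolvable (Multiplicative (ZMod 1)) := Group.isSolvable_of_comm mul_comm
    exact isSolvable_aff _
  tab := g2T
  htab := g2_tab
  hexp := aff_exp _ ((g2_tab 11).trans (by decide +kernel))

/-- A linear map. -/
def f3 (v : ZMod 3) : ZMod 3 := 2 * v

/-- A block. -/
def b3 : ActBlk (Multiplicative (ZMod 2)) :=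
  cycBlk 2 f3 (by decide +kernel) (by decide +kernel)

/-- A factor. -/
def g3B : ActBlk (Multiplicative (ZMod 2)) := b3

/-- Its solution counts. -/
def g3T : Fin 12 → ℕ := ![1, 4, 3, 4, 6, 1, 6, 4, 3, 4, 6, 6]

theorem g3_tab : ∀ i, powCount (Aff g3B) (dv i) = g3T i := by
  intro i
  rw [powCount_aff]
  simp only [affCount, g3B, ActBlk.cnt_prod]
  revert i
  decide +kernel

/-- The factor as a group with counts. -/
def g3 : CountGroup where
  T := Aff g3B
  solv := by
    haveI : Group.IsSolvable (Multiplicative (ZMod 2)) := Group.isSolvable_of_comm mul_comm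
    exact isSolvable_aff _
  tab := g3T
  htab := g3_tab
  hexp := aff_exp _ ((g3_tab 11).trans (by decide +kernel))

/-- A linear map. -/
def f4 (v : ZMod 7) : ZMod 7 := 6 * v

/-- A block. -/
def b4 : ActBlk (Multiplicative (ZMod 2)) :=
  cycBlk 2 f4 (by decide +kernel) (by decide +kernel)

/-- A factor. -/
def g4B : ActBlk (Multiplicative (ZMod 2)) := b4

/-- Its solution counts. -/
def g4T : Fin 12 → ℕ := ![1, 8, 1, 8, 8, 7, 8, 14, 7, 14, 14, 14]

theorem g4_tab : ∀ i, powCount (Aff g4B) (dv i) = g4T i := by
  intro i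
  rw [powCount_aff]
  simp only [affCount, g4B, ActBlk.cnt_prod]
  revert i
  decide +kernel

/-- The factor as a group with counts. -/
def g4 : CountGroup where
  T := Aff g4B
  solv := by
    haveI : Group.IsSolvable (Multiplicative (ZMod 2)) := Group.isSolvable_of_comm mul_comm
    exact isSolvable_aff _
  tab := g4T
  htab := g4_tab
  hexp := aff_exp _ ((g4_tab 11).trans (by decide +kernel))

/-- A linear map. -/
def f5 (v : ZMod 2 × ZMod 2) : ZMod 2 × ZMod 2 := (v.2, v.1)

/-- A block. -/
def b5 : ActBlk (Multiplicative (ZMod 2)) :=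
  cycBlk 2 f5 (by decide +kernel) (by decide +kernel)

/-- A factor. -/
def g5B : ActBlk (Multiplicative (ZMod 2)) := (b5).prod b3

/-- Its solution counts. -/
def g5T : Fin 12 → ℕ := ![1, 10, 3, 16, 18, 1, 24, 10, 3, 16, 18, 24]

theorem g5_tab : ∀ i, powCount (Aff g5B) (dv i) = g5T i := by
  intro i
  rw [powCount_aff]
  simp only [affCount, g5B, ActBlk.cnt_prod]
  revert i
  decide +kernel

/-- The factor as a group with counts. -/
def g5 : CountGroup where
  T := Aff g5B
  solv := by
    haveI : Group.IsSolvable (Multiplicative (ZMod 2)) := Group.isSolvable_of_comm mul_comm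
    exact isSolvable_aff _
  tab := g5T
  htab := g5_tab
  hexp := aff_exp _ ((g5_tab 11).trans (by decide +kernel))

/-- A factor. -/
def g6B : ActBlk (Multiplicative (ZMod 2)) := (b3).prod b4

/-- Its solution counts. -/
def g6T : Fin 12 → ℕ := ![1, 22, 3, 22, 24, 7, 24, 28, 21, 28, 42, 42]

theorem g6_tab : ∀ i, powCount (Aff g6B) (dv i) = g6T i := by
  intro i
  rw [powCount_aff]
  simp only [affCount, g6B, ActBlk.cnt_prod]
  revert i
  decide +kernel

/-- The factor as a group with counts. -/
def g6 : CountGroup where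
  T := Aff g6B
  solv := by
    haveI : Group.IsSolvable (Multiplicative (ZMod 2)) := Group.isSolvable_of_comm mul_comm
    exact isSolvable_aff _
  tab := g6T
  htab := g6_tab
  hexp := aff_exp _ ((g6_tab 11).trans (by decide +kernel))

/-- A linear map. -/
def f6 (v : ZMod 3 × ZMod 3 × ZMod 3) : ZMod 3 × ZMod 3 × ZMod 3 := (v.2.2, 2 * v.2.1, v.1)

/-- A block. -/
def b6 : ActBlk (Multiplicative (ZMod 2)) :=
  cycBlk 2 f6 (by decide +kernel) (by decide +kernel)

/-- A factor. -/
def g7B : ActBlk (Multiplicative (ZMod 2)) := (b6).prod b4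

/-- Its solution counts. -/
def g7T : Fin 12 → ℕ := ![1, 64, 27, 64, 216, 7, 216, 70, 189, 70, 378, 378]

theorem g7_tab : ∀ i, powCount (Aff g7B) (dv i) = g7T i := by
  intro i
  rw [powCount_aff]
  simp only [affCount, g7B, ActBlk.cnt_prod]
  revert i
  decide +kernel

/-- The factor as a group with counts. -/
def g7 : CountGroup where
  T := Aff g7B
  solv := by
    haveI : Group.IsSolvable (Multiplicative (ZMod 2)) := Group.isSolvable_of_comm mul_comm
    exact isSolvable_aff _
  tab := g7T
  htab := g7_tab
  hexp := aff_exp _ ((g7_tab 11).trans (by decide +kernel))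

/-- A linear map. -/
def f7 (v : ZMod 2 × ZMod 2 × ZMod 2) : ZMod 2 × ZMod 2 × ZMod 2 := (v.2.2, v.2.1, v.1 + v.2.2)

/-- A block. -/
def b7 : ActBlk (Multiplicative (ZMod 3)) :=
  cycBlk 3 f7 (by decide +kernel) (by decide +kernel)

/-- A factor. -/
def g8B : ActBlk (Multiplicative (ZMod 3)) := b7

/-- Its solution counts. -/
def g8T : Fin 12 → ℕ := ![1, 8, 9, 8, 24, 1, 24, 8, 9, 8, 24, 24]

theorem g8_tab : ∀ i, powCount (Aff g8B) (dv i) = g8T i := by
  intro i
  rw [powCount_aff]
  simp only [affCount, g8B, ActBlk.cnt_prod]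
  revert i
  decide +kernel

/-- The factor as a group with counts. -/
def g8 : CountGroup where
  T := Aff g8B
  solv := by
    haveI : Group.IsSolvable (Multiplicative (ZMod 3)) := Group.isSolvable_of_comm mul_comm
    exact isSolvable_aff _
  tab := g8T
  htab := g8_tab
  hexp := aff_exp _ ((g8_tab 11).trans (by decide +kernel))

/-- A linear map. -/
def f8 (v : ZMod 2 × ZMod 2 × ZMod 2 × ZMod 2) : ZMod 2 × ZMod 2 × ZMod 2 × ZMod 2 := (v.2.2.2, v.2.2.1, v.2.1 + v.2.2.1, v.1 + v.2.2.2)

/-- A block. -/
def b8 : ActBlk (Multiplicative (ZMod 3)) :=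
  cycBlk 3 f8 (by decide +kernel) (by decide +kernel)

/-- A factor. -/
def g9B : ActBlk (Multiplicative (ZMod 3)) := b8

/-- Its solution counts. -/
def g9T : Fin 12 → ℕ := ![1, 16, 33, 16, 48, 1, 48, 16, 33, 16, 48, 48]

theorem g9_tab : ∀ i, powCount (Aff g9B) (dv i) = g9T i := by
  intro i
  rw [powCount_aff]
  simp only [affCount, g9B, ActBlk.cnt_prod]
  revert i
  decide +kernel

/-- The factor as a group with counts. -/
def g9 : CountGroup where
  T := Aff g9B
  solv := by
    haveI : Group.IsSolvable (Multiplicative (ZMod 3)) := Group.isSolvable_of_comm mul_comm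
    exact isSolvable_aff _
  tab := g9T
  htab := g9_tab
  hexp := aff_exp _ ((g9_tab 11).trans (by decide +kernel))

/-- A linear map. -/
def f9 (v : ZMod 2 × ZMod 2) : ZMod 2 × ZMod 2 := (v.2, v.1 + v.2)

/-- A block. -/
def b9 : ActBlk (Multiplicative (ZMod 3)) :=
  cycBlk 3 f9 (by decide +kernel) (by decide +kernel)

/-- A linear map. -/
def f10 (v : ZMod 2 × ZMod 2 × ZMod 2 × ZMod 2) : ZMod 2 × ZMod 2 × ZMod 2 × ZMod 2 := (v.2.2.2, v.2.2.1, v.1 + v.2.2.1 + v.2.2.2, v.1 + v.2.1 + v.2.2.1)

/-- A block. -/
def b10 : ActBlk (Multiplicative (ZMod 3)) :=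
  cycBlk 3 f10 (by decide +kernel) (by decide +kernel)

/-- A linear map. -/
def f11 (v : ZMod 7) : ZMod 7 := 2 * v

/-- A block. -/
def b11 : ActBlk (Multiplicative (ZMod 3)) :=
  cycBlk 3 f11 (by decide +kernel) (by decide +kernel)

/-- A factor. -/
def g10B : ActBlk (Multiplicative (ZMod 3)) := ((b9).prod b10).prod b11

/-- Its solution counts. -/
def g10T : Fin 12 → ℕ := ![1, 64, 225, 64, 960, 7, 960, 448, 231, 448, 1344, 1344]

theorem g10_tab : ∀ i, powCount (Aff g10B) (dv i) = g10T i := by
  intro i
  rw [powCount_aff]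
  simp only [affCount, g10B, ActBlk.cnt_prod]
  revert i
  decide +kernel

/-- The factor as a group with counts. -/
def g10 : CountGroup where
  T := Aff g10B
  solv := by
    haveI : Group.IsSolvable (Multiplicative (ZMod 3)) := Group.isSolvable_of_comm mul_comm
    exact isSolvable_aff _
  tab := g10T
  htab := g10_tab
  hexp := aff_exp _ ((g10_tab 11).trans (by decide +kernel))

/-- A block. -/
def b12 : ActBlk (Multiplicative (ZMod 4)) :=
  cycBlk 4 f3 (by decide +kernel) (by decide +kernel)

/-- A factor. -/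
def g11B : ActBlk (Multiplicative (ZMod 4)) := b12

/-- Its solution counts. -/
def g11T : Fin 12 → ℕ := ![1, 2, 3, 8, 6, 1, 12, 2, 3, 8, 6, 12]

theorem g11_tab : ∀ i, powCount (Aff g11B) (dv i) = g11T i := by
  intro i
  rw [powCount_aff]
  simp only [affCount, g11B, ActBlk.cnt_prod]
  revert i
  decide +kernel

/-- The factor as a group with counts. -/
def g11 : CountGroup where
  T := Aff g11B
  solv := by
    haveI : Group.IsSolvable (Multiplicative (ZMod 4)) := Group.isSolvable_of_comm mul_comm
    exact isSolvable_aff _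
  tab := g11T
  htab := g11_tab
  hexp := aff_exp _ ((g11_tab 11).trans (by decide +kernel))

/-- A linear map. -/
def f12 (v : ZMod 3 × ZMod 3 × ZMod 3) : ZMod 3 × ZMod 3 × ZMod 3 := (v.2.2, v.2.1 + v.2.2, v.1 + 2 * v.2.1 + v.2.2)

/-- A block. -/
def b13 : ActBlk (Multiplicative (ZMod 4)) :=
  cycBlk 4 f12 (by decide +kernel) (by decide +kernel)

/-- A factor. -/
def g12B : ActBlk (Multiplicative (ZMod 4)) := b13

/-- Its solution counts. -/
def g12T : Fin 12 → ℕ := ![1, 10, 27, 64, 54, 1, 108, 10, 27, 64, 54, 108]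

theorem g12_tab : ∀ i, powCount (Aff g12B) (dv i) = g12T i := by
  intro i
  rw [powCount_aff]
  simp only [affCount, g12B, ActBlk.cnt_prod]
  revert i
  decide +kernel

/-- The factor as a group with counts. -/
def g12 : CountGroup where
  T := Aff g12B
  solv := by
    haveI : Group.IsSolvable (Multiplicative (ZMod 4)) := Group.isSolvable_of_comm mul_comm
    exact isSolvable_aff _
  tab := g12T
  htab := g12_tab
  hexp := aff_exp _ ((g12_tab 11).trans (by decide +kernel))

/-- A block. -/
def b14 : ActBlk (Multiplicative (ZMod 4)) :=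
  cycBlk 4 f4 (by decide +kernel) (by decide +kernel)

/-- A factor. -/
def g13B : ActBlk (Multiplicative (ZMod 4)) := b14

/-- Its solution counts. -/
def g13T : Fin 12 → ℕ := ![1, 2, 1, 16, 2, 7, 16, 14, 7, 28, 14, 28]

theorem g13_tab : ∀ i, powCount (Aff g13B) (dv i) = g13T i := by
  intro i
  rw [powCount_aff]
  simp only [affCount, g13B, ActBlk.cnt_prod]
  revert i
  decide +kernel

/-- The factor as a group with counts. -/
def g13 : CountGroup where
  T := Aff g13B
  solv := by
    haveI : Group.IsSolvable (Multiplicative (ZMod 4)) := Group.isSolvable_of_comm mul_comm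
    exact isSolvable_aff _
  tab := g13T
  htab := g13_tab
  hexp := aff_exp _ ((g13_tab 11).trans (by decide +kernel))

/-- A linear map. -/
def f13 (v : ZMod 3 × ZMod 3) : ZMod 3 × ZMod 3 := (2 * v.1, 2 * v.2)

/-- A block. -/
def b15 : ActBlk (Multiplicative (ZMod 4)) :=
  cycBlk 4 f13 (by decide +kernel) (by decide +kernel)

/-- A factor. -/
def g14B : ActBlk (Multiplicative (ZMod 4)) := (b15).prod b14

/-- Its solution counts. -/
def g14T : Fin 12 → ℕ := ![1, 2, 9, 128, 18, 7, 144, 14, 63, 140, 126, 252]

theorem g14_tab : ∀ i, powCount (Aff g14B) (dv i) = g14T i := by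
  intro i
  rw [powCount_aff]
  simp only [affCount, g14B, ActBlk.cnt_prod]
  revert i
  decide +kernel

/-- The factor as a group with counts. -/
def g14 : CountGroup where
  T := Aff g14B
  solv := by
    haveI : Group.IsSolvable (Multiplicative (ZMod 4)) := Group.isSolvable_of_comm mul_comm
    exact isSolvable_aff _
  tab := g14T
  htab := g14_tab
  hexp := aff_exp _ ((g14_tab 11).trans (by decide +kernel))

/-- A linear map. -/
def f14 (v : ZMod 7 × ZMod 7) : ZMod 7 × ZMod 7 := (v.2, 3 * v.1 + 2 * v.2)

/-- A block. -/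
def b16 : ActBlk (Multiplicative (ZMod 6)) :=
  cycBlk 6 f14 (by decide +kernel) (by decide +kernel)

/-- A factor. -/
def g15B : ActBlk (Multiplicative (ZMod 6)) := b16

/-- Its solution counts. -/
def g15T : Fin 12 → ℕ := ![1, 50, 15, 50, 162, 49, 162, 98, 147, 98, 294, 294]

theorem g15_tab : ∀ i, powCount (Aff g15B) (dv i) = g15T i := by
  intro i
  rw [powCount_aff]
  simp only [affCount, g15B, ActBlk.cnt_prod]
  revert i
  decide +kernel

/-- The factor as a group with counts. -/
def g15 : CountGroup where
  T := Aff g15B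
  solv := by
    haveI : Group.IsSolvable (Multiplicative (ZMod 6)) := Group.isSolvable_of_comm mul_comm
    exact isSolvable_aff _
  tab := g15T
  htab := g15_tab
  hexp := aff_exp _ ((g15_tab 11).trans (by decide +kernel))

/-- A block. -/
def b17 : ActBlk (Multiplicative (ZMod 6)) :=
  cycBlk 6 f9 (by decide +kernel) (by decide +kernel)

/-- A linear map. -/
def f15 (v : ZMod 7 × ZMod 7) : ZMod 7 × ZMod 7 := (6 * v.1, 6 * v.2)

/-- A block. -/
def b18 : ActBlk (Multiplicative (ZMod 6)) :=
  cycBlk 6 f15 (by decide +kernel) (by decide +kernel)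

/-- A factor. -/
def g16B : ActBlk (Multiplicative (ZMod 6)) := (b17).prod b18

/-- Its solution counts. -/
def g16T : Fin 12 → ℕ := ![1, 200, 9, 200, 600, 49, 600, 392, 441, 392, 1176, 1176]

theorem g16_tab : ∀ i, powCount (Aff g16B) (dv i) = g16T i := by
  intro i
  rw [powCount_aff]
  simp only [affCount, g16B, ActBlk.cnt_prod]
  revert i
  decide +kernel

/-- The factor as a group with counts. -/
def g16 : CountGroup where
  T := Aff g16B
  solv := by
    haveI : Group.IsSolvable (Multiplicative (ZMod 6)) := Group.isSolvable_of_comm mul_comm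
    exact isSolvable_aff _
  tab := g16T
  htab := g16_tab
  hexp := aff_exp _ ((g16_tab 11).trans (by decide +kernel))

/-- A linear map. -/
def f16 (v : ZMod 2 × ZMod 2 × ZMod 2 × ZMod 2) : ZMod 2 × ZMod 2 × ZMod 2 × ZMod 2 := (v.2.2.2, v.2.2.1, v.2.1 + v.2.2.2, v.1 + v.2.2.1)

/-- A block. -/
def b19 : ActBlk (Multiplicative (ZMod 6)) :=
  cycBlk 6 f16 (by decide +kernel) (by decide +kernel)

/-- A block. -/
def b20 : ActBlk (Multiplicative (ZMod 6)) :=
  cycBlk 6 f11 (by decide +kernel) (by decide +kernel)

/-- A factor. -/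
def g17B : ActBlk (Multiplicative (ZMod 6)) := (b19).prod b20

/-- Its solution counts. -/
def g17T : Fin 12 → ℕ := ![1, 20, 225, 32, 468, 7, 480, 140, 231, 224, 588, 672]

theorem g17_tab : ∀ i, powCount (Aff g17B) (dv i) = g17T i := by
  intro i
  rw [powCount_aff]
  simp only [affCount, g17B, ActBlk.cnt_prod]
  revert i
  decide +kernel

/-- The factor as a group with counts. -/
def g17 : CountGroup where
  T := Aff g17B
  solv := by
    haveI : Group.IsSolvable (Multiplicative (ZMod 6)) := Group.isSolvable_of_comm mul_comm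
    exact isSolvable_aff _
  tab := g17T
  htab := g17_tab
  hexp := aff_exp _ ((g17_tab 11).trans (by decide +kernel))

/-- A block. -/
def b21 : ActBlk (Multiplicative (ZMod 6)) :=
  cycBlk 6 f4 (by decide +kernel) (by decide +kernel)

/-- A factor. -/
def g18B : ActBlk (Multiplicative (ZMod 6)) := (b19).prod b21

/-- Its solution counts. -/
def g18T : Fin 12 → ℕ := ![1, 44, 33, 128, 300, 7, 384, 140, 231, 224, 588, 672]

theorem g18_tab : ∀ i, powCount (Aff g18B) (dv i) = g18T i := by
  intro i
  rw [powCount_aff]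
  simp only [affCount, g18B, ActBlk.cnt_prod]
  revert i
  decide +kernel

/-- The factor as a group with counts. -/
def g18 : CountGroup where
  T := Aff g18B
  solv := by
    haveI : Group.IsSolvable (Multiplicative (ZMod 6)) := Group.isSolvable_of_comm mul_comm
    exact isSolvable_aff _
  tab := g18T
  htab := g18_tab
  hexp := aff_exp _ ((g18_tab 11).trans (by decide +kernel))

/-- A block. -/
def b22 : ActBlk (Multiplicative (ZMod 6)) :=
  cycBlk 6 f3 (by decide +kernel) (by decide +kernel)

/-- A factor. -/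
def g19B : ActBlk (Multiplicative (ZMod 6)) := (b22).prod b20

/-- Its solution counts. -/
def g19T : Fin 12 → ℕ := ![1, 4, 45, 4, 90, 7, 90, 28, 63, 28, 126, 126]

theorem g19_tab : ∀ i, powCount (Aff g19B) (dv i) = g19T i := by
  intro i
  rw [powCount_aff]
  simp only [affCount, g19B, ActBlk.cnt_prod]
  revert i
  decide +kernel

/-- The factor as a group with counts. -/
def g19 : CountGroup where
  T := Aff g19B
  solv := by
    haveI : Group.IsSolvable (Multiplicative (ZMod 6)) := Group.isSolvable_of_comm mul_comm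
    exact isSolvable_aff _
  tab := g19T
  htab := g19_tab
  hexp := aff_exp _ ((g19_tab 11).trans (by decide +kernel))

/-- A linear map. -/
def f17 (v : ZMod 7) : ZMod 7 := 3 * v

/-- A block. -/
def b23 : ActBlk (Multiplicative (ZMod 12)) :=
  cycBlk 12 f17 (by decide +kernel) (by decide +kernel)

/-- A factor. -/
def g20B : ActBlk (Multiplicative (ZMod 12)) := b23

/-- Its solution counts. -/
def g20T : Fin 12 → ℕ := ![1, 2, 15, 16, 30, 7, 72, 14, 21, 28, 42, 84]

theorem g20_tab : ∀ i, powCount (Aff g20B) (dv i) = g20T i := by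
  intro i
  rw [powCount_aff]
  simp only [affCount, g20B, ActBlk.cnt_prod]
  revert i
  decide +kernel

/-- The factor as a group with counts. -/
def g20 : CountGroup where
  T := Aff g20B
  solv := by
    haveI : Group.IsSolvable (Multiplicative (ZMod 12)) := Group.isSolvable_of_comm mul_comm
    exact isSolvable_aff _
  tab := g20T
  htab := g20_tab
  hexp := aff_exp _ ((g20_tab 11).trans (by decide +kernel))

/-- A block. -/
def b24 : ActBlk (Multiplicative (ZMod 12)) :=
  cycBlk 12 f3 (by decide +kernel) (by decide +kernel)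

/-- A factor. -/
def g21B : ActBlk (Multiplicative (ZMod 12)) := (b24).prod b23

/-- Its solution counts. -/
def g21T : Fin 12 → ℕ := ![1, 2, 45, 44, 90, 7, 216, 14, 63, 56, 126, 252]

theorem g21_tab : ∀ i, powCount (Aff g21B) (dv i) = g21T i := by
  intro i
  rw [powCount_aff]
  simp only [affCount, g21B, ActBlk.cnt_prod]
  revert i
  decide +kernel

/-- The factor as a group with counts. -/
def g21 : CountGroup where
  T := Aff g21B
  solv := by
    haveI : Group.IsSolvable (Multiplicative (ZMod 12)) := Group.isSolvable_of_comm mul_comm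
    exact isSolvable_aff _
  tab := g21T
  htab := g21_tab
  hexp := aff_exp _ ((g21_tab 11).trans (by decide +kernel))

/-- The trivial block. -/
def triv4 : ActBlk (Multiplicative (ZMod 4)) :=
  cycBlk 4 (fun v : ZMod 1 => v) (by decide +kernel) (by decide +kernel)

/-- A factor. -/
def g22B : ActBlk (Multiplicative (ZMod 4)) := triv4

/-- Its solution counts. -/
def g22T : Fin 12 → ℕ := ![1, 2, 1, 4, 2, 1, 4, 2, 1, 4, 2, 4]

theorem g22_tab : ∀ i, powCount (Aff g22B) (dv i) = g22T i := by
  intro i
  rw [powCount_aff]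
  simp only [affCount, g22B, ActBlk.cnt_prod]
  revert i
  decide +kernel

/-- The factor as a group with counts. -/
def g22 : CountGroup where
  T := Aff g22B
  solv := by
    haveI : Group.IsSolvable (Multiplicative (ZMod 4)) := Group.isSolvable_of_comm mul_comm
    exact isSolvable_aff _
  tab := g22T
  htab := g22_tab
  hexp := aff_exp _ ((g22_tab 11).trans (by decide +kernel))

/-- Multiplication by two modulo seven. -/
def agl7 : ActBlk (Multiplicative (ZMod 3)) :=
  cycBlk 3 (fun v : ZMod 7 => 2 * v) (by decide +kernel) (by decide +kernel)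

/-- A Singer cycle of the field with eight elements. -/
def singer (v : ZMod 2 × ZMod 2 × ZMod 2) : ZMod 2 × ZMod 2 × ZMod 2 :=
  (v.2.2, v.1 + v.2.2, v.2.1)

/-- The Frobenius map of the field with eight elements. -/
def frob (v : ZMod 2 × ZMod 2 × ZMod 2) : ZMod 2 × ZMod 2 × ZMod 2 := (v.1, v.2.2, v.2.1 + v.2.2)

/-- The action on the field with eight elements. -/
def aglAct (h : Aff agl7) (v : ZMod 2 × ZMod 2 × ZMod 2) : ZMod 2 × ZMod 2 × ZMod 2 :=
  singer^[ZMod.val (show ZMod 7 from h.v)] (frob^[ZMod.val (show ZMod 3 from h.h.toAdd)] v)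

/-- The semilinear group of the field with eight elements. -/
def agl8 : ActBlk (Aff agl7) where
  V := ZMod 2 × ZMod 2 × ZMod 2
  act := aglAct
  act_add := by decide +kernel
  act_one := by decide +kernel
  act_mul := by decide +kernel

/-- A factor. -/
def g23B : ActBlk (Aff agl7) := agl8

/-- Its solution counts. -/
def g23T : Fin 12 → ℕ := ![1, 8, 57, 8, 120, 49, 120, 56, 105, 56, 168, 168]

theorem g23_tab : ∀ i, powCount (Aff g23B) (dv i) = g23T i := by
  intro i
  rw [powCount_aff]
  simp only [affCount, g23B, ActBlk.cnt_prod]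
  revert i
  decide +kernel

/-- The factor as a group with counts. -/
def g23 : CountGroup where
  T := Aff g23B
  solv := by
    haveI : Group.IsSolvable (Multiplicative (ZMod 3)) := Group.isSolvable_of_comm mul_comm
    haveI := isSolvable_aff agl7
    exact isSolvable_aff _
  tab := g23T
  htab := g23_tab
  hexp := aff_exp _ ((g23_tab 11).trans (by decide +kernel))

/-- Factors. -/
def posG : Fin 12 → CountGroup := ![g0, g2, g5, g6, g7, g9, g11, g13, g16, g17, g20, g23]

/-- Exponents. -/
def posE : Fin 12 → ℕ := ![5, 3, 9, 18, 18, 9, 90, 18, 6, 9, 36, 9]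

/-- The product. -/
abbrev posGroup : Type := (k : Fin 12) → Fin (posE k) → (posG k).T

theorem pos_count (i : Fin 12) :
    powCount posGroup (dv i) = ∏ k, (posG k).tab i ^ posE k := by
  rw [powCount_pi]
  refine Finset.prod_congr rfl fun k _ => ?_
  rw [powCount_pi, Finset.prod_const, Finset.card_univ, Fintype.card_fin, (posG k).htab]

theorem pos_exp (x : posGroup) : x ^ 84 = 1 :=
  funext fun k => funext fun l => (posG k).hexp _

/-- Factors. -/
def negG : Fin 12 → CountGroup := ![g1, g3, g4, g8, g10, g12, g14, g15, g18, g19, g21, g22]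

/-- Exponents. -/
def negE : Fin 12 → ℕ := ![45, 6, 36, 6, 9, 18, 18, 6, 9, 12, 18, 90]

/-- The product. -/
abbrev negGroup : Type := (k : Fin 12) → Fin (negE k) → (negG k).T

theorem neg_count (i : Fin 12) :
    powCount negGroup (dv i) = ∏ k, (negG k).tab i ^ negE k := by
  rw [powCount_pi]
  refine Finset.prod_congr rfl fun k _ => ?_
  rw [powCount_pi, Finset.prod_const, Finset.card_univ, Fintype.card_fin, (negG k).htab]

theorem neg_exp (x : negGroup) : x ^ 84 = 1 :=
  funext fun k => funext fun l => (negG k).hexp _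

theorem posGroup_solvable : Group.IsSolvable posGroup :=
  isSolvable_fin_pi fun k => isSolvable_fin_pi fun _ => (posG k).solv

/-- The non-solvable group. -/
abbrev mixGroup : Type := (Fin 9 → GL32) × negGroup

theorem mixGroup_not_solvable : ¬ Group.IsSolvable mixGroup := by
  intro hs
  haveI := hs
  apply gl32_not_solvable
  exact Group.isSolvable_of_surjective
    (f := (Pi.evalMonoidHom (fun _ : Fin 9 => GL32) 0).comp (MonoidHom.fst _ negGroup))
    fun u => ⟨(fun _ => u, 1), rfl⟩

theorem count_eq : ∀ i : Fin 12,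
    ∏ k, (posG k).tab i ^ posE k = gl32T i ^ 9 * ∏ k, (negG k).tab i ^ negE k := by
  decide +kernel

theorem exists_same_order_type :
    ∃ (G : Type) (_ : Group G) (_ : Finite G) (H : Type) (_ : Group H) (_ : Finite H),
      Group.IsSolvable G ∧ ¬ Group.IsSolvable H ∧ ∀ n : ℕ,
        Nat.card {g : G // orderOf g = n} = Nat.card {h : H // orderOf h = n} := by
  refine ⟨posGroup, inferInstance, inferInstance, mixGroup, inferInstance, inferInstance,
    posGroup_solvable, mixGroup_not_solvable, card_orderOf_eq_of_powCount fun d _ => ?_⟩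
  have hL : ∀ u : Fin 9 → GL32, u ^ 84 = 1 := fun u => funext fun k => gl32_exp _
  rw [powCount_gcd pos_exp, powCount_gcd (G := mixGroup) (fun x => Prod.ext (hL _) (neg_exp _))]
  obtain ⟨i, hi⟩ := exists_dv d
  rw [hi, pos_count, powCount_prod, powCount_pi, Finset.prod_const, Finset.card_univ,
    Fintype.card_fin, gl32_tab, neg_count]
  exact count_eq i

end OrderTypeExample

end H3
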