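import Cfsg.Agent.S0006

/-!
Solvability from hereditary prime-power index subgroups.
-/

set_option autoImplicit false

namespace H3

open Subgroup

universe u

theorem solvable_of_prime_power_index {G : Type u} [Group G] [Finite G]
    (h : ∀ H : Subgroup G, H ≠ ⊥ → ∀ p : ℕ, p.Prime → p ∣ Nat.card H →
      ∃ K : Subgroup H, K ≠ ⊤ ∧ ∃ k : ℕ, K.index = p ^ k) : Group.IsSolvable G := by
  refine Cfsg.Agent.S0006.result fun p hp => ?_
  obtain ⟨H, hH⟩ := (Set.toFinite {H : Subgroup G | ∃ k : ℕ, H.index = p ^ k}).exists_minimal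
    ⟨⊤, 0, by simp⟩
  obtain ⟨k, hk⟩ := hH.1
  refine ⟨H, ?_⟩
  have hnd : ¬ p ∣ Nat.card H := by
    intro hd
    have hne : H ≠ ⊥ := fun hb => by
      rw [hb, Subgroup.card_bot] at hd; exact hp.not_dvd_one hd
    obtain ⟨K, hK, j, hj⟩ := h H hne p hp hd
    have hle : K.map H.subtype ≤ H := Subgroup.map_subtype_le K
    have hidx : (K.map H.subtype).index = p ^ (j + k) := by
      rw [Subgroup.index_map_subtype, hj, hk, ← pow_add]
    refine hK (eq_top_iff.mpr fun x _ => ?_)
    obtain ⟨y, hy, hyx⟩ := hH.2 ⟨_, hidx⟩ hle x.2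
    exact Subtype.ext hyx ▸ hy
  rw [hk]
  congr 1
  have hm := Subgroup.card_mul_index H
  rw [← hm, hk, Nat.factorization_mul Nat.card_pos.ne' (pow_ne_zero _ hp.ne_zero),
    Finsupp.add_apply, Nat.factorization_eq_zero_of_not_dvd hnd, zero_add,
    Nat.Prime.factorization_pow hp, Finsupp.single_eq_same]

end H3
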