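import Cfsg.Agent.H3.AutFixSylow
import Cfsg.Agent.H5.PResidual
import Cfsg.Agent.S3861
import Cfsg.Agent.S3862
import Cfsg.Agent.S3863

/-!
Non-central real classes with the same 2-part and real elements of a Sylow 2-subgroup central in it.
-/

set_option autoImplicit false
set_option linter.style.haveILetI false

namespace H3.RealTwoPart

open Subgroup

variable {G : Type*} [Group G] [Finite G]

/-- The hypothesis on one Sylow 2-subgroup holds for all of them, in element form. -/
theorem commute_of_real_in_sylow (S : Sylow 2 G)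
    (hS : ∀ s : ↥(S : Subgroup G), IsConj s s⁻¹ → s ∈ Subgroup.center ↥(S : Subgroup G))
    (P : Sylow 2 G) {u v : G} (hu : u ∈ (P : Subgroup G)) (hv : v ∈ (P : Subgroup G))
    (hreal : v * u * v⁻¹ = u⁻¹) {w : G} (hw : w ∈ (P : Subgroup G)) : w * u = u * w := by
  haveI : Fact (Nat.Prime 2) := ⟨Nat.prime_two⟩
  obtain ⟨g, rfl⟩ := MulAction.exists_smul_eq G P S
  let e : (P : Subgroup G) ≃* ((g • P : Sylow 2 G) : Subgroup G) :=
    ((P : Subgroup G).equivMapOfInjective (MulAut.conj g).toMonoidHom
      (MulAut.conj g).injective).trans (MulEquiv.subgroupCongr (by rw [Sylow.coe_subgroup_smul]; rfl))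
  have h1 : IsConj (e ⟨u, hu⟩) (e ⟨u, hu⟩)⁻¹ := by
    rw [← map_inv]
    exact e.toMonoidHom.map_isConj (isConj_iff.2 ⟨⟨v, hv⟩, Subtype.ext hreal⟩)
  have h2 := mem_center_iff.1 (hS _ h1) (e ⟨w, hw⟩)
  rw [← map_mul, ← map_mul] at h2
  exact congrArg Subtype.val (e.injective h2)

theorem solvable_and_complement.{u} (hFT : AutFixSylow.OddOrderSolvable.{u}) {G : Type u}
    [Group G] [Finite G] (a : ℕ)
    (h : ∀ x : G, IsConj x x⁻¹ → x ∉ Subgroup.center G →
      ((Subgroup.centralizer ({x} : Set G)).index).factorization 2 = a) (S : Sylow 2 G)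
    (hS : ∀ s : ↥(S : Subgroup G), IsConj s s⁻¹ → s ∈ Subgroup.center ↥(S : Subgroup G)) :
    Group.IsSolvable G ∧ Cfsg.HasNormalPComplement 2
      ↥(Subgroup.closure {g : G | ∃ k : ℕ, orderOf g = 2 ^ k}) := by
  haveI : Fact (Nat.Prime 2) := ⟨Nat.prime_two⟩
  by_cases hinv : ∀ t : G, orderOf t = 2 → t ∈ center G
  · -- all involutions are central: normal 2-complement
    have hN : Cfsg.HasNormalPComplement 2 G := by
      refine Cfsg.Agent.S3862.result fun x hx hreal => ?_
      obtain ⟨t, ⟨i, ht⟩, htx⟩ := (Cfsg.Agent.S3863.result x hreal).1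
      obtain ⟨j, hj⟩ := hx
      have hxN : t ∈ normalizer ((zpowers x : Subgroup G) : Set G) := by
        refine mem_normalizer_iff.2 fun y => ⟨?_, ?_⟩
        · rintro ⟨k, rfl⟩
          exact ⟨-k, by simp only; rw [← conj_zpow, htx, inv_zpow, zpow_neg]⟩
        · rintro ⟨k, hk⟩
          refine ⟨-k, ?_⟩
          have hk' : x ^ k = t * y * t⁻¹ := hk
          have h3 : t * x ^ (-k) * t⁻¹ = t * y * t⁻¹ := by
            rw [← conj_zpow, htx, inv_zpow, zpow_neg, inv_inv]; exact hk'
          exact mul_left_cancel (mul_right_cancel h3)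
      have hp : IsPGroup 2 ↥(zpowers x ⊔ zpowers t) :=
        IsPGroup.to_sup_of_normal_left' (IsPGroup.of_card (n := j) (by rw [Nat.card_zpowers, hj]))
          (IsPGroup.of_card (n := i) (by rw [Nat.card_zpowers, ht])) (zpowers_le.2 hxN)
      obtain ⟨P, hP⟩ := hp.exists_le_sylow
      have hxP : x ∈ (P : Subgroup G) := hP (mem_sup_left (mem_zpowers x))
      have htP : t ∈ (P : Subgroup G) := hP (mem_sup_right (mem_zpowers t))
      have hc := commute_of_real_in_sylow S hS P hxP htP htx htP
      have hx2 : x ^ 2 = 1 := by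
        have h3 : x = x⁻¹ := by
          calc x = t * x * t⁻¹ := by rw [hc, mul_inv_cancel_right]
            _ = x⁻¹ := htx
        rw [pow_two]
        calc x * x = x * x⁻¹ := by rw [← h3]
          _ = 1 := mul_inv_cancel x
      by_cases hx1 : x = 1
      · rw [hx1]; exact one_mem _
      · exact hinv x (orderOf_eq_prime hx2 hx1)
    refine ⟨?_, H5.hasNormalPComplement_subgroup _ hN⟩
    obtain ⟨P, N, hNn, hc⟩ := hN
    have hA : Group.IsSolvable N := hFT N (Nat.not_even_iff_odd.1 fun he =>
      H5.not_dvd_card_of_isComplement' hc he.two_dvd)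
    haveI := hA
    haveI : Group.IsSolvable (G ⧸ N) := by
      obtain ⟨k, hk⟩ := IsPGroup.iff_card.mp P.2
      haveI : Group.IsNilpotent (G ⧸ N) := (IsPGroup.of_card (n := k)
        (by rw [← Subgroup.index_eq_card, hc.symm.index_eq_card, hk]) : IsPGroup 2 (G ⧸ N)).isNilpotent
      infer_instance
    exact Group.isSolvable_of_ker_le_range N.subtype (QuotientGroup.mk' N)
      (by rw [QuotientGroup.ker_mk', range_subtype])
  · -- a non-central involution: normal Sylow 2-subgroup
    push Not at hinv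
    obtain ⟨t, ht, htc⟩ := hinv
    have ht2 : t⁻¹ = t := inv_eq_of_mul_eq_one_right (by rw [← pow_two, ← ht, pow_orderOf_eq_one])
    obtain ⟨P, hP⟩ := (IsPGroup.of_card (n := 1) (by rw [Nat.card_zpowers, ht, pow_one]) :
      IsPGroup 2 (zpowers t)).exists_le_sylow
    have htP : t ∈ (P : Subgroup G) := hP (mem_zpowers t)
    have hPt : (P : Subgroup G) ≤ centralizer ({t} : Set G) := fun w hw => by
      rw [mem_centralizer_singleton_iff]
      exact commute_of_real_in_sylow S hS P htP (one_mem _) (by rw [one_mul, inv_one, mul_one, ht2]) hw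
    have ha : a = 0 := by
      rw [← h t (isConj_iff.2 ⟨1, by rw [one_mul, inv_one, mul_one, ht2]⟩) htc]
      exact Nat.factorization_eq_zero_of_not_dvd fun hd =>
        P.not_dvd_index (hd.trans (index_dvd_of_le hPt))
    have hno : ∀ x : G, x ≠ 1 → Odd (orderOf x) → ¬ IsConj x x⁻¹ := by
      intro x hx1 hodd hreal
      have hx2 : x ^ 2 ≠ 1 := fun h2 => hx1 (by
        have := pow_gcd_eq_one.mpr ⟨pow_orderOf_eq_one x, h2⟩
        rwa [Nat.Coprime.gcd_eq_one (Nat.coprime_two_right.mpr hodd), pow_one] at this)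
      apply hx2
      by_cases hxc : x ∈ center G
      · obtain ⟨g, hg⟩ := isConj_iff.1 hreal
        rw [mem_center_iff.1 hxc g, mul_inv_cancel_right] at hg
        rw [pow_two]
        nth_rewrite 2 [hg]
        rw [mul_inv_cancel]
      · refine (Cfsg.Agent.S3863.result x hreal).2.1 ?_
        rw [← Nat.not_even_iff_odd, even_iff_two_dvd]
        intro hd
        have := Nat.Prime.factorization_pos_of_dvd Nat.prime_two index_ne_zero_of_finite hd
        rw [h x hreal hxc, ha] at this
        exact absurd this (lt_irrefl 0)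
    haveI hSn : (S : Subgroup G).Normal := (Cfsg.Agent.S3861.result S).1 hno
    haveI : Group.IsNilpotent (S : Subgroup G) := S.isPGroup'.isNilpotent
    have hB : Group.IsSolvable (G ⧸ (S : Subgroup G)) := by
      refine hFT _ (Nat.not_even_iff_odd.1 fun he => S.not_dvd_index ?_)
      exact he.two_dvd
    haveI := hB
    refine ⟨Group.isSolvable_of_ker_le_range (S : Subgroup G).subtype
      (QuotientGroup.mk' (S : Subgroup G)) (by rw [QuotientGroup.ker_mk', range_subtype]), ?_⟩
    refine H5.hasNormalPComplement_of_isPGroup (S.isPGroup'.to_le ?_)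
    rw [closure_le]
    rintro g ⟨k, hk⟩
    obtain ⟨Q, hQ⟩ := (IsPGroup.of_card (n := k) (by rw [Nat.card_zpowers, hk]) :
      IsPGroup 2 (zpowers g)).exists_le_sylow
    haveI := Sylow.unique_of_normal S hSn
    rw [Subsingleton.elim Q S] at hQ
    exact hQ (mem_zpowers g)

end H3.RealTwoPart
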