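import Cfsg.Agent.H1.SchurZassenhausConj
import Cfsg.Agent.H33.Basic
import Cfsg.Prelude.Def_SolvableStructure
import Mathlib.GroupTheory.Nilpotent
import Mathlib.GroupTheory.Solvable

/-!
Schmidt's theorem on groups all of whose proper subgroups are nilpotent.
-/

set_option autoImplicit false

namespace H3

open Subgroup
open scoped Pointwise

universe u

variable {G : Type u} [Group G]

theorem simple_coatom_inf_eq_bot [Finite G] [IsSimpleGroup G]
    (hnil : ∀ M : Subgroup G, IsCoatom M → Group.IsNilpotent M) {M₁ M₂ : Subgroup G}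
    (h1 : IsCoatom M₁) (h2 : IsCoatom M₂) (hne : M₁ ≠ M₂) : M₁ ⊓ M₂ = ⊥ := by
  by_contra hbot
  obtain ⟨⟨A, B⟩, ⟨hA, hB, hAB, hD⟩, hbig⟩ := (Set.toFinite {P : Subgroup G × Subgroup G |
      IsCoatom P.1 ∧ IsCoatom P.2 ∧ P.1 ≠ P.2 ∧ P.1 ⊓ P.2 ≠ ⊥}).exists_maximalFor
    (fun P : Subgroup G × Subgroup G => Nat.card ↥(P.1 ⊓ P.2)) _ ⟨(M₁, M₂), h1, h2, hne, hbot⟩
  set D := A ⊓ B with hDdef
  set N := normalizer (D : Set G)
  have hNtop : N ≠ ⊤ := by
    intro h
    haveI := normalizer_eq_top_iff.mp h
    rcases (inferInstance : D.Normal).eq_bot_or_eq_top with h' | h'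
    · exact hD h'
    · exact hA.1 (top_le_iff.mp (h'.ge.trans inf_le_left))
  obtain ⟨M, hM, hNM⟩ := (eq_top_or_exists_le_coatom N).resolve_left hNtop
  have key : ∀ X : Subgroup G, IsCoatom X → D < X → X = M := by
    intro X hX hDX
    by_contra hXM
    haveI := hnil X hX
    have hlt' : D.subgroupOf X < ⊤ := by
      rw [lt_top_iff_ne_top, Ne, Subgroup.subgroupOf_eq_top]
      exact not_le_of_gt hDX
    obtain ⟨x, hxn, hxD⟩ := SetLike.exists_of_lt
      (Group.normalizerCondition_of_isNilpotent (G := X) (D.subgroupOf X) hlt')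
    have hxN : (x : G) ∈ N := by
      rw [Subgroup.mem_normalizer_iff]
      intro y
      by_cases hy : y ∈ X
      · exact Subgroup.mem_normalizer_iff.mp hxn ⟨y, hy⟩
      · refine ⟨fun h => absurd (hDX.le h) hy, fun h => absurd ?_ hy⟩
        have h' := X.mul_mem (X.mul_mem (X.inv_mem x.2) (hDX.le h)) x.2
        simpa [mul_assoc] using h'
    have hlt : D < X ⊓ M := by
      refine lt_of_le_of_ne (le_inf hDX.le (le_normalizer.trans hNM)) fun h => hxD ?_
      show (x : G) ∈ D
      rw [h]
      exact ⟨x.2, hNM hxN⟩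
    have hcard : Nat.card D < Nat.card ↥(X ⊓ M) := by
      by_contra hle
      exact hlt.ne (Subgroup.eq_of_le_of_card_ge hlt.le (not_lt.mp hle))
    have := hbig (j := (X, M)) ⟨hX, hM, hXM, fun h => hD (eq_bot_iff.mpr (h ▸ hlt.le))⟩ hcard.le
    exact absurd this (not_le.mpr hcard)
  refine hAB ((key A hA (lt_of_le_of_ne inf_le_left fun h => hAB ?_)).trans
    (key B hB (lt_of_le_of_ne inf_le_right fun h => hAB ?_)).symm)
  · have hle : A ≤ B := h ▸ inf_le_right
    by_contra hne'
    exact hB.1 (hA.2 _ (lt_of_le_of_ne hle hne'))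
  · have hle : B ≤ A := h ▸ inf_le_left
    by_contra hne'
    exact hA.1 (hB.2 _ (lt_of_le_of_ne hle (Ne.symm hne')))

/-- A simple group with all maximal subgroups nilpotent is abelian. -/
theorem simple_comm_of_coatom_nilpotent [Finite G] [IsSimpleGroup G]
    (hnil : ∀ M : Subgroup G, IsCoatom M → Group.IsNilpotent M) : ∀ a b : G, a * b = b * a := by
  by_contra hc
  have hnc : ¬ IsCyclic G := fun h => hc (by
    letI := IsCyclic.commGroup (α := G)
    exact mul_comm)
  have hcover : ∀ x : G, ∃ M : Subgroup G, IsCoatom M ∧ x ∈ M := by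
    intro x
    obtain ⟨M, hM, hle⟩ := (eq_top_or_exists_le_coatom (zpowers x)).resolve_left fun h =>
      hnc ⟨⟨x, fun y => by
        have hy : y ∈ zpowers x := h.symm ▸ mem_top y
        exact hy⟩⟩
    exact ⟨M, hM, hle (mem_zpowers x)⟩
  have hMne : ∀ M : Subgroup G, IsCoatom M → M ≠ ⊥ := by
    intro M hM hbot
    obtain ⟨x, hx⟩ := exists_ne (1 : G)
    obtain ⟨M', hM', hxM'⟩ := hcover x
    rcases eq_or_lt_of_le (bot_le : ⊥ ≤ M') with h | h
    · rw [← h] at hxM'
      exact hx (Subgroup.mem_bot.mp hxM')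
    · exact hM'.1 (hM.2 M' (hbot ▸ h))
  have hself : ∀ M : Subgroup G, IsCoatom M → normalizer (M : Set G) = M := by
    intro M hM
    rcases lt_or_eq_of_le (le_normalizer : M ≤ normalizer (M : Set G)) with h | h
    · exfalso
      haveI := normalizer_eq_top_iff.mp (hM.2 _ h)
      rcases (inferInstance : M.Normal).eq_bot_or_eq_top with h' | h'
      · exact hMne M hM h'
      · exact hM.1 h'
    · exact h.symm
  let U : Subgroup G → Set G := fun M => {x | x ≠ 1 ∧ ∃ g : G, g⁻¹ * x * g ∈ M}
  have hconj : ∀ (M : Subgroup G), IsCoatom M → ∀ g : G, IsCoatom (MulAut.conj g • M) := by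
    intro M hM g
    refine ⟨fun h => hM.1 ?_, fun X hX => ?_⟩
    · rw [Subgroup.eq_top_iff']
      intro x
      have := h.symm ▸ mem_top (MulAut.conj g x)
      rwa [Subgroup.mem_pointwise_smul_iff_inv_smul_mem, MulAut.smul_def, MulAut.inv_apply_self] at this
    · have h1 : M < (MulAut.conj g)⁻¹ • X := by
        refine lt_of_le_of_ne (Subgroup.pointwise_smul_subset_iff.mp hX.le) fun h => hX.ne ?_
        rw [h, smul_inv_smul]
      have h2 := hM.2 _ h1
      rw [Subgroup.eq_top_iff']
      intro x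
      have := h2.symm ▸ mem_top ((MulAut.conj g)⁻¹ x)
      rwa [Subgroup.mem_pointwise_smul_iff_inv_smul_mem, inv_inv, MulAut.smul_def,
        MulAut.apply_inv_self] at this
  have hcount : ∀ M : Subgroup G, IsCoatom M →
      (U M).ncard + M.index = Nat.card G := by
    intro M hM
    let f : (G ⧸ M) × {m : M // m ≠ 1} → U M := fun z =>
      ⟨z.1.out * (z.2.1 : G) * z.1.out⁻¹, by
        refine ⟨fun h => z.2.2 (Subtype.ext ?_), z.1.out, ?_⟩
        · rw [mul_inv_eq_one] at h
          exact mul_eq_left.mp h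
        · simp [mul_assoc]⟩
    have hf : Function.Bijective f := by
      constructor
      · rintro ⟨q, m, hm⟩ ⟨q', m', hm'⟩ h
        have h0 : q.out * (m : G) * q.out⁻¹ = q'.out * (m' : G) * q'.out⁻¹ := congrArg Subtype.val h
        have hq : q = q' := by
          set g := q.out⁻¹ * q'.out
          have hg : MulAut.conj g • M = M := by
            by_contra hne
            have hbot := simple_coatom_inf_eq_bot hnil (hconj M hM g) hM hne
            have hmem : (m : G) ∈ (MulAut.conj g • M) ⊓ M := by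
              refine Subgroup.mem_inf.mpr ⟨?_, m.2⟩
              rw [Subgroup.mem_pointwise_smul_iff_inv_smul_mem, ← map_inv, MulAut.smul_def,
                MulAut.conj_apply]
              have : g⁻¹ * (m : G) * g⁻¹⁻¹ = (m' : G) := by
                calc g⁻¹ * (m : G) * g⁻¹⁻¹ = q'.out⁻¹ * (q.out * (m : G) * q.out⁻¹) * q'.out := by
                      simp only [g]; group
                  _ = (m' : G) := by rw [h0]; group
              rw [this]; exact m'.2
            rw [hbot, Subgroup.mem_bot] at hmem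
            exact hm (Subtype.ext hmem)
          have hgM : g ∈ normalizer (M : Set G) := by
            rw [Subgroup.mem_normalizer_iff]
            intro x
            conv_rhs => rw [← hg]
            rw [Subgroup.mem_pointwise_smul_iff_inv_smul_mem, ← map_inv, MulAut.smul_def,
              MulAut.conj_apply]
            simp [mul_assoc]
          rw [hself M hM] at hgM
          have h3 := QuotientGroup.eq.mpr hgM
          rwa [QuotientGroup.out_eq', QuotientGroup.out_eq'] at h3
        subst hq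
        have : (m : G) = m' := by simpa using h0
        obtain rfl : m = m' := Subtype.ext this
        rfl
      · rintro ⟨x, hx1, g, hg⟩
        obtain ⟨k, hk⟩ : ∃ k : M, (g : G ⧸ M).out = g * k := QuotientGroup.mk_out_eq_mul M g
        refine ⟨⟨(g : G ⧸ M), ⟨⟨(k : G)⁻¹ * (g⁻¹ * x * g) * k,
          M.mul_mem (M.mul_mem (M.inv_mem k.2) hg) k.2⟩, fun h => hx1 ?_⟩⟩, Subtype.ext ?_⟩
        · have h' : (k : G)⁻¹ * (g⁻¹ * x * g) * k = 1 := congrArg Subtype.val h
          calc x = g * ((k : G) * ((k : G)⁻¹ * (g⁻¹ * x * g) * k) * (k : G)⁻¹) * g⁻¹ := by group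
            _ = 1 := by rw [h']; group
        · show (g : G ⧸ M).out * ((k : G)⁻¹ * (g⁻¹ * x * g) * k) * (g : G ⧸ M).out⁻¹ = x
          rw [hk]; group
    have hc1 : Nat.card {m : M // m ≠ 1} + 1 = Nat.card M := by
      have h := Set.ncard_add_ncard_compl ({1} : Set M)
      rw [Set.ncard_singleton, ← Nat.card_coe_set_eq] at h
      rw [add_comm]
      exact h
    rw [← Nat.card_coe_set_eq, ← Nat.card_congr (Equiv.ofBijective f hf), Nat.card_prod,
      ← Subgroup.index_eq_card, ← Subgroup.card_mul_index M, ← hc1]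
    ring
  have hsmall : ∀ M : Subgroup G, IsCoatom M → 2 * M.index ≤ Nat.card G ∧ 2 ≤ M.index := by
    intro M hM
    have h1 := Subgroup.card_mul_index M
    have h2 : 2 ≤ Nat.card M := (Subgroup.one_lt_card_iff_ne_bot M).mpr (hMne M hM)
    have h3 : 2 ≤ M.index := Subgroup.one_lt_index_of_ne_top hM.1
    exact ⟨by nlinarith, h3⟩
  have hX : ({1}ᶜ : Set G).ncard + 1 = Nat.card G := by
    have h := Set.ncard_add_ncard_compl ({1} : Set G)
    rwa [Set.ncard_singleton, add_comm] at h
  obtain ⟨x₀, hx₀⟩ := exists_ne (1 : G)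
  obtain ⟨M, hM, -⟩ := hcover x₀
  obtain ⟨x, hx1, hxU⟩ : ∃ x : G, x ≠ 1 ∧ x ∉ U M := by
    by_contra! hall
    have hle : ({1}ᶜ : Set G).ncard ≤ (U M).ncard :=
      Set.ncard_le_ncard (fun y hy => hall y hy) (Set.toFinite _)
    have := hcount M hM
    have := (hsmall M hM).2
    omega
  obtain ⟨M', hM', hxM'⟩ := hcover x
  have hdisj : Disjoint (U M) (U M') := by
    rw [Set.disjoint_left]
    rintro y ⟨hy1, g, hg⟩ ⟨-, g', hg'⟩
    by_cases he : MulAut.conj g • M = MulAut.conj g' • M'
    · refine hxU ⟨hx1, g'⁻¹ * g, ?_⟩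
      have hmem : g' * x * g'⁻¹ ∈ MulAut.conj g • M := by
        rw [he, Subgroup.mem_pointwise_smul_iff_inv_smul_mem, ← map_inv, MulAut.smul_def,
          MulAut.conj_apply]
        simpa [mul_assoc] using hxM'
      rw [Subgroup.mem_pointwise_smul_iff_inv_smul_mem, ← map_inv, MulAut.smul_def,
        MulAut.conj_apply] at hmem
      simpa [mul_assoc] using hmem
    · refine hy1 (Subgroup.mem_bot.mp ?_)
      rw [← simple_coatom_inf_eq_bot hnil (hconj M hM g) (hconj M' hM' g') he]
      rw [Subgroup.mem_inf]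
      constructor <;>
      · rw [Subgroup.mem_pointwise_smul_iff_inv_smul_mem, ← map_inv, MulAut.smul_def,
          MulAut.conj_apply, inv_inv]
        assumption
  have hsub : U M ∪ U M' ⊆ ({1}ᶜ : Set G) := by
    rintro y (⟨hy, -⟩ | ⟨hy, -⟩) <;> exact hy
  have hle := Set.ncard_le_ncard hsub (Set.toFinite _)
  rw [Set.ncard_union_eq hdisj (Set.toFinite _) (Set.toFinite _)] at hle
  have := hcount M hM
  have := hcount M' hM'
  have := (hsmall M hM).1
  have := (hsmall M' hM').1
  omega

/-- Schmidt: all maximal subgroups nilpotent implies solvable. -/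
theorem solvable_of_coatom_nilpotent [Finite G]
    (hnil : ∀ M : Subgroup G, IsCoatom M → Group.IsNilpotent M) : Group.IsSolvable G := by
  induction hn : Nat.card G using Nat.strong_induction_on generalizing G with
  | _ n ih =>
    rcases subsingleton_or_nontrivial G with hs | hnt
    · exact Group.isSolvable_of_comm fun a b => Subsingleton.elim _ _
    by_cases hsimple : IsSimpleGroup G
    · exact Group.isSolvable_of_comm (simple_comm_of_coatom_nilpotent hnil)
    obtain ⟨N, hN, hNb, hNt⟩ : ∃ N : Subgroup G, N.Normal ∧ N ≠ ⊥ ∧ N ≠ ⊤ := by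
      by_contra hcon
      refine hsimple ⟨fun N hN => ?_⟩
      by_contra h'
      push Not at h'
      exact hcon ⟨N, hN, h'.1, h'.2⟩
    haveI := hN
    obtain ⟨M, hM, hNM⟩ := (eq_top_or_exists_le_coatom N).resolve_left hNt
    haveI := hnil M hM
    haveI : Group.IsNilpotent N :=
      (Group.isNilpotent_congr (Subgroup.subgroupOfEquivOfLe hNM)).mp inferInstance
    have hlt : Nat.card (G ⧸ N) < n := by
      rw [← hn, Subgroup.card_eq_card_quotient_mul_card_subgroup N]
      exact lt_mul_of_one_lt_right Nat.card_pos ((Subgroup.one_lt_card_iff_ne_bot N).mpr hNb)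
    have hq : Group.IsSolvable (G ⧸ N) := by
      refine ih _ hlt (G := G ⧸ N) (fun Q hQ => ?_) rfl
      have hsurj := QuotientGroup.mk'_surjective N
      have hne : Q.comap (QuotientGroup.mk' N) ≠ ⊤ := fun h => hQ.1 (by
        rw [← Subgroup.map_comap_eq_self_of_surjective hsurj Q, h,
          Subgroup.map_top_of_surjective _ hsurj])
      obtain ⟨M', hM', hle⟩ := (eq_top_or_exists_le_coatom _).resolve_left hne
      haveI := hnil M' hM'
      haveI : Group.IsNilpotent ↥(Q.comap (QuotientGroup.mk' N)) :=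
        (Group.isNilpotent_congr (Subgroup.subgroupOfEquivOfLe hle)).mp inferInstance
      exact Group.nilpotent_of_surjective _ ((QuotientGroup.mk' N).subgroupComap_surjective_of_surjective Q hsurj)
    exact (Group.isSolvable_iff_subgroup_quotient N).mpr ⟨inferInstance, hq⟩

theorem commute_of_nilpotent_sup [Finite G] {p q : ℕ} [Fact p.Prime] [Fact q.Prime] (hpq : p ≠ q)
    {A B : Subgroup G} (hA : IsPGroup p A) (hB : IsPGroup q B)
    (h : Group.IsNilpotent ↥(A ⊔ B)) : A ≤ centralizer (B : Set G) := by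
  intro a ha
  rw [Subgroup.mem_centralizer_iff]
  intro b hb
  haveI := h
  obtain ⟨i, hi⟩ := IsPGroup.iff_orderOf.mp hA ⟨a, ha⟩
  obtain ⟨j, hj⟩ := IsPGroup.iff_orderOf.mp hB ⟨b, hb⟩
  rw [← orderOf_coe] at hi hj
  have hc := H33.commute_of_nilpotent (G := ↥(A ⊔ B)) (p := p)
    (y := ⟨a, Subgroup.mem_sup_left ha⟩) (z := ⟨b, Subgroup.mem_sup_right hb⟩)
    ⟨i, by rw [← orderOf_coe]; exact hi⟩ (by
      rw [← orderOf_coe]
      show ¬ p ∣ orderOf b
      rw [show orderOf b = q ^ j from hj]
      exact fun hd => hpq ((Nat.prime_dvd_prime_iff_eq Fact.out Fact.out).mp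
        ((Fact.out : p.Prime).dvd_of_dvd_pow hd)))
  exact (congrArg Subtype.val hc.eq).symm

theorem minimal_non_nilpotent [Finite G] (hG : Cfsg.IsMinimalNonNilpotent G) :
    ∃ p q : ℕ, p.Prime ∧ q.Prime ∧ p ≠ q ∧ ∃ (P : Sylow p G) (Q : Sylow q G),
      IsCyclic P ∧ (Q : Subgroup G).Normal ∧ (P : Subgroup G) ⊔ Q = ⊤ := by
  obtain ⟨hnn, hmax⟩ := hG
  haveI : Nontrivial G := by
    by_contra h
    rw [not_nontrivial_iff_subsingleton] at h
    exact hnn inferInstance
  haveI : Group.IsSolvable G := solvable_of_coatom_nilpotent fun M hM => hmax M hM.1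
  obtain ⟨M, p, hp, hMn, hMp⟩ := H1.exists_normal_index_prime G
  haveI := Fact.mk hp
  have hMtop : M ≠ ⊤ := fun h => hp.ne_one (by rw [← hMp, h, Subgroup.index_top])
  haveI := hmax M hMtop
  have hnorm : ∀ (r : ℕ) [Fact r.Prime], r ≠ p → ∀ R : Sylow r G, (R : Subgroup G).Normal := by
    intro r _ hrp R
    have hle : (R : Subgroup G) ≤ M := by
      intro x hx
      rw [← QuotientGroup.eq_one_iff (N := M), ← orderOf_eq_one_iff]
      obtain ⟨i, hi⟩ := IsPGroup.iff_orderOf.mp R.isPGroup' ⟨x, hx⟩
      rw [← orderOf_coe] at hi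
      refine Nat.eq_one_of_dvd_coprimes (a := r ^ i) (b := p) ?_ ?_ ?_
      · exact (((Fact.out : r.Prime).coprime_iff_not_dvd).mpr
          fun h => hrp ((Nat.prime_dvd_prime_iff_eq Fact.out hp).mp h)).pow_left i
      · rw [← show orderOf x = r ^ i from hi]
        exact orderOf_map_dvd (QuotientGroup.mk' M) x
      · rw [← hMp, Subgroup.index_eq_card]
        exact orderOf_dvd_natCard _
    have hR' : ((R.subtype hle : Sylow r M) : Subgroup M).Normal :=
      Sylow.normal_of_normalizerCondition Group.normalizerCondition_of_isNilpotent _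
    haveI := (R.subtype hle).characteristic_of_normal hR'
    haveI := hMn
    have h : (((R.subtype hle : Sylow r M) : Subgroup M).map M.subtype).Normal := inferInstance
    rwa [show ((R.subtype hle : Sylow r M) : Subgroup M).map M.subtype = (R : Subgroup G) from
      Subgroup.map_subgroupOf_eq_of_le hle] at h
  obtain ⟨P⟩ : Nonempty (Sylow p G) := inferInstance
  have hPn : ¬ (P : Subgroup G).Normal := by
    intro hP
    refine hnn ((Group.isNilpotent_of_finite_tfae.out 0 3 rfl rfl).mpr fun r hr R => ?_)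
    by_cases hrp : r = p
    · subst hrp
      haveI := Sylow.unique_of_normal P hP
      rw [Subsingleton.elim R P]
      exact hP
    · exact hnorm r hrp R
  obtain ⟨q, hq, hqp, Q, hQ⟩ : ∃ q : ℕ, q.Prime ∧ q ≠ p ∧ ∃ Q : Sylow q G,
      ¬ (P : Subgroup G) ≤ centralizer ((Q : Subgroup G) : Set G) := by
    by_contra hall
    push Not at hall
    refine hPn (normalizer_eq_top_iff.mp ?_)
    refine Subgroup.eq_top_of_card_eq _ (Nat.dvd_antisymm (Subgroup.card_subgroup_dvd_card _) ?_)
    rw [← Nat.factorization_le_iff_dvd Nat.card_pos.ne' Nat.card_pos.ne']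
    intro r
    by_cases hr : r.Prime
    swap
    · rw [Nat.factorization_eq_zero_of_not_prime _ hr]; exact Nat.zero_le _
    haveI := Fact.mk hr
    have key : ∀ R : Sylow r G, (R : Subgroup G) ≤ normalizer ((P : Subgroup G) : Set G) →
        (Nat.card G).factorization r ≤
          (Nat.card (normalizer ((P : Subgroup G) : Set G))).factorization r := by
      intro R hR
      rw [← hr.pow_dvd_iff_le_factorization Nat.card_pos.ne', ← R.card_eq_multiplicity]
      exact Subgroup.card_dvd_of_le hR
    by_cases hrp : r = p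
    · subst hrp
      exact key P le_normalizer
    · obtain ⟨R⟩ : Nonempty (Sylow r G) := inferInstance
      refine key R (le_trans ?_ (Subgroup.centralizer_le_normalizer _))
      exact Subgroup.le_centralizer_iff.mp (hall r hr hrp R)
  haveI := Fact.mk hq
  haveI := hnorm q hqp Q
  have htop : (P : Subgroup G) ⊔ Q = ⊤ := by
    by_contra h
    exact hQ (commute_of_nilpotent_sup (Ne.symm hqp) P.isPGroup' Q.isPGroup' (hmax _ h))
  refine ⟨p, q, hp, hq, Ne.symm hqp, P, Q, ?_, inferInstance, htop⟩
  by_contra hnc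
  refine hQ fun x hx => ?_
  have hsup : zpowers x ⊔ (Q : Subgroup G) ≠ ⊤ := by
    intro h
    apply hnc
    have hcop : (Nat.card (P : Subgroup G)).Coprime (Nat.card (Q : Subgroup G)) := by
      rw [P.card_eq_multiplicity, Q.card_eq_multiplicity]
      exact Nat.Coprime.pow _ _ ((Nat.coprime_primes hp hq).mpr (Ne.symm hqp))
    have hN : ∀ X : Subgroup G, X ≤ normalizer ((Q : Subgroup G) : Set G) := fun X => by
      rw [normalizer_eq_top]; exact le_top
    have e1 := H1.card_sup_of_coprime (hN (P : Subgroup G)) hcop.symm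
    have e2 := H1.card_sup_of_coprime (hN (zpowers x))
      (hcop.coprime_dvd_left (Subgroup.card_dvd_of_le (zpowers_le.mpr hx))).symm
    rw [sup_comm, htop, Subgroup.card_top] at e1
    rw [sup_comm, h, Subgroup.card_top, e1, Nat.mul_left_cancel_iff Nat.card_pos,
      Nat.card_zpowers] at e2
    exact isCyclic_of_orderOf_eq_card (⟨x, hx⟩ : (P : Subgroup G))
      ((orderOf_coe _).symm.trans e2.symm)
  exact commute_of_nilpotent_sup (Ne.symm hqp) (P.isPGroup'.to_le (zpowers_le.mpr hx)) Q.isPGroup'
    (hmax _ hsup) (mem_zpowers x)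

end H3
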