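import Mathlib.GroupTheory.Sylow
import Mathlib.GroupTheory.Transfer
import Mathlib.GroupTheory.IndexNormal
import Mathlib.GroupTheory.Perm.Cycle.Type
import Mathlib.GroupTheory.SpecificGroups.Cyclic
import Mathlib.Data.Nat.Totient
import Mathlib.Tactic.IntervalCases
import Mathlib.Tactic.NormNum.Prime
import Mathlib.NumberTheory.Padics.PadicVal.Basic

/-!
No finite group has exactly fifteen Sylow `7`-subgroups.
-/

set_option autoImplicit false

namespace H3

open Subgroup

universe u

variable {G : Type u} [Group G] [Finite G]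

local instance sevenPrimeFact : Fact (Nat.Prime 7) := ⟨by norm_num⟩

theorem sylow_smul_eq_iff_mem {p : ℕ} [Fact p.Prime] {z : G} (hz : ∃ k, orderOf z = p ^ k)
    (R : Sylow p G) : z • R = R ↔ z ∈ (R : Subgroup G) := by
  rw [Sylow.smul_eq_iff_mem_normalizer]
  refine ⟨fun h => ?_, fun h => le_normalizer h⟩
  obtain ⟨k, hk⟩ := hz
  have hp : IsPGroup p (zpowers z) := IsPGroup.of_card (n := k) (by rw [Nat.card_zpowers, hk])
  have h1 : z ∈ zpowers z ⊓ normalizer (R : Set G) := ⟨mem_zpowers z, h⟩
  rw [hp.inf_normalizer_sylow R] at h1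
  exact h1.2

theorem orderOf_sylow_mem {p : ℕ} [Fact p.Prime] {P : Sylow p G} {z : G} (hz : z ∈ (P : Subgroup G)) :
    ∃ k, orderOf z = p ^ k := by
  obtain ⟨k, hk⟩ := IsPGroup.iff_orderOf.mp P.isPGroup' ⟨z, hz⟩
  exact ⟨k, (orderOf_coe (⟨z, hz⟩ : (P : Subgroup G))).trans hk⟩

/-- A fixed-point-free involution moving twice an odd number of points is odd. -/
theorem sign_involution {α : Type*} [Fintype α] [DecidableEq α] {σ : Equiv.Perm α}
    (h2 : σ ^ 2 = 1) (h1 : σ ≠ 1) {m : ℕ} (hm : σ.support.card = 2 * m) :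
    Equiv.Perm.sign σ = (-1) ^ m := by
  haveI := Fact.mk Nat.prime_two
  have ho : orderOf σ = 2 := orderOf_eq_prime h2 h1
  obtain ⟨n, hn⟩ := Equiv.Perm.cycleType_prime_order (σ := σ) (ho ▸ Nat.prime_two)
  have hs := σ.sum_cycleType
  rw [hn, Multiset.sum_replicate, ho, hm, smul_eq_mul] at hs
  rw [Equiv.Perm.sign_of_cycleType, hn, Multiset.sum_replicate, Multiset.card_replicate, ho,
    smul_eq_mul]
  have : n + 1 = m := by omega
  rw [this, pow_add, pow_mul', neg_one_sq, one_pow, one_mul]

/-- A group of order twice an odd number has a subgroup of index two. -/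
theorem exists_index_two {m : ℕ} (hm : Odd m) (hG : Nat.card G = 2 * m) :
    ∃ M : Subgroup G, M.Normal ∧ M.index = 2 := by
  classical
  have := Fintype.ofFinite G
  haveI := Fact.mk Nat.prime_two
  obtain ⟨t, ht⟩ := exists_prime_orderOf_dvd_card' (G := G) 2 (hG ▸ dvd_mul_right 2 m)
  let f : G →* ℤˣ := Equiv.Perm.sign.comp (MulAction.toPermHom G G)
  have hne : t ≠ 1 := by intro h; rw [h, orderOf_one] at ht; omega
  have hf : f t = -1 := by
    have h2 : (MulAction.toPermHom G G t) ^ 2 = 1 := by
      have ht2 := pow_orderOf_eq_one t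
      rw [ht] at ht2
      rw [← map_pow, ht2, map_one]
    have hsupp : (MulAction.toPermHom G G t).support = Finset.univ := by
      ext x
      simp [hne]
    have h1 : MulAction.toPermHom G G t ≠ 1 := fun h => hne (by
      simpa using congrArg (fun σ : Equiv.Perm G => σ 1) h)
    show Equiv.Perm.sign (MulAction.toPermHom G G t) = -1
    rw [sign_involution h2 h1 (m := m) (by
      rw [hsupp, Finset.card_univ, ← Nat.card_eq_fintype_card, hG])]
    exact hm.neg_one_pow
  refine ⟨f.ker, inferInstance, ?_⟩
  rw [Subgroup.index_ker]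
  have hle : Nat.card f.range ∣ 2 := by
    have := Subgroup.card_subgroup_dvd_card f.range
    rwa [Nat.card_eq_fintype_card (α := ℤˣ), Fintype.card_units_int] at this
  rcases (Nat.dvd_prime Nat.prime_two).mp hle with h | h
  · exfalso
    have hbot := Subgroup.eq_bot_of_card_eq _ h
    have : f t ∈ f.range := ⟨t, rfl⟩
    rw [hbot, Subgroup.mem_bot, hf] at this
    exact absurd this (by decide)
  · exact h

theorem card_sylow_of_normal_le {p : ℕ} [Fact p.Prime] (N : Subgroup G) [N.Normal]
    (hN : ¬ p ∣ N.index) : Nat.card (Sylow p N) = Nat.card (Sylow p G) := by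
  have hle : ∀ R : Sylow p G, (R : Subgroup G) ≤ N := by
    intro R x hx
    obtain ⟨k, hk⟩ := orderOf_sylow_mem hx
    rw [← QuotientGroup.eq_one_iff (N := N), ← orderOf_eq_one_iff]
    refine Nat.eq_one_of_dvd_coprimes
      (((Fact.out : p.Prime).coprime_iff_not_dvd.mpr hN).pow_left k)
      (hk ▸ orderOf_map_dvd (QuotientGroup.mk' N) x) ?_
    rw [Subgroup.index_eq_card]
    exact _root_.orderOf_dvd_natCard _
  refine (Nat.card_eq_of_bijective (fun R : Sylow p G => R.subtype (hle R)) ⟨?_, ?_⟩).symm
  · intro R R' h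
    apply Sylow.ext
    have h' : (R : Subgroup G).subgroupOf N = (R' : Subgroup G).subgroupOf N :=
      congrArg (fun Q : Sylow p N => (Q : Subgroup N)) h
    have := congrArg (Subgroup.map N.subtype) h'
    rwa [Subgroup.map_subgroupOf_eq_of_le (hle R), Subgroup.map_subgroupOf_eq_of_le (hle R')] at this
  · intro Q
    obtain ⟨R, hR⟩ := (Q.isPGroup'.map N.subtype).exists_le_sylow
    refine ⟨R, Sylow.ext (Q.is_maximal' (R.subtype (hle R)).isPGroup' fun x hx => ?_)⟩
    exact hR ⟨x, hx, rfl⟩

theorem fifteen_aux.{v} : ∀ (n : ℕ) (G : Type v) [Group G] [Finite G],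
    Nat.card G = n → Nat.card (Sylow 7 G) ≠ 15 := by
  intro n
  induction n using Nat.strong_induction_on with
  | _ n ih =>
  intro G _ _ hn h15
  classical
  -- no proper normal subgroup of index prime to seven
  have hred : ∀ N : Subgroup G, N.Normal → ¬ 7 ∣ N.index → N = ⊤ := by
    intro N hN h7
    by_contra hne
    haveI := hN
    have hlt : Nat.card N < n := by
      rw [← hn]
      exact lt_of_le_of_ne (Subgroup.card_le_card_group N) fun e => hne (Subgroup.eq_top_of_card_eq N e)
    exact ih _ hlt N rfl ((card_sylow_of_normal_le N h7).trans h15)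
  -- the action on the Sylow subgroups is faithful
  set φ := MulAction.toPermHom G (Sylow 7 G) with hφ
  have hfaith : φ.ker = ⊥ := by
    by_contra hK
    have hlt : Nat.card (G ⧸ φ.ker) < n := by
      rw [← hn, Subgroup.card_eq_card_quotient_mul_card_subgroup φ.ker]
      exact lt_mul_of_one_lt_right Nat.card_pos ((Subgroup.one_lt_card_iff_ne_bot _).mpr hK)
    refine ih _ hlt (G ⧸ φ.ker) rfl (Eq.trans ?_ h15)
    have hsurj := QuotientGroup.mk'_surjective φ.ker
    refine (Nat.card_eq_of_bijective (Sylow.mapSurjective (p := 7) hsurj)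
      ⟨?_, Sylow.mapSurjective_surjective hsurj 7⟩).symm
    intro R R' h
    have h' : (R : Subgroup G).map (QuotientGroup.mk' φ.ker) =
        (R' : Subgroup G).map (QuotientGroup.mk' φ.ker) :=
      congrArg (fun Q : Sylow 7 (G ⧸ φ.ker) => (Q : Subgroup (G ⧸ φ.ker))) h
    have h2 := congrArg (Subgroup.comap (QuotientGroup.mk' φ.ker)) h'
    rw [Subgroup.comap_map_eq, Subgroup.comap_map_eq, QuotientGroup.ker_mk'] at h2
    have hle : (R' : Subgroup G) ≤ normalizer (R : Set G) := by
      refine le_trans (le_sup_left.trans h2.ge) (sup_le le_normalizer fun k hk => ?_)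
      rw [← Sylow.smul_eq_iff_mem_normalizer]
      exact Equiv.ext_iff.mp (MonoidHom.mem_ker.mp hk) R
    apply Sylow.ext
    have h3 := R'.isPGroup'.inf_normalizer_sylow R
    rw [inf_eq_left.mpr hle] at h3
    exact R'.is_maximal' R.isPGroup' (inf_eq_left.mp h3.symm)
  have hfix1 : ∀ g : G, (∀ R : Sylow 7 G, g • R = R) → g = 1 := by
    intro g hg
    have : g ∈ φ.ker := MonoidHom.mem_ker.mpr (Equiv.ext fun R => hg R)
    rw [hfaith] at this
    exact Subgroup.mem_bot.mp this
  have := Fintype.ofFinite (Sylow 7 G)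
  have hcardF : Fintype.card (Sylow 7 G) = 15 := by rw [← Nat.card_eq_fintype_card]; exact h15
  -- orbit of a Sylow subgroup on the others
  have horb : ∀ P Q : Sylow 7 G, Q ≠ P →
      Nat.card (MulAction.orbit (P : Subgroup G) Q) = 7 := by
    intro P Q hne
    obtain ⟨k, hk⟩ := P.isPGroup'.card_orbit Q
    have hlt : Nat.card (MulAction.orbit (P : Subgroup G) Q) ≤ 15 :=
      h15 ▸ Nat.card_le_card_of_injective _ Subtype.val_injective
    rw [hk] at hlt ⊢
    have hk2 : k < 2 := by
      by_contra hc
      have : 7 ^ 2 ≤ 7 ^ k := Nat.pow_le_pow_right (by norm_num) (not_lt.mp hc)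
      omega
    interval_cases k
    · exfalso
      rw [pow_zero, Nat.card_eq_one_iff_unique] at hk
      haveI := hk.1
      have hall : ∀ x ∈ (P : Subgroup G), x • Q = Q := fun x hx =>
        congrArg Subtype.val (Subsingleton.elim
          (⟨x • Q, ⟨⟨x, hx⟩, rfl⟩⟩ : MulAction.orbit (P : Subgroup G) Q)
          ⟨Q, MulAction.mem_orbit_self Q⟩)
      exact hne (Sylow.ext (P.is_maximal' Q.isPGroup'
        fun x hx => (sylow_smul_eq_iff_mem (orderOf_sylow_mem hx) Q).mp (hall x hx)))
    · norm_num
  have horbn : ∀ P Q : Sylow 7 G, Q ≠ P → (MulAction.orbit (P : Subgroup G) Q).ncard = 7 :=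
    fun P Q h => (Nat.card_coe_set_eq _).symm.trans (horb P Q h)
  have htrans : ∀ (P A B C : Sylow 7 G), A ∈ MulAction.orbit (P : Subgroup G) B →
      B ∈ MulAction.orbit (P : Subgroup G) C → A ∈ MulAction.orbit (P : Subgroup G) C := by
    rintro P A B C ⟨x, rfl⟩ ⟨y, rfl⟩
    exact ⟨x * y, mul_smul x y C⟩
  have hstab : ∀ P Q : Sylow 7 G, Q ≠ P →
      (MulAction.stabilizer (P : Subgroup G) Q).index = 7 := by
    intro P Q hne
    rw [Subgroup.index_eq_card, ← Nat.card_congr (MulAction.orbitEquivQuotientStabilizer _ Q)]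
    exact horb P Q hne
  -- the quotient by a stabiliser is cyclic of order seven
  have hstab' : ∀ (P Q : Sylow 7 G) (x y : (P : Subgroup G)),
      x ^ 7 ∈ MulAction.stabilizer (P : Subgroup G) Q ∧
      x * y * x⁻¹ * y⁻¹ ∈ MulAction.stabilizer (P : Subgroup G) Q := by
    intro P Q x y
    by_cases hne : Q = P
    · have hall : ∀ z : (P : Subgroup G), z ∈ MulAction.stabilizer (P : Subgroup G) Q := fun z =>
        MulAction.mem_stabilizer_iff.mpr (hne ▸
          (sylow_smul_eq_iff_mem (orderOf_sylow_mem z.2) P).mpr z.2)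
      exact ⟨hall _, hall _⟩
    · set S := MulAction.stabilizer (P : Subgroup G) Q
      have hidx := hstab P Q hne
      haveI : S.Normal := by
        apply Subgroup.normal_of_index_eq_minFac_card
        obtain ⟨k, hk⟩ := P.isPGroup'.exists_card_eq
        rw [hidx, hk, Nat.pow_minFac, (Fact.out : (7 : ℕ).Prime).minFac_eq]
        rintro rfl
        have := S.index_dvd_card
        rw [hidx, hk, pow_zero, Nat.dvd_one] at this
        omega
      have hc : Nat.card ((P : Subgroup G) ⧸ S) = 7 := hidx
      haveI : IsCyclic ((P : Subgroup G) ⧸ S) := isCyclic_of_prime_card hc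
      letI := IsCyclic.commGroup (α := (P : Subgroup G) ⧸ S)
      constructor
      · rw [← QuotientGroup.eq_one_iff, QuotientGroup.mk_pow]
        exact orderOf_dvd_iff_pow_eq_one.mp ((_root_.orderOf_dvd_natCard _).trans hc.dvd)
      · rw [← QuotientGroup.eq_one_iff]
        simp only [QuotientGroup.mk_mul, QuotientGroup.mk_inv]
        rw [mul_comm (x : (P : Subgroup G) ⧸ S) y, mul_inv_cancel_right, mul_inv_cancel]
  have hexp : ∀ (P : Sylow 7 G), ∀ x ∈ (P : Subgroup G), x ^ 7 = 1 := fun P x hx =>
    hfix1 _ fun Q => MulAction.mem_stabilizer_iff.mp (hstab' P Q ⟨x, hx⟩ 1).1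
  have hab : ∀ (P : Sylow 7 G), ∀ x ∈ (P : Subgroup G), ∀ y ∈ (P : Subgroup G), x * y = y * x := by
    intro P x hx y hy
    have h := hfix1 (x * y * x⁻¹ * y⁻¹) fun Q =>
      MulAction.mem_stabilizer_iff.mp (hstab' P Q ⟨x, hx⟩ ⟨y, hy⟩).2
    rwa [← commutatorElement_eq_one_iff_mul_comm, commutatorElement_def]
  -- the fixed-point set of an element with two fixed points
  have key : ∀ (a : G) (P Q : Sylow 7 G), a ≠ 1 → a ∈ (P : Subgroup G) → a ∈ (Q : Subgroup G) →
      Q ≠ P → ∃ b ∈ (P : Subgroup G), b ≠ 1 ∧
        ∀ R : Sylow 7 G, b ∈ (R : Subgroup G) ↔ (R = P ∨ a ∉ (R : Subgroup G)) := by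
    intro a P Q ha haP haQ hne
    have hfixorb : ∀ (z : G), z ∈ (P : Subgroup G) → ∀ R₀ : Sylow 7 G, z • R₀ = R₀ →
        ∀ R ∈ MulAction.orbit (P : Subgroup G) R₀, z • R = R := by
      rintro z hz R₀ h0 _ ⟨x, rfl⟩
      show z • (x : G) • R₀ = (x : G) • R₀
      rw [← mul_smul, hab P z hz x x.2, mul_smul, h0]
    have hO := hfixorb a haP Q ((sylow_smul_eq_iff_mem (orderOf_sylow_mem haP) Q).mpr haQ)
    obtain ⟨R₁, hR₁⟩ : ∃ R₁ : Sylow 7 G, a • R₁ ≠ R₁ := by
      by_contra hall
      push Not at hall
      exact ha (hfix1 a hall)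
    have hR₁P : R₁ ≠ P := fun h => hR₁ (h ▸ (sylow_smul_eq_iff_mem (orderOf_sylow_mem haP) P).mpr haP)
    have hdisj : Disjoint (MulAction.orbit (P : Subgroup G) Q) (MulAction.orbit (P : Subgroup G) R₁) := by
      rw [Set.disjoint_left]
      intro R hR hR'
      exact hR₁ (hO R₁ (htrans P _ _ _ (MulAction.mem_orbit_symm.mp hR') hR))
    -- the two orbits and `P` are everything
    have hPorb : ∀ R : Sylow 7 G, R ≠ P → P ∉ MulAction.orbit (P : Subgroup G) R := by
      rintro R hR ⟨x, hx⟩
      apply hR
      have hxP : (x : G) • P = P := (sylow_smul_eq_iff_mem (orderOf_sylow_mem x.2) P).mpr x.2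
      have : (x : G) • R = (x : G) • P := hx.trans hxP.symm
      exact MulAction.injective _ this
    have hcover : ∀ R : Sylow 7 G, R = P ∨ R ∈ MulAction.orbit (P : Subgroup G) Q ∨
        R ∈ MulAction.orbit (P : Subgroup G) R₁ := by
      intro R
      have hu : ({P} ∪ (MulAction.orbit (P : Subgroup G) Q ∪
          MulAction.orbit (P : Subgroup G) R₁) : Set (Sylow 7 G)) = Set.univ := by
        apply Set.eq_of_subset_of_ncard_le (Set.subset_univ _) ?_ (Set.toFinite _)
        rw [Set.ncard_union_eq ?_ (Set.toFinite _) (Set.toFinite _),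
          Set.ncard_union_eq hdisj (Set.toFinite _) (Set.toFinite _), Set.ncard_singleton,
          horbn P Q hne, horbn P R₁ hR₁P,
          Set.ncard_univ, h15]
        rw [Set.disjoint_singleton_left, Set.mem_union]
        exact fun h => h.elim (hPorb Q hne) (hPorb R₁ hR₁P)
      have := hu.symm ▸ Set.mem_univ R
      simpa using this
    have hanot : ∀ R ∈ MulAction.orbit (P : Subgroup G) R₁, a ∉ (R : Subgroup G) := by
      intro R hR haR
      exact hR₁ (hfixorb a haP R ((sylow_smul_eq_iff_mem (orderOf_sylow_mem haP) R).mpr haR) R₁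
        (MulAction.mem_orbit_symm.mp hR))
    obtain ⟨b, hbS, hb1⟩ : ∃ b ∈ MulAction.stabilizer (P : Subgroup G) R₁, b ≠ 1 := by
      refine (Subgroup.bot_or_exists_ne_one _).resolve_left ?_
      intro hbot
      have h1 := hstab P R₁ hR₁P
      rw [hbot, Subgroup.index_bot] at h1
      have h2 := hstab P Q hne
      have h3 := Subgroup.card_mul_index (MulAction.stabilizer (P : Subgroup G) Q)
      rw [h2, h1] at h3
      have hQbot := Subgroup.eq_bot_of_card_eq (MulAction.stabilizer (P : Subgroup G) Q) (by omega)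
      have hmem : (⟨a, haP⟩ : (P : Subgroup G)) ∈ MulAction.stabilizer (P : Subgroup G) Q :=
        MulAction.mem_stabilizer_iff.mpr ((sylow_smul_eq_iff_mem (orderOf_sylow_mem haP) Q).mpr haQ)
      rw [hQbot, Subgroup.mem_bot] at hmem
      exact ha (congrArg Subtype.val hmem)
    have hT := hfixorb (b : G) b.2 R₁ hbS
    refine ⟨b, b.2, fun h => hb1 (Subtype.ext h), fun R => ?_⟩
    rw [← sylow_smul_eq_iff_mem (orderOf_sylow_mem b.2)]
    constructor
    · intro hbR
      rcases hcover R with h | h | h
      · exact Or.inl h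
      · exfalso
        refine hb1 (Subtype.ext (hfix1 _ fun R' => ?_))
        rcases hcover R' with h' | h' | h'
        · rw [h']; exact (sylow_smul_eq_iff_mem (orderOf_sylow_mem b.2) P).mpr b.2
        · exact hfixorb _ b.2 R hbR R' (htrans P _ _ _ h' (MulAction.mem_orbit_symm.mp h))
        · exact hT R' h'
      · exact Or.inr (hanot R h)
    · rintro (rfl | h)
      · exact (sylow_smul_eq_iff_mem (orderOf_sylow_mem b.2) R).mpr b.2
      · rcases hcover R with h' | h' | h'
        · exact absurd (h' ▸ haP) h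
        · exact absurd ((sylow_smul_eq_iff_mem (orderOf_sylow_mem haP) R).mp (hO R h')) h
        · exact hT R h'
  -- distinct Sylow subgroups meet trivially
  have hTI : ∀ (a : G) (P Q : Sylow 7 G), a ∈ (P : Subgroup G) → a ∈ (Q : Subgroup G) →
      a ≠ 1 → Q = P := by
    intro a P Q haP haQ ha
    by_contra hne
    obtain ⟨b, hbP, -, hb⟩ := key a P Q ha haP haQ hne
    obtain ⟨b', hbQ, -, hb'⟩ := key a Q P ha haQ haP (Ne.symm hne)
    obtain ⟨y, hy⟩ : ∃ y : Sylow 7 G, a ∉ (y : Subgroup G) := by
      by_contra hall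
      push Not at hall
      exact ha (hfix1 a fun R => (sylow_smul_eq_iff_mem (orderOf_sylow_mem haP) R).mpr (hall R))
    have hcomm : b * b' = b' * b := hab y b ((hb y).mpr (Or.inr hy)) b' ((hb' y).mpr (Or.inr hy))
    have hbQne : b ∉ (Q : Subgroup G) := fun h => ((hb Q).mp h).elim hne fun h' => h' haQ
    apply hbQne
    rw [← sylow_smul_eq_iff_mem (orderOf_sylow_mem hbP)]
    have h1 : b' ∈ ((b • Q : Sylow 7 G) : Subgroup G) := by
      rw [← sylow_smul_eq_iff_mem (orderOf_sylow_mem hbQ), ← mul_smul, ← hcomm, mul_smul,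
        (sylow_smul_eq_iff_mem (orderOf_sylow_mem hbQ) Q).mpr hbQ]
    have h2 : a ∈ ((b • Q : Sylow 7 G) : Subgroup G) := by
      rw [← sylow_smul_eq_iff_mem (orderOf_sylow_mem haP), ← mul_smul, hab P a haP b hbP, mul_smul,
        (sylow_smul_eq_iff_mem (orderOf_sylow_mem haP) Q).mpr haQ]
    exact ((hb' _).mp h1).elim id fun h' => absurd h2 h'
  obtain ⟨P⟩ : Nonempty (Sylow 7 G) := inferInstance
  obtain ⟨Q, hQP⟩ : ∃ Q : Sylow 7 G, Q ≠ P := by
    by_contra! hall
    haveI : Subsingleton (Sylow 7 G) := ⟨fun A B => (hall A).trans (hall B).symm⟩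
    rw [Nat.card_unique (α := Sylow 7 G)] at h15
    omega
  have hPcard : Nat.card (P : Subgroup G) = 7 := by
    have hbot : MulAction.stabilizer (P : Subgroup G) Q = ⊥ := by
      rw [eq_bot_iff]
      intro x hx
      by_contra hx1
      exact hQP (hTI x P Q x.2 ((sylow_smul_eq_iff_mem (orderOf_sylow_mem x.2) Q).mp hx)
        fun h => hx1 (Subgroup.mem_bot.mpr (Subtype.ext h)))
    have := hstab P Q hQP
    rwa [hbot, Subgroup.index_bot] at this
  set C := centralizer ((P : Subgroup G) : Set G)
  have hCP : ∀ u ∈ C, u • P = P := fun u hu =>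
    Sylow.smul_eq_iff_mem_normalizer.mpr (Subgroup.centralizer_le_normalizer _ hu)
  -- elements of the centraliser fix no other point
  have hCfree : ∀ u ∈ C, ∀ R : Sylow 7 G, R ≠ P → u • R = R → u = 1 := by
    intro u hu R hR huR
    have hfo : ∀ (z : G), z ∈ C → ∀ R₀ : Sylow 7 G, z • R₀ = R₀ →
        ∀ R' ∈ MulAction.orbit (P : Subgroup G) R₀, z • R' = R' := by
      rintro z hz R₀ h0 _ ⟨x, rfl⟩
      show z • (x : G) • R₀ = (x : G) • R₀
      rw [← mul_smul, ← Subgroup.mem_centralizer_iff.mp hz x x.2, mul_smul, h0]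
    have hu7 : ∀ R' : Sylow 7 G, u ^ 7 • R' = R' := by
      intro R'
      by_cases hR' : R' = P
      · rw [hR']; exact hCP _ (pow_mem hu 7)
      by_cases hmem : R' ∈ MulAction.orbit (P : Subgroup G) R
      · exact hfo _ (pow_mem hu 7) R (by
          clear * - huR
          have : ∀ k : ℕ, u ^ k • R = R := fun k => by
            induction k with
            | zero => simp
            | succ k ih => rw [pow_succ, mul_smul, huR, ih]
          exact this 7) R' hmem
      · -- `u • R'` lies in the orbit of `R'`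
        have hu' : u • R' ∈ MulAction.orbit (P : Subgroup G) R' := by
          by_contra hc
          have hsub : ({P} ∪ (MulAction.orbit (P : Subgroup G) R ∪
              MulAction.orbit (P : Subgroup G) R') : Set (Sylow 7 G)) = Set.univ := by
            apply Set.eq_of_subset_of_ncard_le (Set.subset_univ _) ?_ (Set.toFinite _)
            rw [Set.ncard_union_eq ?_ (Set.toFinite _) (Set.toFinite _),
              Set.ncard_union_eq ?_ (Set.toFinite _) (Set.toFinite _), Set.ncard_singleton,
              horbn P R hR, horbn P R' hR',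
              Set.ncard_univ, h15]
            · rw [Set.disjoint_left]
              intro S hS hS'
              apply hmem
              exact htrans P _ _ _ (MulAction.mem_orbit_symm.mp hS') hS
            · rw [Set.disjoint_singleton_left, Set.mem_union]
              intro h
              have hP0 : ∀ R₀ : Sylow 7 G, P ∈ MulAction.orbit (P : Subgroup G) R₀ → R₀ = P := by
                rintro R₀ ⟨x, hx⟩
                have hxP : (x : G) • P = P := (sylow_smul_eq_iff_mem (orderOf_sylow_mem x.2) P).mpr x.2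
                exact MulAction.injective (x : G)
                  ((show (x : G) • R₀ = P from hx).trans hxP.symm)
              exact h.elim (fun h => hR (hP0 R h)) (fun h => hR' (hP0 R' h))
          have hin := hsub.symm ▸ Set.mem_univ (u • R')
          simp only [Set.mem_union, Set.mem_singleton_iff] at hin
          rcases hin with h | h | h
          · exact hR' (MulAction.injective u (h.trans (hCP u hu).symm))
          · have := hfo u hu R huR _ h
            rw [MulAction.injective u this] at h
            exact hmem h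
          · exact hc h
        obtain ⟨⟨x, hx⟩, hxR⟩ := hu'
        have hxR' : x • R' = u • R' := hxR
        have hpow : ∀ k : ℕ, u ^ k • R' = x ^ k • R' := by
          intro k
          induction k with
          | zero => simp
          | succ k ih =>
            rw [pow_succ u, mul_smul, ← hxR', ← mul_smul,
              ← Subgroup.mem_centralizer_iff.mp (pow_mem hu k) x hx, mul_smul, ih, ← mul_smul,
              ← pow_succ']
        rw [hpow 7, hexp P x hx, one_smul]
    have hu1 : u ^ 7 = 1 := hfix1 _ hu7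
    by_contra hne1
    have hz : ∃ k, orderOf u = 7 ^ k := ⟨1, by rw [pow_one]; exact orderOf_eq_prime hu1 hne1⟩
    exact hR (hTI u P R ((sylow_smul_eq_iff_mem hz P).mp (hCP u hu))
      ((sylow_smul_eq_iff_mem hz R).mp huR) hne1)
  -- every element acts as an even permutation
  have heven : ∀ g : G, Equiv.Perm.sign (φ g) = 1 := by
    intro g
    set f := Equiv.Perm.sign.comp φ
    have hidx : ¬ 7 ∣ f.ker.index := by
      rw [Subgroup.index_ker]
      intro h
      have h2 := h.trans (Subgroup.card_subgroup_dvd_card f.range)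
      rw [Nat.card_eq_fintype_card (α := ℤˣ), Fintype.card_units_int] at h2
      have := Nat.le_of_dvd two_pos h2
      omega
    have h : g ∈ f.ker := by rw [hred f.ker inferInstance hidx]; exact mem_top g
    exact MonoidHom.mem_ker.mp h
  have hC7 : Nat.card C = 7 := by
    have hle : Nat.card C ≤ 14 := by
      have hinj : Function.Injective (fun u : C => (⟨(u : G) • Q, fun h =>
          hQP (MulAction.injective (u : G) (h.trans (hCP u u.2).symm))⟩ : {R : Sylow 7 G // R ≠ P})) := by
        intro u v h
        have h' : (u : G) • Q = (v : G) • Q := congrArg Subtype.val h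
        have := hCfree ((v : G)⁻¹ * u) (mul_mem (inv_mem v.2) u.2) Q hQP
          (by rw [mul_smul, h', inv_smul_smul])
        exact Subtype.ext (inv_mul_eq_one.mp this).symm
      refine (Nat.card_le_card_of_injective _ hinj).trans ?_
      rw [Nat.card_eq_fintype_card, Fintype.card_subtype_compl, hcardF, Fintype.card_subtype_eq]
    have hd : 7 ∣ Nat.card C := hPcard ▸ Subgroup.card_dvd_of_le (fun x hx =>
      Subgroup.mem_centralizer_iff.mpr fun y hy => hab P y hy x hx)
    obtain ⟨k, hk⟩ := hd
    have hk0 : 0 < k := Nat.pos_of_ne_zero (by rintro rfl; exact Nat.card_pos.ne' (by simpa using hk))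
    by_contra hne7
    have hk2 : k = 2 := by omega
    haveI := Fact.mk Nat.prime_two
    obtain ⟨u, hu⟩ := exists_prime_orderOf_dvd_card' (G := C) 2 (by rw [hk, hk2]; norm_num)
    rw [← orderOf_coe] at hu
    have hu1 : (u : G) ≠ 1 := fun h => by rw [h, orderOf_one] at hu; omega
    have hu2 : (u : G) ^ 2 = 1 := hu ▸ pow_orderOf_eq_one _
    have hsupp : (φ (u : G)).support = Finset.univ.erase P := by
      ext R
      rw [Equiv.Perm.mem_support, Finset.mem_erase]
      constructor
      · exact fun h => ⟨fun h' => h (h' ▸ hCP u u.2), Finset.mem_univ _⟩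
      · exact fun h h' => hu1 (hCfree u u.2 R h.1 h')
    have hne : φ (u : G) ≠ 1 := fun h =>
      hu1 (hCfree u u.2 Q hQP (Equiv.ext_iff.mp h Q))
    have hs := sign_involution (σ := φ (u : G)) (by rw [← map_pow, hu2, map_one]) hne (m := 7)
      (by rw [hsupp, Finset.card_erase_of_mem (Finset.mem_univ _), Finset.card_univ, hcardF])
    rw [heven] at hs
    exact absurd hs (by decide)
  -- the order of the group
  set N := normalizer ((P : Subgroup G) : Set G)
  have hNidx : N.index = 15 := P.card_eq_index_normalizer.symm.trans h15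
  obtain ⟨j, hj, hj6⟩ : ∃ j, Nat.card N = 7 * j ∧ j ∣ 6 := by
    refine ⟨((P : Subgroup G).normalizerMonoidHom).ker.index, ?_, ?_⟩
    · rw [← Subgroup.card_mul_index ((P : Subgroup G).normalizerMonoidHom).ker,
        Subgroup.normalizerMonoidHom_ker,
        Nat.card_congr (Subgroup.subgroupOfEquivOfLe (Subgroup.centralizer_le_normalizer _)).toEquiv,
        hC7]
    · rw [Subgroup.index_ker]
      haveI : IsCyclic (P : Subgroup G) := isCyclic_of_prime_card hPcard
      refine (Subgroup.card_subgroup_dvd_card _).trans ?_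
      rw [IsCyclic.card_mulAut, hPcard, Nat.totient_prime (Fact.out : (7 : ℕ).Prime)]
  have hGcard : Nat.card G = 105 * j := by
    rw [← Subgroup.card_mul_index N, hNidx, hj]; ring
  have hjodd : j = 1 ∨ j = 3 := by
    have hj' : j ∈ Nat.divisors 6 := Nat.mem_divisors.mpr ⟨hj6, by norm_num⟩
    rw [show Nat.divisors 6 = {1, 2, 3, 6} by decide] at hj'
    simp only [Finset.mem_insert, Finset.mem_singleton] at hj'
    rcases hj' with rfl | rfl | rfl | rfl
    · exact Or.inl rfl
    · obtain ⟨M, hM, hM2⟩ := exists_index_two (G := G) (m := 105) (by decide) (by omega)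
      have := hred M hM (by rw [hM2]; norm_num)
      rw [this, Subgroup.index_top] at hM2
      omega
    · exact Or.inr rfl
    · obtain ⟨M, hM, hM2⟩ := exists_index_two (G := G) (m := 315) (by decide) (by omega)
      have := hred M hM (by rw [hM2]; norm_num)
      rw [this, Subgroup.index_top] at hM2
      omega
  haveI : Fact (Nat.Prime 5) := ⟨by norm_num⟩
  obtain ⟨R⟩ : Nonempty (Sylow 5 G) := inferInstance
  have hR5 : Nat.card (R : Subgroup G) = 5 := by
    rw [R.card_eq_multiplicity, hGcard, Nat.factorization_def _ (Fact.out : (5 : ℕ).Prime)]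
    rcases hjodd with rfl | rfl
    · rw [show 105 * 1 = 5 * 21 by rfl, padicValNat.mul (by norm_num) (by norm_num),
        padicValNat.self (by norm_num), padicValNat.eq_zero_of_not_dvd (by norm_num), add_zero, pow_one]
    · rw [show 105 * 3 = 5 * 63 by rfl, padicValNat.mul (by norm_num) (by norm_num),
        padicValNat.self (by norm_num), padicValNat.eq_zero_of_not_dvd (by norm_num), add_zero, pow_one]
  haveI : IsCyclic (R : Subgroup G) := isCyclic_of_prime_card hR5
  set NR := normalizer ((R : Subgroup G) : Set G)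
  have hodd : ¬ 2 ∣ Nat.card NR := fun h => by
    have := h.trans (NR.card_subgroup_dvd_card)
    rw [hGcard] at this
    rcases hjodd with rfl | rfl <;> norm_num at this
  have hNC : NR ≤ centralizer ((R : Subgroup G) : Set G) := by
    intro x hx
    have hker : (⟨x, hx⟩ : NR) ∈ ((R : Subgroup G).normalizerMonoidHom).ker := by
      rw [MonoidHom.mem_ker, ← orderOf_eq_one_iff]
      have h1 : orderOf ((R : Subgroup G).normalizerMonoidHom ⟨x, hx⟩) ∣ 4 := by
        have h := orderOf_dvd_natCard ((R : Subgroup G).normalizerMonoidHom ⟨x, hx⟩)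
        rwa [IsCyclic.card_mulAut, hR5, Nat.totient_prime (Fact.out : (5 : ℕ).Prime)] at h
      have h2 := (orderOf_map_dvd ((R : Subgroup G).normalizerMonoidHom) ⟨x, hx⟩).trans
        (_root_.orderOf_dvd_natCard _)
      refine Nat.eq_one_of_dvd_coprimes ?_ h1 h2
      rw [show 4 = 2 ^ 2 by rfl]
      exact (Nat.prime_two.coprime_iff_not_dvd.mpr hodd).pow_left 2
    rw [Subgroup.normalizerMonoidHom_ker] at hker
    exact hker
  have hcompl := MonoidHom.ker_transferSylow_isComplement' R hNC
  have hidx : (MonoidHom.transferSylow R hNC).ker.index = 5 :=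
    hcompl.symm.index_eq_card.trans hR5
  have htop := hred _ inferInstance (by rw [hidx]; norm_num)
  rw [htop, Subgroup.index_top] at hidx
  omega

theorem card_sylow_seven_ne_fifteen (G : Type u) [Group G] [Finite G] :
    Nat.card (Sylow 7 G) ≠ 15 :=
  fifteen_aux _ G rfl

end H3
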