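import Mathlib.GroupTheory.Sylow
import Mathlib.GroupTheory.IndexNormal
import Mathlib.GroupTheory.SpecificGroups.Cyclic
import Mathlib.Combinatorics.Enumerative.DoubleCounting
import Mathlib.Algebra.Group.Subgroup.Pointwise
import Mathlib.Tactic.IntervalCases
import Mathlib.Tactic.NormNum.Prime
import Cfsg.Agent.H3.SylowSevenFifteen

/-!
A group acting faithfully by conjugation on exactly twenty-one Sylow `5`-subgroups has Sylow
`5`-subgroups of order five.

The Sylow subgroups are abelian and two of them meet in a subgroup of index five. For such an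
intersection `H` count pairs (conjugate of `H`, Sylow subgroup containing it): each conjugate lies
in six Sylow subgroups and each Sylow subgroup contains two or four of them. The stabilisers in a
Sylow subgroup of the conjugates outside it are again intersections, and form a set invariant
under the normaliser, which is too small.
-/

set_option autoImplicit false

namespace H3

open Subgroup
open scoped Pointwise

universe u

variable {G : Type u} [Group G] [Finite G]

theorem card_sylow_quotient_toPermHom_ker (p : ℕ) [Fact p.Prime] :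
    Nat.card (Sylow p (G ⧸ (MulAction.toPermHom G (Sylow p G)).ker)) = Nat.card (Sylow p G) := by
  set φ := MulAction.toPermHom G (Sylow p G)
  have hsurj := QuotientGroup.mk'_surjective φ.ker
  refine (Nat.card_eq_of_bijective (Sylow.mapSurjective (p := p) hsurj)
    ⟨?_, Sylow.mapSurjective_surjective hsurj p⟩).symm
  intro R R' h
  have h' : (R : Subgroup G).map (QuotientGroup.mk' φ.ker) =
      (R' : Subgroup G).map (QuotientGroup.mk' φ.ker) :=
    congrArg (fun Q : Sylow p (G ⧸ φ.ker) => (Q : Subgroup (G ⧸ φ.ker))) h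
  have h2 := congrArg (Subgroup.comap (QuotientGroup.mk' φ.ker)) h'
  rw [Subgroup.comap_map_eq, Subgroup.comap_map_eq, QuotientGroup.ker_mk'] at h2
  have hle : (R' : Subgroup G) ≤ normalizer (R : Set G) := by
    refine le_trans (le_sup_left.trans h2.ge) (sup_le le_normalizer fun k hk => ?_)
    rw [← Sylow.smul_eq_iff_mem_normalizer]
    exact Equiv.ext_iff.mp (MonoidHom.mem_ker.mp hk) R
  apply Sylow.ext
  have h3 := R'.isPGroup'.inf_normalizer_sylow R
  rw [inf_eq_left.mpr hle] at h3
  exact R'.is_maximal' R.isPGroup' (inf_eq_left.mp h3.symm)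

/-- The hypothesis of this file: twenty-one Sylow `5`-subgroups, acted on faithfully. -/
structure TwentyOne (G : Type u) [Group G] : Prop where
  card_eq : Nat.card (Sylow 5 G) = 21
  faithful : ∀ g : G, (∀ R : Sylow 5 G, g • R = R) → g = 1

local instance fivePrimeFact : Fact (Nat.Prime 5) := ⟨by norm_num⟩

namespace TwentyOne

variable (h : TwentyOne G)

include h

theorem card_orbit (P Q : Sylow 5 G) (hne : Q ≠ P) :
    Nat.card (MulAction.orbit (P : Subgroup G) Q) = 5 := by
  obtain ⟨k, hk⟩ := P.isPGroup'.card_orbit Q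
  have hlt : Nat.card (MulAction.orbit (P : Subgroup G) Q) ≤ 21 :=
    h.card_eq ▸ Nat.card_le_card_of_injective _ Subtype.val_injective
  rw [hk] at hlt ⊢
  have hk2 : k < 2 := by
    by_contra hc
    have : 5 ^ 2 ≤ 5 ^ k := Nat.pow_le_pow_right (by norm_num) (not_lt.mp hc)
    omega
  interval_cases k
  · exfalso
    rw [pow_zero, Nat.card_eq_one_iff_unique] at hk
    haveI := hk.1
    have hall : ∀ x ∈ (P : Subgroup G), x • Q = Q := fun x hx =>
      congrArg Subtype.val (Subsingleton.elim
        (⟨x • Q, ⟨⟨x, hx⟩, rfl⟩⟩ : MulAction.orbit (P : Subgroup G) Q)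
        ⟨Q, MulAction.mem_orbit_self Q⟩)
    exact hne (Sylow.ext (P.is_maximal' Q.isPGroup'
      fun x hx => (sylow_smul_eq_iff_mem (orderOf_sylow_mem hx) Q).mp (hall x hx)))
  · norm_num

theorem mul_comm_of_mem {P : Sylow 5 G} {x y : G} (hx : x ∈ (P : Subgroup G))
    (hy : y ∈ (P : Subgroup G)) : x * y = y * x := by
  have key : ∀ Q : Sylow 5 G, (x * y * x⁻¹ * y⁻¹) • Q = Q := by
    intro Q
    rcases eq_or_ne Q P with rfl | hne
    · exact (sylow_smul_eq_iff_mem (orderOf_sylow_mem (mul_mem (mul_mem (mul_mem hx hy)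
        (inv_mem hx)) (inv_mem hy))) Q).mpr (mul_mem (mul_mem (mul_mem hx hy) (inv_mem hx))
        (inv_mem hy))
    · set S := MulAction.stabilizer (P : Subgroup G) Q
      have hidx : S.index = 5 := by
        rw [Subgroup.index_eq_card, ← Nat.card_congr (MulAction.orbitEquivQuotientStabilizer _ Q)]
        exact h.card_orbit P Q hne
      haveI : S.Normal := by
        apply Subgroup.normal_of_index_eq_minFac_card
        obtain ⟨k, hk⟩ := P.isPGroup'.exists_card_eq
        rw [hidx, hk, Nat.pow_minFac, (Fact.out : (5 : ℕ).Prime).minFac_eq]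
        rintro rfl
        have := S.index_dvd_card
        rw [hidx, hk, pow_zero, Nat.dvd_one] at this
        omega
      haveI : IsCyclic ((P : Subgroup G) ⧸ S) := isCyclic_of_prime_card (p := 5) hidx
      letI := IsCyclic.commGroup (α := (P : Subgroup G) ⧸ S)
      have hmem : (⟨x, hx⟩ * ⟨y, hy⟩ * ⟨x, hx⟩⁻¹ * ⟨y, hy⟩⁻¹ : (P : Subgroup G)) ∈ S := by
        rw [← QuotientGroup.eq_one_iff]
        simp only [QuotientGroup.mk_mul, QuotientGroup.mk_inv]
        rw [mul_comm ((⟨x, hx⟩ : (P : Subgroup G)) : (P : Subgroup G) ⧸ S) _, mul_inv_cancel_right,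
          mul_inv_cancel]
      exact MulAction.mem_stabilizer_iff.mp hmem
  have h1 := h.faithful _ key
  rwa [← commutatorElement_eq_one_iff_mul_comm, commutatorElement_def]

theorem card_eq_five_mul_inf (P Q : Sylow 5 G) (hne : Q ≠ P) :
    Nat.card (P : Subgroup G) = 5 * Nat.card ((P : Subgroup G) ⊓ Q : Subgroup G) := by
  set S := MulAction.stabilizer (P : Subgroup G) Q
  have hmap : S.map (P : Subgroup G).subtype = (P : Subgroup G) ⊓ Q := by
    ext x
    constructor
    · rintro ⟨y, hy, rfl⟩
      exact ⟨y.2, (sylow_smul_eq_iff_mem (orderOf_sylow_mem y.2) Q).mp hy⟩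
    · rintro ⟨hxP, hxQ⟩
      exact ⟨⟨x, hxP⟩, (sylow_smul_eq_iff_mem (orderOf_sylow_mem hxP) Q).mpr hxQ, rfl⟩
  rw [← hmap, Subgroup.card_map_of_injective (P : Subgroup G).subtype_injective,
    ← S.card_mul_index, Subgroup.index_eq_card,
    ← Nat.card_congr (MulAction.orbitEquivQuotientStabilizer _ Q)]
  rw [h.card_orbit P Q hne, mul_comm]

theorem five_dvd_card_invariant (P : Sylow 5 G) (s : Finset (Sylow 5 G))
    (hP : P ∉ s) (hinv : ∀ x ∈ (P : Subgroup G), ∀ R ∈ s, x • R ∈ s) : 5 ∣ s.card := by
  classical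
  rw [Finset.card_eq_sum_card_image (fun R => MulAction.orbit (P : Subgroup G) R) s]
  refine Finset.dvd_sum fun O hO => ?_
  obtain ⟨R, hR, rfl⟩ := Finset.mem_image.mp hO
  have heq : ((s.filter fun a => MulAction.orbit (P : Subgroup G) a =
      MulAction.orbit (P : Subgroup G) R : Finset (Sylow 5 G)) : Set (Sylow 5 G)) =
      MulAction.orbit (P : Subgroup G) R := by
    ext a
    simp only [Finset.coe_filter, Set.mem_setOf_eq, MulAction.orbit_eq_iff]
    refine ⟨fun ha => ha.2, fun ha => ⟨?_, ha⟩⟩
    obtain ⟨x, rfl⟩ := ha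
    exact hinv x x.2 R hR
  rw [← Set.ncard_coe_finset, heq, ← Nat.card_coe_set_eq,
    h.card_orbit P R (fun e => hP (e ▸ hR))]

end TwentyOne

/-- Conjugate subgroup. -/
private noncomputable def conjSg (g : G) (H : Subgroup G) : Subgroup G := MulAut.conj g • H

private theorem conjSg_mul (g k : G) (H : Subgroup G) :
    conjSg (g * k) H = conjSg g (conjSg k H) := by
  simp only [conjSg, map_mul, mul_smul]

private theorem conjSg_one (H : Subgroup G) : conjSg 1 H = H := by
  simp only [conjSg, map_one, one_smul]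

private theorem conjSg_le_conjSg {g : G} {H K : Subgroup G} :
    conjSg g H ≤ conjSg g K ↔ H ≤ K :=
  Subgroup.pointwise_smul_le_pointwise_smul_iff

private theorem coe_smul_sylow (g : G) (R : Sylow 5 G) :
    ((g • R : Sylow 5 G) : Subgroup G) = conjSg g R := rfl

private theorem mem_conjSg {g x : G} {H : Subgroup G} :
    x ∈ conjSg g H ↔ g⁻¹ * x * g ∈ H := by
  rw [conjSg, Subgroup.mem_pointwise_smul_iff_inv_smul_mem, MulAut.smul_def, ← map_inv,
    MulAut.conj_apply, inv_inv]

private theorem conjSg_eq_self_of_commute {g : G} {H : Subgroup G}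
    (hg : ∀ x ∈ H, g * x = x * g) : conjSg g H = H := by
  ext x
  rw [mem_conjSg]
  constructor
  · intro hx
    have := hg _ hx
    have h2 : g⁻¹ * x * g = x := by
      have h3 : g * (g⁻¹ * x * g) * g⁻¹ = g⁻¹ * x * g := by rw [this, mul_inv_cancel_right]
      rw [← h3]; group
    rwa [h2] at hx
  · intro hx
    rwa [mul_assoc, ← hg x hx, inv_mul_cancel_left]

private theorem card_conjSg (g : G) (H : Subgroup G) : Nat.card (conjSg g H) = Nat.card H :=
  (Nat.card_congr (Subgroup.equivSMul (MulAut.conj g) H).toEquiv).symm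

theorem TwentyOne.inf_eq_bot (h : TwentyOne G) (P Q : Sylow 5 G) (hne : Q ≠ P) :
    (P : Subgroup G) ⊓ Q = ⊥ := by
  classical
  by_contra hbot
  have := Fintype.ofFinite G
  have := Fintype.ofFinite (Sylow 5 G)
  have := Fintype.ofFinite (Subgroup G)
  have hcard : Fintype.card (Sylow 5 G) = 21 := by
    rw [← Nat.card_eq_fintype_card]; exact h.card_eq
  set q := Nat.card ((P : Subgroup G) ⊓ Q : Subgroup G) with hq
  have hP5 : ∀ R : Sylow 5 G, Nat.card (R : Subgroup G) = 5 * q := fun R => by
    rw [R.card_eq_multiplicity, ← P.card_eq_multiplicity]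
    exact h.card_eq_five_mul_inf P Q hne
  have hinf : ∀ R R' : Sylow 5 G, R' ≠ R →
      Nat.card ((R : Subgroup G) ⊓ R' : Subgroup G) = q := fun R R' hR => by
    have := h.card_eq_five_mul_inf R R' hR
    rw [hP5 R] at this
    omega
  have hq1 : 1 < q := (Subgroup.one_lt_card_iff_ne_bot _).mpr hbot
  let F : Subgroup G → Finset (Sylow 5 G) := fun H => Finset.univ.filter fun R => H ≤ ↑R
  let 𝒦 : Subgroup G → Finset (Subgroup G) := fun H => Finset.univ.image fun g => conjSg g H
  let ins : Subgroup G → Finset (Subgroup G) := fun H => (𝒦 H).filter fun K => K ≤ ↑P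
  let outs : Subgroup G → Finset (Subgroup G) := fun H => (𝒦 H).filter fun K => ¬ K ≤ ↑P
  -- a subgroup of order `q` in two Sylow subgroups is their intersection
  have hsame : ∀ (H : Subgroup G) (R R' : Sylow 5 G), Nat.card H = q → H ≤ R → H ≤ R' → R' ≠ R →
      H = (R : Subgroup G) ⊓ R' := fun H R R' hH h1 h2 h3 =>
    Subgroup.eq_of_le_of_card_ge (le_inf h1 h2) (by rw [hH, hinf R R' h3])
  -- conjugates of an intersection lie in equally many Sylow subgroups
  have hFconj : ∀ (g : G) (H : Subgroup G), (F (conjSg g H)).card = (F H).card := by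
    intro g H
    refine (Finset.card_bij' (fun R _ => g • R) (fun R _ => g⁻¹ • R) ?_ ?_ ?_ ?_).symm
    · intro R hR
      simp only [F, Finset.mem_filter, Finset.mem_univ, true_and, coe_smul_sylow] at hR ⊢
      exact conjSg_le_conjSg.mpr hR
    · intro R hR
      simp only [F, Finset.mem_filter, Finset.mem_univ, true_and, coe_smul_sylow] at hR ⊢
      rw [← conjSg_le_conjSg (g := g⁻¹), ← conjSg_mul, inv_mul_cancel, conjSg_one] at hR
      exact hR
    · intro R _; exact inv_smul_smul g R
    · intro R _; exact smul_inv_smul g R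
  -- facts about an intersection `H ≤ P`
  have facts : ∀ H : Subgroup G, (∃ Q' : Sylow 5 G, Q' ≠ P ∧ H = (P : Subgroup G) ⊓ Q') →
      ((ins H).card = 2 ∨ (ins H).card = 4) ∧ 2 * (𝒦 H).card = 7 * (ins H).card := by
    rintro H ⟨Q', hQ', rfl⟩
    set H := (P : Subgroup G) ⊓ Q'
    have hHq : Nat.card H = q := hinf P Q' hQ'
    -- conjugates have order `q`
    have h𝒦 : ∀ K ∈ 𝒦 H, Nat.card K = q ∧ (F K).card = (F H).card := by
      intro K hK
      obtain ⟨g, -, rfl⟩ := Finset.mem_image.mp hK
      exact ⟨(card_conjSg g H).trans hHq, hFconj g H⟩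
    have hPF : ∀ K : Subgroup G, K ≤ ↑P → 5 ∣ ((F K).erase P).card := by
      intro K hK
      refine h.five_dvd_card_invariant P _ (Finset.notMem_erase _ _) fun x hx R hR => ?_
      simp only [F, Finset.mem_erase, Finset.mem_filter, Finset.mem_univ, true_and,
        coe_smul_sylow] at hR ⊢
      refine ⟨fun e => hR.1 ?_, ?_⟩
      · have hxP : x • P = P := (sylow_smul_eq_iff_mem (orderOf_sylow_mem hx) P).mpr hx
        exact MulAction.injective x (e.trans hxP.symm)
      · have := conjSg_le_conjSg (g := x).mpr hR.2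
        rwa [conjSg_eq_self_of_commute fun y hy => h.mul_comm_of_mem hx (hK hy)] at this
    have hPmemF : P ∈ F H := by simp [F, H]
    have hQmemF : Q' ∈ (F H).erase P := by simp [F, H, hQ']
    obtain ⟨m, hm⟩ := hPF H inf_le_left
    have hm0 : 0 < m := by
      have : 0 < ((F H).erase P).card := Finset.card_pos.mpr ⟨Q', hQmemF⟩
      omega
    have hf : (F H).card = 5 * m + 1 := by
      rw [← hm, Finset.card_erase_add_one hPmemF]
    have hf21 : (F H).card ≠ 21 := by
      intro hf21
      apply hbot
      have hall : F H = Finset.univ := Finset.eq_univ_of_card _ (by rw [hf21, hcard])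
      have hH1 : ∀ x ∈ H, x = 1 := fun x hx => h.faithful x fun R => by
        have hR : R ∈ F H := hall ▸ Finset.mem_univ R
        simp only [F, Finset.mem_filter, Finset.mem_univ, true_and] at hR
        exact (sylow_smul_eq_iff_mem (orderOf_sylow_mem (hR hx)) R).mpr (hR hx)
      have hHbot : H = ⊥ := (Subgroup.eq_bot_iff_forall _).mpr hH1
      rw [hHbot, Subgroup.card_bot] at hHq
      omega
    have hfle : (F H).card ≤ 21 := hcard ▸ Finset.card_le_univ _
    -- pairs
    have hc : ∀ R : Sylow 5 G, ((𝒦 H).filter fun K => K ≤ ↑R).card = (ins H).card := by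
      intro R
      obtain ⟨g, rfl⟩ := MulAction.exists_smul_eq G P R
      refine (Finset.card_bij' (fun K _ => conjSg g K) (fun K _ => conjSg g⁻¹ K) ?_ ?_ ?_ ?_).symm
      · intro K hK
        simp only [ins, 𝒦, Finset.mem_filter, Finset.mem_image, Finset.mem_univ, true_and] at hK ⊢
        rw [coe_smul_sylow] at *
        obtain ⟨⟨a, rfl⟩, hK⟩ := hK
        exact ⟨⟨g * a, conjSg_mul g a H⟩, conjSg_le_conjSg.mpr hK⟩
      · intro K hK
        simp only [ins, 𝒦, Finset.mem_filter, Finset.mem_image, Finset.mem_univ, true_and] at hK ⊢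
        rw [coe_smul_sylow] at *
        obtain ⟨⟨a, rfl⟩, hK⟩ := hK
        refine ⟨⟨g⁻¹ * a, conjSg_mul g⁻¹ a H⟩, ?_⟩
        rw [← conjSg_le_conjSg (g := g), ← conjSg_mul, mul_inv_cancel, conjSg_one]
        exact hK
      · intro K _; rw [← conjSg_mul, inv_mul_cancel, conjSg_one]
      · intro K _; rw [← conjSg_mul, mul_inv_cancel, conjSg_one]
    have hdc : (𝒦 H).card * (F H).card = 21 * (ins H).card := by
      have hsum := Finset.sum_card_bipartiteAbove_eq_sum_card_bipartiteBelow
        (r := fun (K : Subgroup G) (R : Sylow 5 G) => K ≤ ↑R) (s := 𝒦 H) (t := Finset.univ)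
      have h1 : ∀ K ∈ 𝒦 H, (Finset.bipartiteAbove (fun (K : Subgroup G) (R : Sylow 5 G) =>
          K ≤ ↑R) Finset.univ K).card = (F H).card := fun K hK => (h𝒦 K hK).2
      have h2 : ∀ R ∈ (Finset.univ : Finset (Sylow 5 G)), (Finset.bipartiteBelow
          (fun (K : Subgroup G) (R : Sylow 5 G) => K ≤ ↑R) (𝒦 H) R).card = (ins H).card :=
        fun R _ => hc R
      rw [Finset.sum_congr rfl h1, Finset.sum_congr rfl h2, Finset.sum_const, Finset.sum_const,
        Finset.card_univ, hcard, smul_eq_mul, smul_eq_mul] at hsum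
      exact hsum
    -- the conjugates inside `P` use disjoint sets of Sylow subgroups
    have hroom : (ins H).card * (5 * m) ≤ 20 := by
      have hdisj : ((ins H : Finset (Subgroup G)) : Set (Subgroup G)).PairwiseDisjoint
          fun K => (F K).erase P := by
        intro K hK K' hK' hKK'
        rw [Function.onFun, Finset.disjoint_left]
        intro R hR hR'
        simp only [F, Finset.mem_erase, Finset.mem_filter, Finset.mem_univ, true_and] at hR hR'
        simp only [ins, Finset.coe_filter, Set.mem_setOf_eq] at hK hK'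
        exact hKK' ((hsame K P R (h𝒦 K hK.1).1 hK.2 hR.2 hR.1).trans
          (hsame K' P R (h𝒦 K' hK'.1).1 hK'.2 hR'.2 hR'.1).symm)
      have hle := Finset.card_le_card (s := (ins H).biUnion fun K => (F K).erase P)
        (t := Finset.univ.erase P) (by
          intro R hR
          simp only [Finset.mem_biUnion, Finset.mem_erase] at hR
          obtain ⟨K, -, hR, -⟩ := hR
          simp [hR])
      rw [Finset.card_biUnion hdisj, Finset.card_erase_of_mem (Finset.mem_univ P),
        Finset.card_univ, hcard] at hle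
      have hterm : ∀ K ∈ ins H, ((F K).erase P).card = 5 * m := by
        intro K hK
        simp only [ins, Finset.mem_filter] at hK
        rw [Finset.card_erase_of_mem (by simp [F, hK.2]), (h𝒦 K hK.1).2, hf, Nat.add_sub_cancel]
      rw [Finset.sum_congr rfl hterm, Finset.sum_const, smul_eq_mul] at hle
      exact hle
    have hc0 : 0 < (ins H).card := Finset.card_pos.mpr ⟨H, by
      simp only [ins, 𝒦, Finset.mem_filter, Finset.mem_image, Finset.mem_univ, true_and]
      exact ⟨⟨1, conjSg_one H⟩, inf_le_left⟩⟩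
    have hm4 : m ≤ 3 := by omega
    rw [hf] at hdc
    have hc4 : (ins H).card ≤ 4 := by
      have : (ins H).card * 5 ≤ (ins H).card * (5 * m) := Nat.mul_le_mul_left _ (by omega)
      omega
    constructor <;> interval_cases m <;> omega
  -- the descent
  have descent : ∀ H : Subgroup G, (∃ Q' : Sylow 5 G, Q' ≠ P ∧ H = (P : Subgroup G) ⊓ Q') →
      ∃ A : Subgroup G, (∃ Q' : Sylow 5 G, Q' ≠ P ∧ A = (P : Subgroup G) ⊓ Q') ∧
        2 * (ins A).card ≤ (ins H).card := by
    intro H hH
    obtain ⟨hc, hK⟩ := facts H hH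
    have hsplit : (ins H).card + (outs H).card = (𝒦 H).card :=
      Finset.card_filter_add_card_filter_not _
    let stab : Subgroup G → Subgroup G := fun K => (P : Subgroup G) ⊓ normalizer (K : Set G)
    have hK𝒦 : ∀ x : G, ∀ K ∈ 𝒦 H, conjSg x K ∈ 𝒦 H := by
      intro x K hK
      obtain ⟨a, -, rfl⟩ := Finset.mem_image.mp hK
      exact Finset.mem_image.mpr ⟨x * a, Finset.mem_univ _, conjSg_mul x a H⟩
    have houts : ∀ n ∈ normalizer ((P : Subgroup G) : Set G), ∀ K ∈ outs H,
        conjSg n K ∈ outs H := by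
      intro n hn K hK
      simp only [outs, Finset.mem_filter] at hK ⊢
      refine ⟨hK𝒦 n K hK.1, fun hle => hK.2 ?_⟩
      have hnP : conjSg n (P : Subgroup G) = P := by
        rw [← coe_smul_sylow, Sylow.smul_eq_iff_mem_normalizer.mpr hn]
      rw [← hnP, conjSg_le_conjSg] at hle
      exact hle
    have hmemstab : ∀ (K : Subgroup G) (y : G),
        y ∈ normalizer (K : Set G) ↔ conjSg y K = K := by
      intro K y
      constructor
      · intro hy
        ext x
        rw [mem_conjSg]
        exact (Subgroup.mem_normalizer_iff''.mp hy x).symm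
      · intro hy
        rw [Subgroup.mem_normalizer_iff'']
        intro x
        rw [← mem_conjSg, hy]
    have hfib : ∀ K ∈ outs H, stab K ∈ (outs H).image stab ∧
        5 ≤ ((outs H).filter fun K' => stab K' = stab K).card ∧
        ∃ Q' : Sylow 5 G, Q' ≠ P ∧ stab K = (P : Subgroup G) ⊓ Q' := by
      intro K hKout
      refine ⟨Finset.mem_image_of_mem _ hKout, ?_⟩
      have hKout' := hKout
      simp only [outs, Finset.mem_filter] at hKout'
      obtain ⟨g, -, hg⟩ := Finset.mem_image.mp hKout'.1
      -- `K` and its stabiliser generate a `5`-group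
      have hKp : IsPGroup 5 K := by
        obtain ⟨Q', -, rfl⟩ := hH
        have : K ≤ ((g • P : Sylow 5 G) : Subgroup G) := by
          rw [coe_smul_sylow, ← hg, conjSg_le_conjSg]; exact inf_le_left
        exact (g • P).isPGroup'.to_le this
      have hAp : IsPGroup 5 (stab K) := P.isPGroup'.to_le inf_le_left
      obtain ⟨Q', hQ'⟩ := (hAp.to_sup_of_normal_right' hKp inf_le_right).exists_le_sylow
      have hQ'P : Q' ≠ P := fun e => hKout'.2 (e ▸ le_sup_right.trans hQ')
      have hAle : stab K ≤ (P : Subgroup G) ⊓ Q' := le_inf inf_le_left (le_sup_left.trans hQ')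
      obtain ⟨r, hr⟩ := Subgroup.card_dvd_of_le hAle
      rw [hinf P Q' hQ'P] at hr
      set I := (stab K).subgroupOf (P : Subgroup G)
      have hI : Nat.card I * I.index = 5 * q := by rw [Subgroup.card_mul_index, hP5]
      rw [Nat.card_congr (Subgroup.subgroupOfEquivOfLe (show stab K ≤ ↑P from inf_le_left)).toEquiv,
        hr, ← mul_assoc, mul_comm 5, mul_assoc] at hI
      have hidx : I.index = 5 * r := Nat.eq_of_mul_eq_mul_left Nat.card_pos hI
      have hle : I.index ≤ ((outs H).filter fun K' => stab K' = stab K).card := by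
        rw [Subgroup.index_eq_card, ← Nat.card_eq_finsetCard]
        refine Nat.card_le_card_of_injective
          (fun x => ⟨conjSg ((x.out : (P : Subgroup G)) : G) K, Finset.mem_filter.mpr ⟨?_, ?_⟩⟩) ?_
        · exact houts _ (le_normalizer x.out.2) K hKout
        · set y : G := ((x.out : (P : Subgroup G)) : G)
          have hy : y ∈ (P : Subgroup G) := x.out.2
          ext z
          simp only [stab, Subgroup.mem_inf, hmemstab]
          refine and_congr_right fun hz => ?_
          rw [← conjSg_mul, h.mul_comm_of_mem hz hy, conjSg_mul]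
          constructor
          · intro e
            have := congrArg (conjSg y⁻¹) e
            rwa [← conjSg_mul, ← conjSg_mul y⁻¹ y, inv_mul_cancel, conjSg_one, conjSg_one] at this
          · intro e; rw [e]
        · intro a b hab
          have hab' : conjSg ((a.out : (P : Subgroup G)) : G) K =
              conjSg ((b.out : (P : Subgroup G)) : G) K := congrArg Subtype.val hab
          rw [← QuotientGroup.out_eq' a, ← QuotientGroup.out_eq' b, QuotientGroup.eq,
            Subgroup.mem_subgroupOf, Subgroup.coe_mul, Subgroup.coe_inv]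
          refine ⟨(P : Subgroup G).mul_mem ((P : Subgroup G).inv_mem a.out.2) b.out.2, (hmemstab _ _).mpr ?_⟩
          rw [conjSg_mul, ← hab', ← conjSg_mul, inv_mul_cancel, conjSg_one]
      have hfl : ((outs H).filter fun K' => stab K' = stab K).card ≤ (outs H).card :=
        Finset.card_filter_le _ _
      have hr1 : r = 1 := by
        have hr0 : r ≠ 0 := by rintro rfl; rw [mul_zero] at hr; omega
        have hr2 : r ≤ 2 := by omega
        have hodd : ¬ 2 ∣ r := by
          intro h2
          have h3 : 2 ∣ q := h2.trans (hr ▸ dvd_mul_left _ _)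
          obtain ⟨k, hk⟩ := P.isPGroup'.exists_card_eq
          rw [hP5 P] at hk
          have h4 : 2 ∣ 5 ^ k := hk ▸ h3.mul_left 5
          have := Nat.prime_two.dvd_of_dvd_pow h4
          omega
        omega
      subst hr1
      refine ⟨by omega, Q', hQ'P, ?_⟩
      exact Subgroup.eq_of_le_of_card_ge hAle (by rw [hinf P Q' hQ'P]; omega)
    obtain ⟨K₀, hK₀⟩ : (outs H).Nonempty := Finset.card_pos.mp (by omega)
    obtain ⟨-, -, hA⟩ := hfib K₀ hK₀
    refine ⟨stab K₀, hA, ?_⟩
    have himg : ins (stab K₀) ⊆ (outs H).image stab := by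
      intro A' hA'
      simp only [ins, 𝒦, Finset.mem_filter, Finset.mem_image, Finset.mem_univ, true_and] at hA'
      obtain ⟨⟨g, rfl⟩, hle⟩ := hA'
      set A' := conjSg g (stab K₀)
      have h1 : (P : Subgroup G) ≤ centralizer (A' : Set G) := fun y hy =>
        Subgroup.mem_centralizer_iff.mpr fun z hz => h.mul_comm_of_mem (hle hz) hy
      have h2 : ((g • P : Sylow 5 G) : Subgroup G) ≤ centralizer (A' : Set G) := fun y hy =>
        Subgroup.mem_centralizer_iff.mpr fun z hz => h.mul_comm_of_mem (P := g • P)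
          (by rw [coe_smul_sylow]; exact conjSg_le_conjSg.mpr inf_le_left hz) hy
      obtain ⟨w, hw⟩ := MulAction.exists_smul_eq (centralizer (A' : Set G))
        ((g • P).subtype h2) (P.subtype h1)
      simp_rw [Sylow.smul_subtype, Subgroup.smul_def, smul_smul] at hw
      have hn : (w : G) * g ∈ normalizer ((P : Subgroup G) : Set G) :=
        Sylow.smul_eq_iff_mem_normalizer.mp (Sylow.subtype_injective hw)
      refine Finset.mem_image.mpr ⟨conjSg (w * g) K₀, houts _ hn K₀ hK₀, ?_⟩
      have hA'eq : conjSg (w * g) (stab K₀) = A' := by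
        rw [conjSg_mul]
        exact conjSg_eq_self_of_commute fun x hx =>
          (Subgroup.mem_centralizer_iff.mp w.2 x hx).symm
      refine Eq.trans ?_ hA'eq
      have hnP : conjSg ((w : G) * g) (P : Subgroup G) = P := by
        rw [← coe_smul_sylow, Sylow.smul_eq_iff_mem_normalizer.mpr hn]
      set n := (w : G) * g
      ext z
      simp only [stab, Subgroup.mem_inf, hmemstab, mem_conjSg (g := n)]
      refine and_congr ?_ ?_
      · rw [← mem_conjSg, hnP]
      · rw [show n⁻¹ * z * n = n⁻¹ * (z * n) from mul_assoc _ _ _, conjSg_mul n⁻¹, conjSg_mul z n]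
        constructor
        · intro e; rw [e, ← conjSg_mul, inv_mul_cancel, conjSg_one]
        · intro e
          have := congrArg (conjSg n) e
          rwa [← conjSg_mul, mul_inv_cancel, conjSg_one] at this
    have hmul : 5 * ((outs H).image stab).card ≤ (outs H).card := by
      rw [Finset.card_eq_sum_card_image stab (outs H), mul_comm, ← smul_eq_mul, ← Finset.sum_const]
      refine Finset.sum_le_sum fun A hA => ?_
      obtain ⟨K, hK, rfl⟩ := Finset.mem_image.mp hA
      exact (hfib K hK).2.1
    have := Finset.card_le_card himg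
    omega
  obtain ⟨A, hA, hA2⟩ := descent _ ⟨Q, hne, rfl⟩
  obtain ⟨B, hB, hB2⟩ := descent A hA
  obtain ⟨h1, -⟩ := facts _ ⟨Q, hne, rfl⟩
  obtain ⟨h2, -⟩ := facts A hA
  obtain ⟨h3, -⟩ := facts B hB
  omega

theorem TwentyOne.card_sylow_eq_five (h : TwentyOne G) (P : Sylow 5 G) :
    Nat.card (P : Subgroup G) = 5 := by
  obtain ⟨Q, hQ⟩ : ∃ Q : Sylow 5 G, Q ≠ P := by
    by_contra! hall
    haveI : Subsingleton (Sylow 5 G) := ⟨fun A B => (hall A).trans (hall B).symm⟩
    have := h.card_eq
    rw [Nat.card_unique (α := Sylow 5 G)] at this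
    omega
  rw [h.card_eq_five_mul_inf P Q hQ, h.inf_eq_bot P Q hQ, Subgroup.card_bot]

end H3
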