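import Mathlib.GroupTheory.Sylow
import Mathlib.GroupTheory.Perm.Cycle.Type
import Mathlib.GroupTheory.Subgroup.Simple
import Mathlib.Algebra.Group.Subgroup.Pointwise
import Mathlib.Combinatorics.Enumerative.DoubleCounting
import Cfsg.Agent.H3.SylowFiveBig

/-!
Counting tools for groups with a small number of Sylow subgroups.
-/

set_option autoImplicit false

namespace H3

open Subgroup
open scoped Pointwise

universe u

variable {G : Type u} [Group G]

/-- Conjugate subgroup. -/
def conjBy (g : G) (H : Subgroup G) : Subgroup G := MulAut.conj g • H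

theorem conjBy_mul (g k : G) (H : Subgroup G) :
    conjBy (g * k) H = conjBy g (conjBy k H) := by
  simp only [conjBy, map_mul, mul_smul]

theorem conjBy_one (H : Subgroup G) : conjBy 1 H = H := by
  simp only [conjBy, map_one, one_smul]

theorem conjBy_le_conjBy {g : G} {H K : Subgroup G} : conjBy g H ≤ conjBy g K ↔ H ≤ K :=
  Subgroup.pointwise_smul_le_pointwise_smul_iff

theorem mem_conjBy {g x : G} {H : Subgroup G} : x ∈ conjBy g H ↔ g⁻¹ * x * g ∈ H := by
  rw [conjBy, Subgroup.mem_pointwise_smul_iff_inv_smul_mem, MulAut.smul_def, ← map_inv,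
    MulAut.conj_apply, inv_inv]

theorem conjBy_inf (g : G) (H K : Subgroup G) : conjBy g (H ⊓ K) = conjBy g H ⊓ conjBy g K :=
  Subgroup.smul_inf _ _ _

theorem card_conjBy (g : G) (H : Subgroup G) : Nat.card (conjBy g H) = Nat.card H :=
  (Nat.card_congr (Subgroup.equivSMul (MulAut.conj g) H).toEquiv).symm

theorem coe_sylow_smul {p : ℕ} (g : G) (R : Sylow p G) :
    ((g • R : Sylow p G) : Subgroup G) = conjBy g R := rfl

theorem conjBy_eq_self {g : G} {H : Subgroup G} (h : g ∈ normalizer (H : Set G)) :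
    conjBy g H = H := by
  ext x
  rw [mem_conjBy]
  exact (Subgroup.mem_normalizer_iff''.mp h x).symm

theorem mem_normalizer_of_conjBy_eq {g : G} {H : Subgroup G} (h : conjBy g H = H) :
    g ∈ normalizer (H : Set G) := by
  rw [Subgroup.mem_normalizer_iff'']
  intro x
  rw [← mem_conjBy, h]

variable [Finite G] {p : ℕ} [Fact p.Prime]

/-- The orbit of a Sylow subgroup under a subgroup of another one. -/
theorem card_orbit_mul_inf {H : Subgroup G} {P : Sylow p G} (hH : H ≤ P) (Q : Sylow p G) :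
    Nat.card (MulAction.orbit H Q) * Nat.card (H ⊓ Q : Subgroup G) = Nat.card H := by
  have hmap : (MulAction.stabilizer H Q).map H.subtype = H ⊓ Q := by
    ext x
    constructor
    · rintro ⟨y, hy, rfl⟩
      exact ⟨y.2, (sylow_smul_eq_iff_mem (orderOf_sylow_mem (hH y.2)) Q).mp hy⟩
    · rintro ⟨hxH, hxQ⟩
      exact ⟨⟨x, hxH⟩, (sylow_smul_eq_iff_mem (orderOf_sylow_mem (hH hxH)) Q).mpr hxQ, rfl⟩
  rw [← hmap, Subgroup.card_map_of_injective H.subtype_injective,
    Nat.card_congr (MulAction.orbitEquivQuotientStabilizer _ Q),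
    ← Subgroup.card_eq_card_quotient_mul_card_subgroup]

theorem sylow_not_mem_orbit {P R : Sylow p G} (hR : R ≠ P) :
    P ∉ MulAction.orbit (P : Subgroup G) R := by
  rintro ⟨x, hx⟩
  have hxP : (x : G) • P = P := (sylow_smul_eq_iff_mem (orderOf_sylow_mem x.2) P).mpr x.2
  exact hR (MulAction.injective (x : G) ((hx : (x : G) • R = P).trans hxP.symm))

theorem dvd_card_orbit {P R : Sylow p G} (hR : R ≠ P) :
    p ∣ Nat.card (MulAction.orbit (P : Subgroup G) R) := by
  obtain ⟨k, hk⟩ := P.isPGroup'.card_orbit R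
  rw [hk]
  refine dvd_pow_self p ?_
  rintro rfl
  rw [pow_zero, Nat.card_eq_one_iff_unique] at hk
  haveI := hk.1
  have hall : ∀ x ∈ (P : Subgroup G), x • R = R := fun x hx =>
    congrArg Subtype.val (Subsingleton.elim
      (⟨x • R, ⟨⟨x, hx⟩, rfl⟩⟩ : MulAction.orbit (P : Subgroup G) R)
      ⟨R, MulAction.mem_orbit_self R⟩)
  exact hR (Sylow.ext (P.is_maximal' R.isPGroup'
    fun x hx => (sylow_smul_eq_iff_mem (orderOf_sylow_mem hx) R).mp (hall x hx)))

/-- A set of Sylow subgroups invariant under `P` is a union of orbits. -/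
theorem dvd_card_invariant (P : Sylow p G) (s : Finset (Sylow p G)) (m : ℕ)
    (hinv : ∀ x ∈ (P : Subgroup G), ∀ R ∈ s, x • R ∈ s)
    (hm : ∀ R ∈ s, m ∣ Nat.card (MulAction.orbit (P : Subgroup G) R)) : m ∣ s.card := by
  classical
  rw [Finset.card_eq_sum_card_image (fun R => MulAction.orbit (P : Subgroup G) R) s]
  refine Finset.dvd_sum fun O hO => ?_
  obtain ⟨R, hR, rfl⟩ := Finset.mem_image.mp hO
  have heq : ((s.filter fun a => MulAction.orbit (P : Subgroup G) a =
      MulAction.orbit (P : Subgroup G) R : Finset (Sylow p G)) : Set (Sylow p G)) =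
      MulAction.orbit (P : Subgroup G) R := by
    ext a
    simp only [Finset.coe_filter, MulAction.orbit_eq_iff, Set.mem_ofPred_eq]
    refine ⟨fun ha => ha.2, fun ha => ⟨?_, ha⟩⟩
    obtain ⟨x, rfl⟩ := ha
    exact hinv x x.2 R hR
  rw [← Set.ncard_coe_finset, heq, ← Nat.card_coe_set_eq]
  exact hm R hR

theorem dvd_card_invariant_of_not_mem (P : Sylow p G) (s : Finset (Sylow p G)) (hP : P ∉ s)
    (hinv : ∀ x ∈ (P : Subgroup G), ∀ R ∈ s, x • R ∈ s) : p ∣ s.card :=
  dvd_card_invariant P s p hinv fun _ hR => dvd_card_orbit fun e => hP (e ▸ hR)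

open Classical in
/-- Conjugates of `H` in `P` against Sylow subgroups containing `H`. -/
theorem conjugate_count [Fintype G] [Fintype (Sylow p G)] (H : Subgroup G) (P : Sylow p G) :
    (Finset.univ.image fun g => conjBy g H).card *
      (Finset.univ.filter fun R : Sylow p G => H ≤ ↑R).card =
    Fintype.card (Sylow p G) *
      ((Finset.univ.image fun g => conjBy g H).filter fun K => K ≤ ↑P).card := by
  set 𝒦 := Finset.univ.image fun g => conjBy g H
  have hF : ∀ g : G, (Finset.univ.filter fun R : Sylow p G => conjBy g H ≤ ↑R).card =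
      (Finset.univ.filter fun R : Sylow p G => H ≤ ↑R).card := by
    intro g
    refine (Finset.card_bij' (fun R _ => g • R) (fun R _ => g⁻¹ • R) ?_ ?_ ?_ ?_).symm
    · intro R hR
      simp only [Finset.mem_filter, Finset.mem_univ, true_and, coe_sylow_smul] at hR ⊢
      exact conjBy_le_conjBy.mpr hR
    · intro R hR
      simp only [Finset.mem_filter, Finset.mem_univ, true_and, coe_sylow_smul] at hR ⊢
      rw [← conjBy_le_conjBy (g := g⁻¹), ← conjBy_mul, inv_mul_cancel, conjBy_one] at hR
      exact hR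
    · intro R _; exact inv_smul_smul g R
    · intro R _; exact smul_inv_smul g R
  have hK : ∀ g : G, ∀ K ∈ 𝒦, conjBy g K ∈ 𝒦 := by
    intro g K hK
    obtain ⟨a, -, rfl⟩ := Finset.mem_image.mp hK
    exact Finset.mem_image.mpr ⟨g * a, Finset.mem_univ _, conjBy_mul g a H⟩
  have hc : ∀ R : Sylow p G, (𝒦.filter fun K => K ≤ ↑R).card =
      (𝒦.filter fun K => K ≤ ↑P).card := by
    intro R
    obtain ⟨g, rfl⟩ := MulAction.exists_smul_eq G P R
    refine (Finset.card_bij' (fun K _ => conjBy g K) (fun K _ => conjBy g⁻¹ K) ?_ ?_ ?_ ?_).symm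
    · intro K h
      simp only [Finset.mem_filter] at h ⊢
      rw [coe_sylow_smul]
      exact ⟨hK g K h.1, conjBy_le_conjBy.mpr h.2⟩
    · intro K h
      simp only [Finset.mem_filter] at h ⊢
      rw [coe_sylow_smul] at h
      refine ⟨hK g⁻¹ K h.1, ?_⟩
      rw [← conjBy_le_conjBy (g := g), ← conjBy_mul, mul_inv_cancel, conjBy_one]
      exact h.2
    · intro K _; rw [← conjBy_mul, inv_mul_cancel, conjBy_one]
    · intro K _; rw [← conjBy_mul, mul_inv_cancel, conjBy_one]
  have hsum := Finset.sum_card_bipartiteAbove_eq_sum_card_bipartiteBelow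
    (r := fun (K : Subgroup G) (R : Sylow p G) => K ≤ ↑R) (s := 𝒦) (t := Finset.univ)
  have h1 : ∀ K ∈ 𝒦, (Finset.bipartiteAbove (fun (K : Subgroup G) (R : Sylow p G) =>
      K ≤ ↑R) Finset.univ K).card = (Finset.univ.filter fun R : Sylow p G => H ≤ ↑R).card := by
    intro K hK'
    obtain ⟨a, -, rfl⟩ := Finset.mem_image.mp hK'
    exact hF a
  have h2 : ∀ R ∈ (Finset.univ : Finset (Sylow p G)), (Finset.bipartiteBelow
      (fun (K : Subgroup G) (R : Sylow p G) => K ≤ ↑R) 𝒦 R).card =
      (𝒦.filter fun K => K ≤ ↑P).card := fun R _ => hc R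
  rw [Finset.sum_congr rfl h1, Finset.sum_congr rfl h2, Finset.sum_const, Finset.sum_const,
    Finset.card_univ, smul_eq_mul, smul_eq_mul] at hsum
  exact hsum

omit [Finite G] [Fact p.Prime] in
/-- The permutations induced by a subgroup on an invariant finite set. -/
def invariantPermHom {X : Type*} (C : Subgroup G) (act : G → X → X) (h1 : ∀ a, act 1 a = a)
    (hmul : ∀ g k a, act (g * k) a = act g (act k a)) (T : Finset X)
    (hT : ∀ c ∈ C, ∀ a ∈ T, act c a ∈ T) : C →* Equiv.Perm T :=
  MonoidHom.mk'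
    (fun c => ⟨fun a => ⟨act c a, hT c c.2 a a.2⟩, fun a => ⟨act (c : G)⁻¹ a, hT _ (inv_mem c.2) a a.2⟩,
      fun a => Subtype.ext (by
        show act (c : G)⁻¹ (act c a) = a
        rw [← hmul, inv_mul_cancel, h1]),
      fun a => Subtype.ext (by
        show act (c : G) (act (c : G)⁻¹ a) = a
        rw [← hmul, mul_inv_cancel, h1])⟩)
    (fun c d => Equiv.ext fun a => Subtype.ext (hmul c d a))

omit [Finite G] [Fact p.Prime] in
theorem invariantPermHom_apply {X : Type*} (C : Subgroup G) (act : G → X → X)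
    (h1 : ∀ a, act 1 a = a) (hmul : ∀ g k a, act (g * k) a = act g (act k a)) (T : Finset X)
    (hT : ∀ c ∈ C, ∀ a ∈ T, act c a ∈ T) (c : C) (a : T) :
    ((invariantPermHom C act h1 hmul T hT c a : T) : X) = act c a := rfl

omit [Fact p.Prime] in
/-- In a simple group with more than two elements every permutation representation is even. -/
theorem sign_toPermHom_eq_one [IsSimpleGroup G] {X : Type*} [Fintype X] [DecidableEq X]
    [MulAction G X] (hG : 2 < Nat.card G) (g : G) :
    Equiv.Perm.sign (MulAction.toPermHom G X g) = 1 := by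
  set f := Equiv.Perm.sign.comp (MulAction.toPermHom G X)
  rcases (MonoidHom.normal_ker f).eq_bot_or_eq_top with hk | hk
  · exfalso
    have hinj := Nat.card_le_card_of_injective _ ((MonoidHom.ker_eq_bot_iff f).mp hk)
    rw [Nat.card_eq_fintype_card (α := ℤˣ), Fintype.card_units_int] at hinj
    omega
  · exact MonoidHom.mem_ker.mp (hk ▸ mem_top g : g ∈ f.ker)

omit [Fact p.Prime] in
/-- A subgroup of a finite symmetric group containing a Sylow `2`-subgroup contains a swap. -/
theorem exists_isSwap_mem {α : Type*} [Fintype α] [DecidableEq α] (hα : 1 < Fintype.card α)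
    (D : Subgroup (Equiv.Perm α))
    (hD : 2 ^ (Nat.card (Equiv.Perm α)).factorization 2 ∣ Nat.card D) :
    ∃ σ ∈ D, Equiv.Perm.IsSwap σ := by
  haveI := Fact.mk Nat.prime_two
  obtain ⟨K, hK⟩ := Sylow.exists_subgroup_card_pow_prime 2 hD
  set Q : Sylow 2 (Equiv.Perm α) := Sylow.ofCard (K.map D.subtype)
    (by rw [Subgroup.card_map_of_injective D.subtype_injective, hK])
  obtain ⟨a, b, hab⟩ := Fintype.exists_pair_of_one_lt_card hα
  have hsw : IsPGroup 2 (zpowers (Equiv.swap a b)) := IsPGroup.of_card (n := 1) (by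
    rw [Nat.card_zpowers, pow_one]
    exact orderOf_eq_prime (by rw [sq, Equiv.swap_mul_self]) (by
      intro h
      exact hab (by simpa using (Equiv.ext_iff.mp h a).symm)))
  obtain ⟨Q', hQ'⟩ := hsw.exists_le_sylow
  obtain ⟨g, hg⟩ := MulAction.exists_smul_eq (Equiv.Perm α) Q' Q
  refine ⟨Equiv.swap (g a) (g b), ?_, g a, g b, g.injective.ne hab, rfl⟩
  have hmem : g * Equiv.swap a b * g⁻¹ ∈ (Q : Subgroup (Equiv.Perm α)) := by
    rw [← hg, coe_sylow_smul, mem_conjBy]
    simpa [mul_assoc] using hQ' (mem_zpowers _)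
  rw [Equiv.mul_swap_eq_swap_mul, mul_inv_cancel_right] at hmem
  obtain ⟨y, -, hy⟩ := hmem
  exact hy ▸ y.2

omit [Fact p.Prime] in
theorem prime_dvd_card_support {α : Type*} [Fintype α] [DecidableEq α] {σ : Equiv.Perm α}
    {q : ℕ} (hq : q.Prime) (hσ : σ ^ q = 1) : q ∣ σ.support.card := by
  haveI := Fact.mk hq
  by_cases h1 : σ = 1
  · simp [h1]
  have ho : orderOf σ = q := orderOf_eq_prime hσ h1
  obtain ⟨n, hn⟩ := Equiv.Perm.cycleType_prime_order (σ := σ) (ho ▸ hq)
  have hs := σ.sum_cycleType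
  rw [hn, Multiset.sum_replicate, ho, smul_eq_mul] at hs
  exact hs ▸ dvd_mul_left q _

end H3
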