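import Mathlib.GroupTheory.Transfer
import Mathlib.GroupTheory.Perm.Sign
import Mathlib.GroupTheory.Perm.Option
import Mathlib.GroupTheory.GroupAction.Blocks
import Mathlib.GroupTheory.Subgroup.Simple
import Mathlib.RingTheory.IntegralDomain
import Mathlib.Algebra.Field.ZMod
import Mathlib.Data.Nat.Totient
import Cfsg.Agent.H3.SylowFiveBig

/-!
No finite group has exactly twenty-one Sylow `5`-subgroups.

In a minimal counterexample the Sylow `5`-subgroup has order five and the group is simple.  A
Sylow `2`-subgroup fixes a point; since all permutations are even it is abelian, and an element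
of it centralising the Sylow `5`-subgroup fixes only that point, so the transfer to the
automorphisms of the Sylow `5`-subgroup is nontrivial.
-/

set_option autoImplicit false

namespace H3

open Subgroup
open scoped commutatorElement

universe u

variable {G : Type u} [Group G] [Finite G]

local instance fivePrimeFact' : Fact (Nat.Prime 5) := ⟨by norm_num⟩
local instance twoPrimeFact' : Fact (Nat.Prime 2) := ⟨Nat.prime_two⟩

private theorem even_perm_four :
    ∀ σ : Equiv.Perm (Fin 4), Equiv.Perm.sign σ = 1 → σ ^ 2 = 1 ∨ σ ^ 3 = 1 := by decide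

private theorem even_involution_four :
    ∀ σ : Equiv.Perm (Fin 4), Equiv.Perm.sign σ = 1 → σ ^ 2 = 1 → σ ≠ 1 → ∀ i, σ i ≠ i := by
  decide

theorem TwentyOne.false_of_simple [IsSimpleGroup G] (h : TwentyOne G) : False := by
  classical
  have := Fintype.ofFinite G
  have := Fintype.ofFinite (Sylow 5 G)
  have hcard : Fintype.card (Sylow 5 G) = 21 := by
    rw [← Nat.card_eq_fintype_card]; exact h.card_eq
  -- a Sylow 2-subgroup fixing a point
  obtain ⟨S⟩ : Nonempty (Sylow 2 G) := inferInstance
  obtain ⟨P, hSP⟩ : ∃ P : Sylow 5 G, ∀ s ∈ (S : Subgroup G), s • P = P := by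
    have hmod := S.isPGroup'.card_modEq_card_fixedPoints (Sylow 5 G)
    rw [h.card_eq] at hmod
    have hne : Nat.card (MulAction.fixedPoints (S : Subgroup G) (Sylow 5 G)) ≠ 0 := by
      intro h0; rw [h0] at hmod; exact absurd hmod (by decide)
    obtain ⟨⟨P, hP⟩⟩ := (Nat.card_ne_zero.mp hne).1
    exact ⟨P, fun s hs => hP ⟨s, hs⟩⟩
  set N := normalizer ((P : Subgroup G) : Set G)
  have hSN : (S : Subgroup G) ≤ N := fun s hs => Sylow.smul_eq_iff_mem_normalizer.mp (hSP s hs)
  -- a generator
  have hP5 := h.card_sylow_eq_five P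
  obtain ⟨xP, hxP⟩ := exists_prime_orderOf_dvd_card' (G := (P : Subgroup G)) 5 (by rw [hP5])
  set x : G := (xP : G)
  have hx : orderOf x = 5 := (orderOf_coe xP).trans hxP
  have hzp : zpowers x = (P : Subgroup G) :=
    Subgroup.eq_of_le_of_card_ge (zpowers_le.mpr xP.2) (by rw [Nat.card_zpowers, hx, hP5])
  have hsimp : ∀ M : Subgroup G, M.Normal → M = ⊥ ∨ M = ⊤ := fun M hM => hM.eq_bot_or_eq_top
  have hbig : 21 ≤ Nat.card G := by
    rw [← h.card_eq]
    exact Nat.card_le_card_of_surjective (fun g : G => g • P)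
      fun Q => MulAction.exists_smul_eq G P Q
  -- all permutations are even
  set φ := MulAction.toPermHom G (Sylow 5 G)
  have heven : ∀ g : G, Equiv.Perm.sign (φ g) = 1 := by
    intro g
    rcases hsimp (Equiv.Perm.sign.comp φ).ker inferInstance with hk | hk
    · exfalso
      have hinj := Nat.card_le_card_of_injective _ ((MonoidHom.ker_eq_bot_iff _).mp hk)
      rw [Nat.card_eq_fintype_card (α := ℤˣ), Fintype.card_units_int] at hinj
      omega
    · exact MonoidHom.mem_ker.mp (hk ▸ mem_top g : g ∈ (Equiv.Perm.sign.comp φ).ker)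
  -- powers of the generator
  let pw : ZMod 5 → G := fun t => x ^ t.val
  have hpw : ∀ (t : ZMod 5) (k : ℕ), x ^ k = pw t ↔ ((k : ZMod 5) = t) := by
    intro t k
    show x ^ k = x ^ t.val ↔ _
    rw [pow_eq_pow_iff_modEq, hx, ← ZMod.natCast_eq_natCast_iff, ZMod.natCast_zmod_val]
  have hpw_add : ∀ t u, pw (t + u) = pw t * pw u := by
    intro t u
    show pw (t + u) = x ^ t.val * x ^ u.val
    rw [← pow_add, eq_comm, hpw, Nat.cast_add, ZMod.natCast_zmod_val, ZMod.natCast_zmod_val]
  have hpw_mem : ∀ t, pw t ∈ (P : Subgroup G) := fun t => pow_mem xP.2 _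
  have hpw_inj : Function.Injective pw := by
    intro t u e
    have := (hpw u t.val).mp e
    rwa [ZMod.natCast_zmod_val] at this
  have hpw_zero : pw 0 = 1 := by simp [pw]
  have hmemP : ∀ y ∈ (P : Subgroup G), ∃ t, y = pw t := by
    intro y hy
    rw [← hzp, mem_zpowers_iff] at hy
    obtain ⟨k, rfl⟩ := hy
    obtain ⟨j, hj⟩ : ∃ j : ℕ, x ^ j = x ^ k := by
      refine ⟨(k % 5).toNat, ?_⟩
      rw [← zpow_natCast, Int.toNat_of_nonneg (Int.emod_nonneg _ (by norm_num)),
        ← zpow_mod_orderOf x k, hx]
      norm_num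
    exact ⟨j, hj.symm.trans ((hpw _ j).mpr rfl)⟩
  have hPP : ∀ t, pw t • P = P := fun t =>
    (sylow_smul_eq_iff_mem (orderOf_sylow_mem (hpw_mem t)) P).mpr (hpw_mem t)
  -- coordinates
  let orb : Sylow 5 G → Set (Sylow 5 G) := fun R => MulAction.orbit (P : Subgroup G) R
  have hfree : ∀ R, R ≠ P → ∀ t, pw t • R = R → t = 0 := by
    intro R hR t ht
    apply hpw_inj
    rw [hpw_zero, ← Subgroup.mem_bot, ← h.inf_eq_bot P R hR]
    exact ⟨hpw_mem t, (sylow_smul_eq_iff_mem (orderOf_sylow_mem (hpw_mem t)) R).mp ht⟩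
  set T := (Finset.univ.erase P).image orb
  have hT : T.card = 4 := by
    have hsum := Finset.card_eq_sum_card_image orb (Finset.univ.erase P)
    have hfib : ∀ O ∈ T, ((Finset.univ.erase P).filter fun a => orb a = O).card = 5 := by
      intro O hO
      obtain ⟨R, hR, rfl⟩ := Finset.mem_image.mp hO
      have hRP : R ≠ P := Finset.ne_of_mem_erase hR
      have heq : (((Finset.univ.erase P).filter fun a => orb a = orb R : Finset (Sylow 5 G)) :
          Set (Sylow 5 G)) = orb R := by
        ext a
        simp only [orb, Finset.coe_filter, Finset.mem_erase, Finset.mem_univ, and_true,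
          MulAction.orbit_eq_iff, Set.mem_ofPred_eq]
        refine ⟨fun ha => ha.2, fun ha => ⟨?_, ha⟩⟩
        rintro rfl
        obtain ⟨y, hy⟩ := ha
        have hyP : (y : G) • a = a :=
          (sylow_smul_eq_iff_mem (orderOf_sylow_mem y.2) a).mpr y.2
        exact hRP (MulAction.injective (y : G) ((hy : (y : G) • R = a).trans hyP.symm))
      rw [← Set.ncard_coe_finset, heq, ← Nat.card_coe_set_eq]
      exact h.card_orbit P R hRP
    rw [Finset.sum_congr rfl hfib, Finset.sum_const, smul_eq_mul,
      Finset.card_erase_of_mem (Finset.mem_univ P), Finset.card_univ, hcard] at hsum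
    omega
  let ε : Fin 4 ≃ T := (T.equivFinOfCardEq hT).symm
  have hrep : ∀ i : Fin 4, ∃ R, R ≠ P ∧ orb R = (ε i : Set (Sylow 5 G)) := by
    intro i
    obtain ⟨R, hR, hRe⟩ := Finset.mem_image.mp (ε i).2
    exact ⟨R, Finset.ne_of_mem_erase hR, hRe⟩
  choose r hrP hr using hrep
  let f : Option (Fin 4 × ZMod 5) → Sylow 5 G := fun o => o.elim P fun it => pw it.2 • r it.1
  have hne_none : ∀ i t, pw t • r i ≠ P := fun i t e =>
    hrP i (MulAction.injective (pw t) (e.trans (hPP t).symm))
  have hinj : Function.Injective f := by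
    rintro (_ | ⟨i, t⟩) (_ | ⟨j, u⟩) e
    · rfl
    · exact absurd e.symm (hne_none j u)
    · exact absurd e (hne_none i t)
    · have e' : pw t • r i = pw u • r j := e
      have horb : orb (r i) = orb (r j) := by
        show MulAction.orbit (P : Subgroup G) (r i) = MulAction.orbit (P : Subgroup G) (r j)
        rw [← MulAction.orbit_smul (⟨pw t, hpw_mem t⟩ : (P : Subgroup G)) (r i),
          ← MulAction.orbit_smul (⟨pw u, hpw_mem u⟩ : (P : Subgroup G)) (r j)]
        exact congrArg (MulAction.orbit (P : Subgroup G)) e'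
      rw [hr, hr] at horb
      have hij : i = j := ε.injective (Subtype.ext horb)
      subst hij
      have h0 := hfree (r i) (hrP i) (t - u) (by
        apply MulAction.injective (pw u)
        show pw u • pw (t - u) • r i = pw u • r i
        rw [← mul_smul, ← hpw_add, add_sub_cancel, e'])
      rw [sub_eq_zero.mp h0]
  let e : Option (Fin 4 × ZMod 5) ≃ Sylow 5 G := Equiv.ofBijective f
    ((Fintype.bijective_iff_injective_and_card f).mpr ⟨hinj, by simp [hcard]⟩)
  have he_none : e none = P := rfl
  have he_shift : ∀ i t u, pw t • e (some (i, u)) = e (some (i, t + u)) := by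
    intro i t u
    show pw t • pw u • r i = pw (t + u) • r i
    rw [← mul_smul, hpw_add]
  -- the action of the normaliser in coordinates
  have hNP : ∀ n : N, (n : G) • P = P := fun n => Sylow.smul_eq_iff_mem_normalizer.mpr n.2
  have hconj : ∀ n : N, ∃ a : ZMod 5, ∀ t, (n : G) * pw t * (n : G)⁻¹ = pw (a * t) := by
    intro n
    obtain ⟨a, ha⟩ := hmemP _ ((Subgroup.mem_normalizer_iff.mp n.2 x).mp xP.2)
    refine ⟨a, fun t => ?_⟩
    show (n : G) * x ^ t.val * (n : G)⁻¹ = pw (a * t)
    rw [← conj_pow, ha, show pw a = x ^ a.val from rfl, ← pow_mul, hpw, Nat.cast_mul,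
      ZMod.natCast_zmod_val, ZMod.natCast_zmod_val]
  choose a ha using hconj
  have hkey : ∀ (n : N) (i : Fin 4), ∃ (j : Fin 4) (b : ZMod 5),
      ∀ t, (n : G) • e (some (i, t)) = e (some (j, a n * t + b)) := by
    intro n i
    obtain ⟨o, ho⟩ := e.surjective ((n : G) • e (some (i, 0)))
    cases o with
    | none =>
      rw [he_none] at ho
      have := e.injective ((MulAction.injective (n : G) (ho.symm.trans (hNP n).symm)).trans
        he_none.symm)
      exact absurd this (Option.some_ne_none _)
    | some jb =>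
      refine ⟨jb.1, jb.2, fun t => ?_⟩
      have : e (some (i, t)) = pw t • e (some (i, 0)) := by rw [he_shift, add_zero]
      rw [this, ← he_shift, ← mul_smul, ← inv_mul_cancel_right ((n : G) * pw t) (n : G), ha,
        mul_smul, ← ho]
  choose σ b hσ using hkey
  have hσ_eq : ∀ (n : N) i j u, (n : G) • e (some (i, 0)) = e (some (j, u)) → σ n i = j := by
    intro n i j u hh
    rw [hσ] at hh
    exact congrArg Prod.fst (Option.some_injective _ (e.injective hh))
  have hσmul : ∀ (n m : N) i, σ (n * m) i = σ n (σ m i) := by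
    intro n m i
    apply hσ_eq
    rw [Subgroup.coe_mul, mul_smul, hσ, hσ]
  have hσone : ∀ i, σ 1 i = i := fun i => hσ_eq 1 i i 0 (by rw [OneMemClass.coe_one, one_smul])
  let σP : N →* Equiv.Perm (Fin 4) := MonoidHom.mk'
    (fun n => ⟨σ n, σ n⁻¹, fun i => by rw [← hσmul, inv_mul_cancel, hσone],
      fun i => by rw [← hσmul, mul_inv_cancel, hσone]⟩)
    (fun n m => Equiv.ext (hσmul n m))
  let aM : N →* ZMod 5 :=
    { toFun := a
      map_one' := by
        have := ha 1 1
        rw [OneMemClass.coe_one, one_mul, inv_one, mul_one, mul_one] at this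
        exact (hpw_inj this).symm
      map_mul' := fun n m => by
        have h1 := ha (n * m) 1
        have h2 := ha n (a m)
        have h3 := ha m 1
        rw [mul_one] at h1 h3
        apply hpw_inj
        rw [← h1, ← h2, ← h3, Subgroup.coe_mul]
        group }
  let aU : N →* (ZMod 5)ˣ := aM.toHomUnits
  have haU : ∀ n, (aU n : ZMod 5) = a n := fun _ => rfl
  -- the sign of the action on the orbits
  have hsign : ∀ n : N, Equiv.Perm.sign (σP n) = 1 := by
    intro n
    have hdec : φ (n : G) = e.permCongr (Equiv.optionCongr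
        (Equiv.prodCongrLeft (fun _ : ZMod 5 => σP n) * Equiv.prodCongrRight
          (fun i : Fin 4 => Equiv.addRight (b n i) * (aU n).mulLeft))) := by
      apply Equiv.ext
      intro R
      obtain ⟨o, rfl⟩ := e.surjective R
      show (n : G) • e o = _
      rw [Equiv.permCongr_apply, Equiv.symm_apply_apply]
      cases o with
      | none => exact hNP n
      | some it =>
        obtain ⟨i, t⟩ := it
        rw [hσ]
        rfl
    have h1 := heven n
    have hadd : ∀ c : ZMod 5, Equiv.Perm.sign (Equiv.addRight c) = 1 := by decide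
    rw [hdec, Equiv.Perm.sign_permCongr, Equiv.optionCongr_sign, map_mul,
      Equiv.Perm.sign_prodCongrLeft, Equiv.Perm.sign_prodCongrRight] at h1
    simp only [map_mul, hadd, one_mul, Finset.prod_const, Finset.card_univ, ZMod.card,
      Fintype.card_fin] at h1
    rcases Int.units_eq_one_or (Equiv.Perm.sign (σP n)) with hc | hc
    · exact hc
    · rw [hc] at h1
      rcases Int.units_eq_one_or (Equiv.Perm.sign ((aU n).mulLeft)) with hd | hd <;>
        rw [hd] at h1 <;> exact absurd h1 (by decide)
  -- two-elements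
  have h2pow : ∀ n : N, (n : G) ∈ (S : Subgroup G) → σP n ^ 2 = 1 := by
    intro n hn
    rcases even_perm_four _ (hsign n) with h2 | h3
    · exact h2
    · obtain ⟨k, hk⟩ := orderOf_sylow_mem hn
      have h1 : σP n = 1 := by
        rw [← orderOf_eq_one_iff]
        refine Nat.eq_one_of_dvd_coprimes ((show Nat.Coprime 2 3 by norm_num).pow_left k) ?_
          (orderOf_dvd_of_pow_eq_one h3)
        rw [← hk, orderOf_coe]
        exact orderOf_map_dvd σP n
      rw [h1, one_pow]
  have hCfix : ∀ n : N, aU n = 1 → σP n = 1 → (n : G) ∈ (S : Subgroup G) → (n : G) = 1 := by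
    intro n ha1 hs1 hn
    have ha1' : a n = 1 := by rw [← haU, ha1, Units.val_one]
    have hiter : ∀ (k : ℕ) i t, (n : G) ^ k • e (some (i, t)) = e (some (i, t + k * b n i)) := by
      intro k
      induction k with
      | zero => intro i t; simp
      | succ k ih =>
        intro i t
        have hi : σ n i = i := Equiv.ext_iff.mp hs1 i
        rw [pow_succ, mul_smul, hσ, hi, ha1', one_mul, ih, Nat.cast_succ]
        congr 3
        ring
    have h5 : (n : G) ^ 5 = 1 := h.faithful _ fun R => by
      obtain ⟨o, rfl⟩ := e.surjective R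
      cases o with
      | none =>
        rw [he_none]
        exact Sylow.smul_eq_iff_mem_normalizer.mpr (pow_mem n.2 5)
      | some it =>
        rw [hiter 5 it.1 it.2, show ((5 : ℕ) : ZMod 5) = 0 from rfl, zero_mul, add_zero]
    obtain ⟨k, hk⟩ := orderOf_sylow_mem hn
    rw [← orderOf_eq_one_iff]
    exact Nat.eq_one_of_dvd_coprimes ((show Nat.Coprime 2 5 by norm_num).pow_left k)
      hk.dvd (orderOf_dvd_of_pow_eq_one h5)
  -- the Sylow 2-subgroup is abelian
  let inc : (S : Subgroup G) →* N := Subgroup.inclusion hSN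
  have hSab : ∀ s t : (S : Subgroup G), s * t = t * s := by
    intro s t
    rw [← commutatorElement_eq_one_iff_mul_comm]
    set u := ⁅s, t⁆
    have hau : aU (inc u) = 1 := by
      rw [map_commutatorElement, map_commutatorElement]
      exact commutatorElement_eq_one_iff_mul_comm.mpr (mul_comm _ _)
    have hsu : σP (inc u) = 1 := by
      rw [map_commutatorElement, map_commutatorElement, commutatorElement_eq_one_iff_mul_comm]
      have hs := h2pow (inc s) s.2
      have ht := h2pow (inc t) t.2
      have hst := h2pow (inc (s * t)) (s * t).2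
      rw [map_mul, map_mul, sq] at hst
      rw [sq] at hs ht
      have hs' : (σP (inc s))⁻¹ = σP (inc s) := inv_eq_of_mul_eq_one_right hs
      have ht' : (σP (inc t))⁻¹ = σP (inc t) := inv_eq_of_mul_eq_one_right ht
      have := inv_eq_of_mul_eq_one_right hst
      rw [mul_inv_rev, hs', ht'] at this
      exact this.symm
    exact Subtype.ext (hCfix (inc u) hau hsu u.2)
  haveI : IsMulCommutative (S : Subgroup G) := ⟨⟨hSab⟩⟩
  -- the automorphism map is nontrivial on the Sylow 2-subgroup
  obtain ⟨s₀, hs₀⟩ : ∃ s : (S : Subgroup G), aU (inc s) ≠ 1 := by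
    by_contra! hall
    have hle : (S : Subgroup G).subgroupOf N ≤ aU.ker := fun n hn =>
      MonoidHom.mem_ker.mpr (hall ⟨n, hn⟩)
    have h2 : ¬ 2 ∣ aU.ker.index := fun hd => S.not_dvd_index ((hd.trans
      (Subgroup.index_dvd_of_le hle)).trans (by
        rw [← Subgroup.relIndex_mul_index hSN]
        exact dvd_mul_right _ _))
    have h4 : aU.ker.index ∣ 4 := by
      rw [Subgroup.index_ker]
      refine (Subgroup.card_subgroup_dvd_card _).trans ?_
      rw [Nat.card_eq_fintype_card, ZMod.card_units_eq_totient]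
      decide
    have h1 : aU.ker.index = 1 :=
      Nat.eq_one_of_dvd_coprimes ((Nat.prime_two.coprime_iff_not_dvd.mpr h2).pow_left 2)
        (show aU.ker.index ∣ 2 ^ 2 from h4) dvd_rfl
    have htop := Subgroup.index_eq_one.mp h1
    have hNC : N ≤ centralizer ((P : Subgroup G) : Set G) := by
      intro n hn
      rw [Subgroup.mem_centralizer_iff]
      intro y hy
      obtain ⟨t, rfl⟩ := hmemP y hy
      have h1 := ha ⟨n, hn⟩ t
      have ha1 : aU ⟨n, hn⟩ = 1 := MonoidHom.mem_ker.mp (htop ▸ mem_top _)
      rw [← haU, ha1, Units.val_one, one_mul] at h1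
      exact (mul_inv_eq_iff_eq_mul.mp h1).symm
    have hcompl := MonoidHom.ker_transferSylow_isComplement' P hNC
    have hidx : (MonoidHom.transferSylow P hNC).ker.index = 5 :=
      hcompl.symm.index_eq_card.trans hP5
    rcases hsimp (MonoidHom.transferSylow P hNC).ker inferInstance with hk | hk
    · rw [hk, Subgroup.index_bot] at hidx; omega
    · rw [hk, Subgroup.index_top] at hidx; omega
  let φS : (S : Subgroup G) →* (ZMod 5)ˣ := aU.comp inc
  by_cases hinjS : Function.Injective φS
  · -- cyclic Sylow 2-subgroup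
    haveI : IsCyclic (S : Subgroup G) := isCyclic_of_injective φS hinjS
    have h2G : 2 ∣ Nat.card G := by
      obtain ⟨k, hk⟩ := orderOf_sylow_mem s₀.2
      have : k ≠ 0 := by
        rintro rfl
        rw [pow_zero, orderOf_eq_one_iff] at hk
        exact hs₀ (by rw [show s₀ = 1 from Subtype.ext hk, map_one, map_one])
      exact (dvd_pow_self 2 this).trans (hk ▸ _root_.orderOf_dvd_natCard _)
    have hmin : (Nat.card G).minFac = 2 := (Nat.minFac_eq_two_iff _).mpr h2G
    have hSC := IsCyclic.normalizer_le_centralizer (P := S) hmin inferInstance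
    have hcompl := MonoidHom.ker_transferSylow_isComplement' S hSC
    have hidx := hcompl.symm.index_eq_card
    rcases hsimp (MonoidHom.transferSylow S hSC).ker inferInstance with hk | hk
    · rw [hk, Subgroup.index_bot] at hidx
      obtain ⟨k, hk2⟩ := S.isPGroup'.exists_card_eq
      rw [← hidx] at hk2
      have h5 : 5 ∣ 2 ^ k := hk2 ▸ (hP5 ▸ (P : Subgroup G).card_subgroup_dvd_card)
      exact absurd ((Fact.out : (5 : ℕ).Prime).dvd_of_dvd_pow h5) (by norm_num)
    · rw [hk, Subgroup.index_top] at hidx
      have hbot := Subgroup.eq_bot_of_card_eq _ hidx.symm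
      exact hs₀ (by rw [show s₀ = 1 from Subtype.ext (Subgroup.mem_bot.mp (hbot ▸ s₀.2)), map_one,
        map_one])
  · -- an involutory permutation of the orbits without fixed points
    obtain ⟨v, hv1, hv⟩ : ∃ v : (S : Subgroup G), v ≠ 1 ∧ φS v = 1 := by
      rw [← MonoidHom.ker_eq_bot_iff] at hinjS
      obtain ⟨v, hv, hv1⟩ := (Subgroup.bot_or_exists_ne_one _).resolve_left hinjS
      exact ⟨v, hv1, hv⟩
    have hσv : σP (inc v) ≠ 1 := fun e => hv1 (Subtype.ext (hCfix (inc v) hv e v.2))
    have hvfix : ∀ R : Sylow 5 G, (v : G) • R = R → R = P := by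
      intro R hR
      obtain ⟨o, rfl⟩ := e.surjective R
      cases o with
      | none => exact he_none
      | some it =>
        exfalso
        have h1 := hσ (inc v) it.1 it.2
        rw [show ((inc v : N) : G) = (v : G) from rfl, hR] at h1
        exact even_involution_four _ (hsign _) (h2pow (inc v) v.2) hσv it.1
          (congrArg Prod.fst (Option.some_injective _ (e.injective h1))).symm
    have hNS : normalizer ((S : Subgroup G) : Set G) ≤ N := by
      intro n hn
      refine Sylow.smul_eq_iff_mem_normalizer.mp ?_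
      apply hvfix
      have hmem : n⁻¹ * (v : G) * n ∈ (S : Subgroup G) :=
        (Subgroup.mem_normalizer_iff''.mp hn v).mp v.2
      have h1 := hSP _ hmem
      rw [mul_smul, mul_smul, inv_smul_eq_iff] at h1
      exact h1
    set τ := MonoidHom.transfer φS
    have hterm : τ (s₀ : G) = φS s₀ ^ (S : Subgroup G).index := by
      rw [MonoidHom.transfer_eq_prod_quotient_orbitRel_zpowers_quot,
        Subgroup.index_eq_sum_minimalPeriod (S : Subgroup G) (s₀ : G), ← Finset.prod_pow_eq_pow_sum]
      refine Finset.prod_congr rfl fun q _ => ?_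
      set k := Function.minimalPeriod ((s₀ : G) • ·) q.out
      set g₀ := q.out.out
      have hy : g₀⁻¹ * (s₀ : G) ^ k * g₀ ∈ (S : Subgroup G) :=
        QuotientGroup.out_conj_pow_minimalPeriod_mem _ _ _
      obtain ⟨n, hn, heq⟩ := S.conj_eq_normalizer_conj_of_mem ((s₀ : G) ^ k) g₀
        (pow_mem s₀.2 k) hy
      have hval : inc ⟨g₀⁻¹ * (s₀ : G) ^ k * g₀, hy⟩ =
          (⟨n, hNS hn⟩ : N)⁻¹ * inc (s₀ ^ k) * ⟨n, hNS hn⟩ := Subtype.ext heq
      show aU (inc _) = aU (inc s₀) ^ k
      rw [hval, map_mul, map_mul, map_inv, mul_comm, mul_inv_cancel_left, map_pow, map_pow]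
    have hτ : τ (s₀ : G) ≠ 1 := by
      rw [hterm]
      intro h1
      apply hs₀
      rw [← orderOf_eq_one_iff]
      obtain ⟨k, hk⟩ := orderOf_sylow_mem s₀.2
      refine Nat.eq_one_of_dvd_coprimes ?_ (orderOf_dvd_of_pow_eq_one h1)
        ((orderOf_map_dvd φS s₀).trans (by rw [← orderOf_coe, hk]))
      exact ((Nat.prime_two.coprime_iff_not_dvd.mpr S.not_dvd_index).pow_left k).symm
    rcases hsimp τ.ker inferInstance with hk | hk
    · have hinj' := Nat.card_le_card_of_injective _ ((MonoidHom.ker_eq_bot_iff τ).mp hk)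
      rw [Nat.card_eq_fintype_card (α := (ZMod 5)ˣ), ZMod.card_units_eq_totient,
        show Nat.totient 5 = 4 by decide] at hinj'
      omega
    · exact hτ (MonoidHom.mem_ker.mp (hk ▸ mem_top _))

theorem twentyone_aux.{v} : ∀ (n : ℕ) (G : Type v) [Group G] [Finite G],
    Nat.card G = n → Nat.card (Sylow 5 G) ≠ 21 := by
  intro n
  induction n using Nat.strong_induction_on with
  | _ n ih =>
  intro G _ _ hn h21
  classical
  have hred : ∀ M : Subgroup G, M.Normal → ¬ 5 ∣ M.index → M = ⊤ := by
    intro M hM h5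
    by_contra hne
    haveI := hM
    have hlt : Nat.card M < n := by
      rw [← hn]
      exact lt_of_le_of_ne (Subgroup.card_le_card_group M) fun e => hne (Subgroup.eq_top_of_card_eq M e)
    exact ih _ hlt M rfl ((card_sylow_of_normal_le M h5).trans h21)
  set φ := MulAction.toPermHom G (Sylow 5 G)
  have hfaith : φ.ker = ⊥ := by
    by_contra hK
    have hlt : Nat.card (G ⧸ φ.ker) < n := by
      rw [← hn, Subgroup.card_eq_card_quotient_mul_card_subgroup φ.ker]
      exact lt_mul_of_one_lt_right Nat.card_pos ((Subgroup.one_lt_card_iff_ne_bot _).mpr hK)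
    exact ih _ hlt (G ⧸ φ.ker) rfl ((card_sylow_quotient_toPermHom_ker 5).trans h21)
  have h : TwentyOne G := ⟨h21, fun g hg => by
    have : g ∈ φ.ker := MonoidHom.mem_ker.mpr (Equiv.ext fun R => hg R)
    rw [hfaith] at this
    exact Subgroup.mem_bot.mp this⟩
  obtain ⟨P⟩ : Nonempty (Sylow 5 G) := inferInstance
  have hGdvd : 5 ∣ Nat.card G :=
    h.card_sylow_eq_five P ▸ (P : Subgroup G).card_subgroup_dvd_card
  have hnot25 : ¬ 25 ∣ Nat.card G := by
    rw [← (P : Subgroup G).card_mul_index, h.card_sylow_eq_five P,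
      show 25 = 5 * 5 by rfl, Nat.mul_dvd_mul_iff_left (by norm_num : 0 < 5)]
    exact P.not_dvd_index
  have := Fintype.ofFinite (Sylow 5 G)
  haveI : Nontrivial G := Finite.one_lt_card_iff_nontrivial.mp
    (lt_of_lt_of_le (by norm_num) (Nat.le_of_dvd Nat.card_pos hGdvd))
  haveI : IsSimpleGroup G := ⟨fun M hM => by
    haveI := hM
    by_contra! hne
    have h5M : ¬ 5 ∣ Nat.card M := by
      intro h5
      refine hne.2 (hred M hM fun h5i => hnot25 ?_)
      rw [← M.card_mul_index]
      exact mul_dvd_mul h5 h5i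
    set B := MulAction.orbit M P
    have hPB : P ∈ B := MulAction.mem_orbit_self P
    have hd : B.ncard ∣ 21 := h21 ▸
      (MulAction.IsBlock.orbit_of_normal (G := G) (N := M) P).ncard_dvd_card ⟨P, hPB⟩
    have h5B : 5 ∣ (B.toFinset.erase P).card := by
      refine h.five_dvd_card_invariant P _ (Finset.notMem_erase _ _) fun x hx R hR => ?_
      simp only [Finset.mem_erase, Set.mem_toFinset] at hR ⊢
      have hxP : x • P = P := (sylow_smul_eq_iff_mem (orderOf_sylow_mem hx) P).mpr hx
      refine ⟨fun e => hR.1 (MulAction.injective x (e.trans hxP.symm)), ?_⟩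
      obtain ⟨m, hm⟩ := hR.2
      refine ⟨⟨x * m * x⁻¹, hM.conj_mem _ m.2 x⟩, ?_⟩
      show (x * m * x⁻¹) • P = x • R
      rw [← hm, mul_smul, mul_smul, inv_smul_eq_iff.mpr hxP.symm]
      rfl
    rw [Finset.card_erase_of_mem (Set.mem_toFinset.mpr hPB), ← Set.ncard_eq_toFinset_card'] at h5B
    have hB0 : 0 < B.ncard := (Set.ncard_pos).mpr ⟨P, hPB⟩
    have hd' : B.ncard = 1 ∨ B.ncard = 21 := by
      have hm : B.ncard ∈ Nat.divisors 21 := Nat.mem_divisors.mpr ⟨hd, by norm_num⟩
      rw [show Nat.divisors 21 = {1, 3, 7, 21} by decide] at hm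
      simp only [Finset.mem_insert, Finset.mem_singleton] at hm
      omega
    rcases hd' with hd1 | hd21
    · apply hne.1
      rw [Subgroup.eq_bot_iff_forall]
      intro m hm
      apply h.faithful
      intro R
      obtain ⟨g, rfl⟩ := MulAction.exists_smul_eq G P R
      have hfix : ∀ m' ∈ M, m' • P = P := fun m' hm' => by
        obtain ⟨a, ha⟩ := Set.ncard_eq_one.mp hd1
        have h1 : m' • P ∈ B := ⟨⟨m', hm'⟩, rfl⟩
        have h2 : P ∈ B := hPB
        rw [ha, Set.mem_singleton_iff] at h1 h2
        rw [h1, ← h2]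
      have := hfix (g⁻¹ * m * g) (by simpa using hM.conj_mem m hm g⁻¹)
      rw [mul_smul, mul_smul, inv_smul_eq_iff] at this
      exact this
    · haveI : Fact (Nat.Prime 3) := ⟨Nat.prime_three⟩
      obtain ⟨R⟩ : Nonempty (Sylow 3 M) := inferInstance
      set R' := (R : Subgroup M).map M.subtype
      have hfr := Sylow.normalizer_sup_eq_top R
      have h5N : 5 ∣ Nat.card (normalizer (R' : Set G)) := by
        have h5i : 5 ∣ M.index := ((Fact.out : (5 : ℕ).Prime).dvd_mul.mp
          (M.card_mul_index ▸ hGdvd)).resolve_left h5M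
        refine h5i.trans ?_
        rw [Subgroup.index_eq_card]
        refine Subgroup.card_dvd_of_surjective ((QuotientGroup.mk' M).comp (Subgroup.subtype _))
          (MonoidHom.range_eq_top.mp ?_)
        rw [MonoidHom.range_comp, Subgroup.range_subtype]
        have := congrArg (Subgroup.map (QuotientGroup.mk' M)) hfr
        rwa [Subgroup.map_sup, Subgroup.map_top_of_surjective _ (QuotientGroup.mk'_surjective M),
          (Subgroup.map_eq_bot_iff _).mpr (QuotientGroup.ker_mk' M).ge, sup_bot_eq] at this
      obtain ⟨y, hy⟩ := exists_prime_orderOf_dvd_card' (G := normalizer (R' : Set G)) 5 h5N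
      rw [← orderOf_coe] at hy
      obtain ⟨P', hP'⟩ := (IsPGroup.of_card (p := 5) (n := 1)
        (show Nat.card (zpowers (y : G)) = 5 ^ 1 by rw [Nat.card_zpowers, hy, pow_one])).exists_le_sylow
      have hPeq : (P' : Subgroup G) = zpowers (y : G) := (Subgroup.eq_of_le_of_card_ge hP'
        (by rw [h.card_sylow_eq_five P', Nat.card_zpowers, hy])).symm
      have hP'N : (P' : Subgroup G) ≤ normalizer (R' : Set G) := hPeq ▸ zpowers_le.mpr y.2
      have hR'p : IsPGroup 3 R' := R.isPGroup'.map _
      set O := MulAction.orbit R' P'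
      obtain ⟨j, hj⟩ := hR'p.card_orbit P'
      have h5O : 5 ∣ (O.toFinset.erase P').card := by
        refine h.five_dvd_card_invariant P' _ (Finset.notMem_erase _ _) fun x hx R₀ hR₀ => ?_
        simp only [Finset.mem_erase, Set.mem_toFinset] at hR₀ ⊢
        have hxP : x • P' = P' := (sylow_smul_eq_iff_mem (orderOf_sylow_mem hx) P').mpr hx
        refine ⟨fun e => hR₀.1 (MulAction.injective x (e.trans hxP.symm)), ?_⟩
        obtain ⟨m, hm⟩ := hR₀.2
        refine ⟨⟨x * m * x⁻¹, (Subgroup.mem_normalizer_iff.mp (hP'N hx) m).mp m.2⟩, ?_⟩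
        show (x * m * x⁻¹) • P' = x • R₀
        rw [← hm, mul_smul, mul_smul, inv_smul_eq_iff.mpr hxP.symm]
        rfl
      rw [Finset.card_erase_of_mem (Set.mem_toFinset.mpr (MulAction.mem_orbit_self P')),
        ← Set.ncard_eq_toFinset_card', ← Nat.card_coe_set_eq, hj] at h5O
      have hO21 : 3 ^ j ≤ 21 := hj ▸ h21 ▸ Nat.card_le_card_of_injective _ Subtype.val_injective
      have hj0 : j = 0 := by
        have : j < 3 := by
          by_contra hc
          have : 3 ^ 3 ≤ 3 ^ j := Nat.pow_le_pow_right (by norm_num) (not_lt.mp hc)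
          omega
        interval_cases j <;> norm_num at h5O <;> rfl
      have hfix : (R : Subgroup M) ≤ MulAction.stabilizer M P' := by
        intro m hm
        rw [MulAction.mem_stabilizer_iff]
        have h1 : Nat.card O = 1 := by rw [hj, hj0, pow_zero]
        have hsub := (Nat.card_eq_one_iff_unique.mp h1).1
        exact congrArg Subtype.val (Subsingleton.elim
          (⟨(m : G) • P', ⟨⟨m, ⟨m, hm, rfl⟩⟩, rfl⟩⟩ : O) ⟨P', MulAction.mem_orbit_self P'⟩)
      apply R.not_dvd_index
      refine dvd_trans ?_ (Subgroup.index_dvd_of_le hfix)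
      rw [Subgroup.index_eq_card, ← Nat.card_congr (MulAction.orbitEquivQuotientStabilizer M P')]
      have hBuniv : B = Set.univ := Set.eq_of_subset_of_ncard_le (Set.subset_univ _)
        (by rw [Set.ncard_univ, h21, hd21]) (Set.toFinite _)
      have hP'B : MulAction.orbit M P' = B := MulAction.orbit_eq_iff.mpr (by
        show P' ∈ B
        rw [hBuniv]
        exact Set.mem_univ P')
      rw [Nat.card_coe_set_eq, hP'B, hd21]
      norm_num⟩
  exact h.false_of_simple

theorem card_sylow_five_ne_twentyone (G : Type u) [Group G] [Finite G] :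
    Nat.card (Sylow 5 G) ≠ 21 :=
  twentyone_aux _ G rfl

end H3
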