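import Cfsg.Agent.H27.ClassBasic
import Cfsg.Agent.H33.TwoPrime

/-!
A finite group all of whose Sylow numbers are prime powers is solvable.
-/

set_option autoImplicit false
set_option linter.style.haveILetI false

namespace H3.SylowPrimePow

open Subgroup

/-- Sylow numbers of a normal subgroup divide those of the group. -/
theorem card_sylow_normal_dvd {G : Type*} [Group G] [Finite G] (N : Subgroup G) [N.Normal] (r : ℕ)
    [Fact r.Prime] : Nat.card (Sylow r N) ∣ Nat.card (Sylow r G) := by
  obtain ⟨Q⟩ : Nonempty (Sylow r N) := inferInstance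
  obtain ⟨P, hP⟩ := IsPGroup.exists_le_sylow (IsPGroup.map Q.isPGroup' N.subtype)
  have hQ : ((P : Subgroup G).subgroupOf N) = (Q : Subgroup N) := by
    refine Q.is_maximal' ?_ ?_
    · exact IsPGroup.of_injective (G := (P : Subgroup G)) P.isPGroup'
        ⟨⟨fun x => ⟨((x : N) : G), x.2⟩, rfl⟩, fun _ _ => rfl⟩
        fun _ _ h => Subtype.ext (Subtype.ext (congrArg Subtype.val h :))
    · intro x hx
      exact hP ⟨x, hx, rfl⟩
  have hle : (normalizer ((P : Subgroup G) : Set G)).subgroupOf N ≤
      normalizer ((Q : Subgroup N) : Set N) := by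
    intro n hn
    rw [mem_normalizer_iff]
    intro y
    rw [← hQ, mem_subgroupOf, mem_subgroupOf]
    simpa using mem_normalizer_iff.1 (mem_subgroupOf.1 hn) (y : G)
  rw [Q.card_eq_index_normalizer, P.card_eq_index_normalizer]
  exact (index_dvd_of_le hle).trans (H27.relIndex_dvd_index_right _ N)

/-- Sylow numbers of a quotient divide those of the group. -/
theorem card_sylow_quotient_dvd {G : Type*} [Group G] [Finite G] (N : Subgroup G) [N.Normal]
    (r : ℕ) [Fact r.Prime] : Nat.card (Sylow r (G ⧸ N)) ∣ Nat.card (Sylow r G) := by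
  obtain ⟨P⟩ : Nonempty (Sylow r G) := inferInstance
  let Q := P.mapSurjective (QuotientGroup.mk'_surjective N)
  rw [Q.card_eq_index_normalizer, P.card_eq_index_normalizer]
  refine (index_dvd_of_le (H := (normalizer ((P : Subgroup G) : Set G)).map (QuotientGroup.mk' N))
    ?_).trans (index_map_dvd _ (QuotientGroup.mk'_surjective N))
  rintro _ ⟨g, hg, rfl⟩
  show _ ∈ normalizer ((Q : Subgroup (G ⧸ N)) : Set (G ⧸ N))
  rw [SetLike.mem_coe, mem_normalizer_iff_map_conj_eq] at hg
  rw [mem_normalizer_iff_map_conj_eq]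
  show (((P : Subgroup G).map (QuotientGroup.mk' N))).map _ = (P : Subgroup G).map _
  conv_rhs => rw [← hg]
  rw [map_map, map_map]
  rfl

/-- A divisor of a prime power is one or a prime power. -/
theorem good_of_dvd {a b : ℕ} (h : a ∣ b) (hb : b = 1 ∨ IsPrimePow b) : a = 1 ∨ IsPrimePow a := by
  rcases hb with rfl | hb
  · exact Or.inl (Nat.dvd_one.1 h)
  · exact or_iff_not_imp_left.2 fun ha => hb.dvd h ha

/-- If `|G : H|` is a power of `u`, every element lies in `U * H` for a Sylow `u`-subgroup `U`. -/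
theorem exists_mul_mem {G : Type*} [Group G] [Finite G] {u : ℕ} [Fact u.Prime] (H : Subgroup G)
    {b : ℕ} (hH : H.index = u ^ b) (U : Sylow u G) (g : G) :
    ∃ v ∈ (U : Subgroup G), v⁻¹ * g ∈ H := by
  set K := H.subgroupOf (U : Subgroup G) with hK
  have hKle : Nat.card K ∣ Nat.card H := by
    have : Nat.card K = Nat.card (K.map (U : Subgroup G).subtype) :=
      (card_map_of_injective (U : Subgroup G).subtype_injective).symm
    rw [this]
    exact card_dvd_of_le (by rintro _ ⟨x, hx, rfl⟩; exact hx)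
  obtain ⟨c, hc⟩ := IsPGroup.iff_card.1 (U.isPGroup'.to_subgroup K)
  obtain ⟨d, hd⟩ := U.isPGroup'.index K
  have h1 := K.card_mul_index
  rw [hc, hd, U.card_eq_multiplicity, ← pow_add] at h1
  have h2 := Nat.pow_right_injective (Fact.out : u.Prime).two_le h1
  have h3 : c + b ≤ (Nat.card G).factorization u := by
    rw [← H.card_mul_index, Nat.factorization_mul Nat.card_pos.ne' index_ne_zero_of_finite,
      Finsupp.add_apply, hH, (Fact.out : u.Prime).factorization_pow, Finsupp.single_eq_same]
    have := ((Fact.out : u.Prime).pow_dvd_iff_le_factorization Nat.card_pos.ne').1 (hc ▸ hKle)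
    omega
  have hbd : H.index ≤ K.index := by
    rw [hH, hd]
    exact Nat.pow_le_pow_right (Fact.out : u.Prime).pos (by omega)
  -- the orbit of the trivial coset under `U` is everything
  let f : (U : Subgroup G) ⧸ K → G ⧸ H := Quotient.lift (fun v => ((v : G) : G ⧸ H)) fun a b hab => by
    rw [← Quotient.eq_iff_equiv] at hab
    exact QuotientGroup.eq.2 (mem_subgroupOf.1 (QuotientGroup.eq.1 hab))
  have hf : Function.Injective f := by
    rintro ⟨a⟩ ⟨b⟩ h
    exact QuotientGroup.eq.2 (mem_subgroupOf.2 (QuotientGroup.eq.1 h))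
  have hbij := (Nat.bijective_iff_injective_and_card f).2
    ⟨hf, le_antisymm (Nat.card_le_card_of_injective f hf) hbd⟩
  obtain ⟨⟨v⟩, hv⟩ := hbij.2 (g : G ⧸ H)
  exact ⟨v, v.2, QuotientGroup.eq.1 hv⟩

/-- The simple case. -/
theorem solvable_of_simple.{u} {G : Type u} [Group G] [Finite G] [IsSimpleGroup G]
    (h : ∀ (r : ℕ) [Fact r.Prime], Nat.card (Sylow r G) = 1 ∨ IsPrimePow (Nat.card (Sylow r G))) :
    Group.IsSolvable G := by
  classical
  by_contra hns
  have hnormal : ∀ (r : ℕ) [Fact r.Prime] (P : Sylow r G), r ∣ Nat.card G →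
      normalizer ((P : Subgroup G) : Set G) ≠ ⊤ := by
    intro r _ P hr htop
    rcases (normalizer_eq_top_iff.1 htop).eq_bot_or_eq_top with h1 | h1
    · exact P.ne_bot_of_dvd_card hr h1
    · apply hns
      haveI : Group.IsNilpotent G := by
        refine IsPGroup.isNilpotent (p := r) ?_
        exact (IsPGroup.of_equiv (h1 ▸ P.isPGroup') Subgroup.topEquiv)
      infer_instance
  have hq : ∀ r : ℕ, ∃ q : ℕ, r.Prime → r ∣ Nat.card G → q.Prime ∧ q ∣ Nat.card G ∧ q ≠ r ∧
      ∀ [Fact r.Prime] (P : Sylow r G), ∃ b : ℕ, (normalizer ((P : Subgroup G) : Set G)).index = q ^ b := by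
    intro r
    by_cases hr : r.Prime ∧ r ∣ Nat.card G
    · haveI := Fact.mk hr.1
      obtain ⟨P⟩ : Nonempty (Sylow r G) := inferInstance
      rcases h r with h1 | h1
      · rw [P.card_eq_index_normalizer, index_eq_one] at h1
        exact absurd h1 (hnormal r P hr.2)
      · obtain ⟨q, k, hq, hk, hqk⟩ := (isPrimePow_nat_iff _).1 h1
        refine ⟨q, fun _ _ => ⟨hq, ?_, ?_, fun {_} P => ⟨k, P.card_eq_index_normalizer.symm.trans hqk.symm⟩⟩⟩
        · refine (dvd_pow_self q hk.ne').trans ?_
          rw [hqk, P.card_eq_index_normalizer]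
          exact index_dvd_card _
        · rintro rfl
          apply P.not_dvd_index
          refine (dvd_pow_self q hk.ne').trans ?_
          rw [hqk, P.card_eq_index_normalizer]
          exact index_dvd_of_le le_normalizer
    · exact ⟨0, fun a b => absurd ⟨a, b⟩ hr⟩
  choose q hq using hq
  -- the key configuration is impossible
  have key : ∀ r t : ℕ, r.Prime → r ∣ Nat.card G → t.Prime → t ∣ Nat.card G →
      q r = t ∨ q r = q t := by
    intro r t hr hrd ht htd
    by_contra hcon
    push Not at hcon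
    haveI := Fact.mk hr
    haveI := Fact.mk ht
    obtain ⟨hu, hud, -, hidx⟩ := hq t ht htd
    haveI := Fact.mk hu
    obtain ⟨R⟩ : Nonempty (Sylow r G) := inferInstance
    obtain ⟨hs, -, -, hidxR⟩ := hq r hr hrd
    obtain ⟨b, hb⟩ := hidxR R
    set N := normalizer ((R : Subgroup G) : Set G) with hN
    obtain ⟨T, hT⟩ := H27.exists_sylow_le_of_not_dvd_index (p := t) (H := N) (by
      rw [hb]; exact fun hd => hcon.1 ((Nat.prime_dvd_prime_iff_eq ht hs).1 (ht.dvd_of_dvd_pow hd)).symm)
    obtain ⟨U, hU⟩ := H27.exists_sylow_le_of_not_dvd_index (p := q t) (H := N) (by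
      rw [hb]; exact fun hd => hcon.2 ((Nat.prime_dvd_prime_iff_eq hu hs).1 (hu.dvd_of_dvd_pow hd)).symm)
    obtain ⟨c, hc⟩ := hidx T
    have hle : normalClosure ((T : Subgroup G) : Set G) ≤ N := by
      rw [normalClosure, closure_le]
      intro y hy
      obtain ⟨x, hx, hxy⟩ := Group.mem_conjugatesOfSet_iff.1 hy
      obtain ⟨g, rfl⟩ := isConj_iff.1 hxy
      obtain ⟨v, hv, hvg⟩ := exists_mul_mem _ hc U g
      have h1 : (v⁻¹ * g) * x * (v⁻¹ * g)⁻¹ ∈ (T : Subgroup G) :=
        (mem_normalizer_iff.1 hvg x).1 hx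
      have h2 : g * x * g⁻¹ = v * ((v⁻¹ * g) * x * (v⁻¹ * g)⁻¹) * v⁻¹ := by group
      rw [h2]
      exact N.mul_mem (N.mul_mem (hU hv) (hT h1)) (N.inv_mem (hU hv))
    rcases (normalClosure_normal : (normalClosure ((T : Subgroup G) : Set G)).Normal).eq_bot_or_eq_top
      with h1 | h1
    · exact T.ne_bot_of_dvd_card htd (le_bot_iff.1 (h1 ▸ le_normalClosure))
    · exact hnormal r R hrd (top_le_iff.1 (h1 ▸ hle))
  -- there are at least three primes
  apply hns
  by_cases hne : ∃ r : ℕ, r.Prime ∧ r ∣ Nat.card G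
  · obtain ⟨r, hr, hrd⟩ := hne
    obtain ⟨hs, hsd, -, -⟩ := hq r hr hrd
    obtain ⟨-, -, hs', -⟩ := hq (q r) hs hsd
    refine H33.isSolvable_of_two_primes hs (hq (q r) hs hsd).1 fun t ht htd => ?_
    by_cases hts : t = q r
    · exact Or.inl hts
    · right
      have h1 : q r = q t := (key r t hr hrd ht htd).resolve_left (Ne.symm hts)
      rcases key (q r) t hs hsd ht htd with h2 | h2
      · exact h2.symm
      · exact absurd (h2.trans h1.symm) hs'
  · haveI : Subsingleton G := (Nat.card_eq_one_iff_unique.1 (by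
      by_contra h1
      obtain ⟨r, hr, hrd⟩ := Nat.exists_prime_and_dvd h1
      exact hne ⟨r, hr, hrd⟩)).1
    infer_instance

theorem solvable.{u} (n : ℕ) : ∀ (G : Type u) [Group G] [Finite G], Nat.card G = n →
    (∀ (r : ℕ) [Fact r.Prime], Nat.card (Sylow r G) = 1 ∨ IsPrimePow (Nat.card (Sylow r G))) →
    Group.IsSolvable G := by
  induction n using Nat.strong_induction_on with
  | _ n ih =>
    intro G _ _ hn h
    by_cases hN : ∃ N : Subgroup G, N.Normal ∧ N ≠ ⊥ ∧ N ≠ ⊤
    · obtain ⟨N, hNn, hN1, hN2⟩ := hN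
      have h1 := N.card_mul_index
      have hi : 1 < N.index := by
        have := index_ne_zero_of_finite (H := N)
        have : N.index ≠ 1 := fun e => hN2 (index_eq_one.1 e)
        omega
      have hc : 1 < Nat.card N := by
        have : Nat.card N ≠ 1 := fun e => hN1 (eq_bot_of_card_eq N e)
        have := Nat.card_pos (α := N)
        omega
      haveI hA : Group.IsSolvable N := ih (Nat.card N) (by nlinarith) N rfl fun r _ =>
        good_of_dvd (card_sylow_normal_dvd N r) (h r)
      haveI hB : Group.IsSolvable (G ⧸ N) :=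
        ih (Nat.card (G ⧸ N)) (by change N.index < n; nlinarith) (G ⧸ N) rfl fun r _ =>
          good_of_dvd (card_sylow_quotient_dvd N r) (h r)
      exact Group.isSolvable_of_ker_le_range N.subtype (QuotientGroup.mk' N)
        (by rw [QuotientGroup.ker_mk', range_subtype])
    · rcases subsingleton_or_nontrivial G with hs | hs
      · infer_instance
      · haveI : IsSimpleGroup G :=
          ⟨fun N hNn => by
            by_contra hc
            push Not at hc
            exact hN ⟨N, hNn, hc.1, hc.2⟩⟩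
        exact solvable_of_simple h

end H3.SylowPrimePow
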