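import Mathlib.GroupTheory.IndexNormal
import Mathlib.Tactic.IntervalCases
import Mathlib.Tactic.NormNum.Prime
import Cfsg.Agent.H3.SylowConjCount

/-!
A group acting faithfully by conjugation on exactly twenty-two Sylow `3`-subgroups has Sylow
`3`-subgroups of order three or nine.

Call two Sylow subgroups near if their intersection has index three in each.  The near ones to
`P` fall into classes of three with the same intersection, an even number of them by double
counting, so there are four classes and one orbit of nine.  If an intersection is transitive on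
that orbit then two near Sylow subgroups have the same neighbourhood, which is impossible as the
fibres of the neighbourhood map would divide both 22 and 13.
-/

set_option autoImplicit false

namespace H3

open Subgroup

universe u

variable {G : Type u} [Group G] [Finite G]

local instance threePrimeFact : Fact (Nat.Prime 3) := ⟨Nat.prime_three⟩

/-- The hypothesis of this file: twenty-two Sylow `3`-subgroups, acted on faithfully. -/
structure TwentyTwo (G : Type u) [Group G] : Prop where
  card_eq : Nat.card (Sylow 3 G) = 22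
  faithful : ∀ g : G, (∀ R : Sylow 3 G, g • R = R) → g = 1

/-- Two Sylow `3`-subgroups are near if their intersection has index three. -/
def Near (P R : Sylow 3 G) : Prop :=
  R ≠ P ∧ Nat.card (P : Subgroup G) = 3 * Nat.card ((P : Subgroup G) ⊓ R : Subgroup G)

theorem card_sylow_eq_card (P R : Sylow 3 G) :
    Nat.card (P : Subgroup G) = Nat.card (R : Subgroup G) := by
  rw [P.card_eq_multiplicity, R.card_eq_multiplicity]

theorem Near.symm {P R : Sylow 3 G} (h : Near P R) : Near R P :=
  ⟨h.1.symm, by rw [← card_sylow_eq_card P R, inf_comm]; exact h.2⟩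

theorem Near.smul {P R : Sylow 3 G} (h : Near P R) (g : G) : Near (g • P) (g • R) := by
  refine ⟨fun e => h.1 (MulAction.injective g e), ?_⟩
  rw [coe_sylow_smul, coe_sylow_smul, ← conjBy_inf, card_conjBy, card_conjBy]
  exact h.2

theorem Near.smul_of_mem {P R : Sylow 3 G} (h : Near P R) {x : G} (hx : x ∈ (P : Subgroup G)) :
    Near P (x • R) := by
  have := h.smul x
  rwa [(sylow_smul_eq_iff_mem (orderOf_sylow_mem hx) P).mpr hx] at this

theorem Near.mem_normalizer {P R : Sylow 3 G} (h : Near P R) {x : G}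
    (hx : x ∈ (P : Subgroup G)) :
    x ∈ normalizer (((P : Subgroup G) ⊓ R : Subgroup G) : Set G) := by
  set I := ((P : Subgroup G) ⊓ R).subgroupOf (P : Subgroup G)
  have hidx : I.index = 3 := by
    have hI := I.card_mul_index
    rw [Nat.card_congr (Subgroup.subgroupOfEquivOfLe
      (show (P : Subgroup G) ⊓ R ≤ P from inf_le_left)).toEquiv, h.2, mul_comm 3] at hI
    exact Nat.eq_of_mul_eq_mul_left Nat.card_pos hI
  haveI : I.Normal := by
    apply Subgroup.normal_of_index_eq_minFac_card
    obtain ⟨k, hk⟩ := P.isPGroup'.exists_card_eq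
    rw [hidx, hk, Nat.pow_minFac, Nat.prime_three.minFac_eq]
    rintro rfl
    have := I.index_dvd_card
    rw [hidx, hk, pow_zero, Nat.dvd_one] at this
    omega
  have key : ∀ z, z ∈ (P : Subgroup G) ⊓ R → ∀ y ∈ (P : Subgroup G),
      y * z * y⁻¹ ∈ (P : Subgroup G) ⊓ R := by
    intro z hz y hy
    have hzI : (⟨z, hz.1⟩ : (P : Subgroup G)) ∈ I := Subgroup.mem_subgroupOf.mpr hz
    exact Subgroup.mem_subgroupOf.mp (‹I.Normal›.conj_mem _ hzI ⟨y, hy⟩)
  rw [Subgroup.mem_normalizer_iff]
  intro z
  refine ⟨fun hz => key z hz x hx, fun hz => ?_⟩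
  have := key _ hz x⁻¹ (inv_mem hx)
  rwa [show x⁻¹ * (x * z * x⁻¹) * x⁻¹⁻¹ = z by group] at this

namespace TwentyTwo

variable (h : TwentyTwo G)

include h

theorem card_orbit_cases {P R : Sylow 3 G} (hR : R ≠ P) :
    Nat.card (MulAction.orbit (P : Subgroup G) R) = 3 ∨
      Nat.card (MulAction.orbit (P : Subgroup G) R) = 9 := by
  obtain ⟨k, hk⟩ := P.isPGroup'.card_orbit R
  have hlt : Nat.card (MulAction.orbit (P : Subgroup G) R) < 22 := by
    rw [← h.card_eq]
    have := Fintype.ofFinite (Sylow 3 G)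
    rw [Nat.card_coe_set_eq, ← Set.ncard_univ]
    refine Set.ncard_lt_ncard ⟨Set.subset_univ _, fun hsub => ?_⟩ (Set.toFinite _)
    exact sylow_not_mem_orbit hR (hsub (Set.mem_univ P))
  rw [hk] at hlt ⊢
  have hk3 : k < 3 := by
    by_contra hc
    have : 3 ^ 3 ≤ 3 ^ k := Nat.pow_le_pow_right (by norm_num) (not_lt.mp hc)
    omega
  have hk0 : k ≠ 0 := by
    rintro rfl
    exact absurd (hk ▸ dvd_card_orbit hR) (by norm_num)
  interval_cases k <;> simp at hk0 ⊢

theorem near_iff {P R : Sylow 3 G} (hR : R ≠ P) :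
    Near P R ↔ Nat.card (MulAction.orbit (P : Subgroup G) R) = 3 := by
  have h1 := card_orbit_mul_inf (le_refl (P : Subgroup G)) R
  have h2 : 0 < Nat.card ((P : Subgroup G) ⊓ R : Subgroup G) := Nat.card_pos
  constructor
  · intro hn
    rw [hn.2] at h1
    exact Nat.eq_of_mul_eq_mul_right h2 h1
  · intro he
    rw [he] at h1
    exact ⟨hR, h1.symm⟩

theorem far_orbit {P R : Sylow 3 G} (hR : R ≠ P) (hn : ¬ Near P R) :
    Nat.card (MulAction.orbit (P : Subgroup G) R) = 9 :=
  (h.card_orbit_cases hR).resolve_left fun e => hn ((h.near_iff hR).mpr e)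

/-- A subgroup of index three in `P` inside another Sylow subgroup is the intersection. -/
theorem eq_inf_of_le {P R : Sylow 3 G} {K : Subgroup G} (hR : R ≠ P)
    (hK : 3 * Nat.card K = Nat.card (P : Subgroup G)) (hKP : K ≤ P) (hKR : K ≤ R) :
    Near P R ∧ K = (P : Subgroup G) ⊓ R := by
  have h1 := card_orbit_mul_inf (le_refl (P : Subgroup G)) R
  have h2 : Nat.card K ≤ Nat.card ((P : Subgroup G) ⊓ R : Subgroup G) :=
    Nat.le_of_dvd Nat.card_pos (Subgroup.card_dvd_of_le (le_inf hKP hKR))
  have h3 : 0 < Nat.card K := Nat.card_pos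
  rcases h.card_orbit_cases hR with e | e <;> rw [e] at h1
  · exact ⟨⟨hR, h1.symm⟩, Subgroup.eq_of_le_of_card_ge (le_inf hKP hKR) (by omega)⟩
  · omega

theorem block_facts {P R : Sylow 3 G} (h3 : Nat.card (P : Subgroup G) ≠ 3) (hPR : Near P R) :
    {R' : Sylow 3 G | (P : Subgroup G) ⊓ R ≤ R'}.ncard = 4 ∧
      2 ∣ {K : Subgroup G | (∃ g : G, conjBy g ((P : Subgroup G) ⊓ R) = K) ∧ K ≤ P}.ncard := by
  classical
  have := Fintype.ofFinite G
  have := Fintype.ofFinite (Sylow 3 G)
  have := Fintype.ofFinite (Subgroup G)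
  have hcard : Fintype.card (Sylow 3 G) = 22 := by
    rw [← Nat.card_eq_fintype_card]; exact h.card_eq
  set H := (P : Subgroup G) ⊓ R
  have hH3 : 3 * Nat.card H = Nat.card (P : Subgroup G) := hPR.2.symm
  let F : Subgroup G → Finset (Sylow 3 G) := fun K => Finset.univ.filter fun R' => K ≤ ↑R'
  set 𝒦 := Finset.univ.image fun g => conjBy g H
  set ins := 𝒦.filter fun K => K ≤ ↑P
  have h𝒦 : ∀ K ∈ 𝒦, 3 * Nat.card K = Nat.card (P : Subgroup G) := by
    intro K hK
    obtain ⟨g, -, rfl⟩ := Finset.mem_image.mp hK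
    rw [card_conjBy]; exact hH3
  have hins : ins.card =
      {K : Subgroup G | (∃ g : G, conjBy g H = K) ∧ K ≤ P}.ncard := by
    rw [← Set.ncard_coe_finset]
    congr 1
    ext K
    simp [ins, 𝒦]
  have hset : (F H).card = {R' : Sylow 3 G | H ≤ ↑R'}.ncard := by
    rw [← Set.ncard_coe_finset]
    congr 1
    ext R'
    simp [F]
  rw [← hins, ← hset]
  have hPF : P ∈ F H := by simp [F, H]
  have h3F : 3 ∣ ((F H).erase P).card := by
    refine dvd_card_invariant_of_not_mem P _ (Finset.notMem_erase _ _) fun x hx R' hR' => ?_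
    simp only [F, Finset.mem_erase, Finset.mem_filter, Finset.mem_univ, true_and,
      coe_sylow_smul] at hR' ⊢
    refine ⟨fun e => hR'.1 ?_, ?_⟩
    · have hxP : x • P = P := (sylow_smul_eq_iff_mem (orderOf_sylow_mem hx) P).mpr hx
      exact MulAction.injective x (e.trans hxP.symm)
    · have := conjBy_le_conjBy (g := x).mpr hR'.2
      rwa [conjBy_eq_self (hPR.mem_normalizer hx)] at this
  have hpos : 0 < ((F H).erase P).card :=
    Finset.card_pos.mpr ⟨R, by simp [F, H, hPR.1]⟩
  rw [Finset.card_erase_of_mem hPF] at h3F hpos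
  have hf22 : (F H).card ≠ 22 := by
    intro e
    apply h3
    have hall : F H = Finset.univ := Finset.eq_univ_of_card _ (by rw [e, hcard])
    have hbot : H = ⊥ := (Subgroup.eq_bot_iff_forall _).mpr fun x hx => h.faithful x fun R' => by
      have hR' : R' ∈ F H := hall ▸ Finset.mem_univ R'
      simp only [F, Finset.mem_filter, Finset.mem_univ, true_and] at hR'
      exact (sylow_smul_eq_iff_mem (orderOf_sylow_mem (hR' hx)) R').mpr (hR' hx)
    rw [← hH3, hbot, Subgroup.card_bot]
  have hfle : (F H).card ≤ 22 := hcard ▸ Finset.card_le_univ _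
  have hdc : 𝒦.card * (F H).card = 22 * ins.card := hcard ▸ conjugate_count H P
  have hKF : ∀ K ∈ 𝒦, (F K).card = (F H).card := by
    intro K hK
    obtain ⟨g, -, rfl⟩ := Finset.mem_image.mp hK
    refine (Finset.card_bij' (fun R' _ => g • R') (fun R' _ => g⁻¹ • R') ?_ ?_ ?_ ?_).symm
    · intro R' hR'
      simp only [F, Finset.mem_filter, Finset.mem_univ, true_and, coe_sylow_smul] at hR' ⊢
      exact conjBy_le_conjBy.mpr hR'
    · intro R' hR'
      simp only [F, Finset.mem_filter, Finset.mem_univ, true_and, coe_sylow_smul] at hR' ⊢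
      rw [← conjBy_le_conjBy (g := g⁻¹), ← conjBy_mul, inv_mul_cancel, conjBy_one] at hR'
      exact hR'
    · intro R' _; exact inv_smul_smul g R'
    · intro R' _; exact smul_inv_smul g R'
  have hroom : ins.card * ((F H).card - 1) ≤ 21 := by
    have hdisj : ((ins : Finset (Subgroup G)) : Set (Subgroup G)).PairwiseDisjoint
        fun K => (F K).erase P := by
      intro K hK K' hK' hKK'
      rw [Function.onFun, Finset.disjoint_left]
      intro R' hR hR'
      simp only [F, Finset.mem_erase, Finset.mem_filter, Finset.mem_univ, true_and] at hR hR'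
      simp only [ins, Finset.coe_filter, Set.mem_ofPred_eq] at hK hK'
      exact hKK' ((h.eq_inf_of_le hR.1 (h𝒦 K hK.1) hK.2 hR.2).2.trans
        (h.eq_inf_of_le hR'.1 (h𝒦 K' hK'.1) hK'.2 hR'.2).2.symm)
    have hle := Finset.card_le_card (s := ins.biUnion fun K => (F K).erase P)
      (t := Finset.univ.erase P) (by
        intro R' hR'
        simp only [Finset.mem_biUnion, Finset.mem_erase] at hR'
        obtain ⟨K, -, hR', -⟩ := hR'
        simp [hR'])
    rw [Finset.card_biUnion hdisj, Finset.card_erase_of_mem (Finset.mem_univ P),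
      Finset.card_univ, hcard] at hle
    have hterm : ∀ K ∈ ins, ((F K).erase P).card = (F H).card - 1 := by
      intro K hK
      simp only [ins, Finset.mem_filter] at hK
      rw [Finset.card_erase_of_mem (by simp [F, hK.2]), hKF K hK.1]
    rw [Finset.sum_congr rfl hterm, Finset.sum_const, smul_eq_mul] at hle
    exact hle
  have hc0 : 0 < ins.card := Finset.card_pos.mpr ⟨H, by
    simp only [ins, 𝒦, Finset.mem_filter, Finset.mem_image, Finset.mem_univ, true_and]
    exact ⟨⟨1, conjBy_one H⟩, inf_le_left⟩⟩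
  have hK0 : 0 < 𝒦.card := lt_of_lt_of_le hc0 (Finset.card_filter_le _ _)
  clear_value ins 𝒦
  clear hKF h𝒦 hins hset hPF hH3
  generalize (F H).card = f at *
  interval_cases f <;> omega

/-- The classes of near Sylow subgroups. -/
theorem near_structure {P : Sylow 3 G} (h3 : Nat.card (P : Subgroup G) ≠ 3) :
    {R : Sylow 3 G | Near P R}.ncard = 12 ∧
      {K : Subgroup G | ∃ R, Near P R ∧ (P : Subgroup G) ⊓ R = K}.ncard = 4 := by
  classical
  have := Fintype.ofFinite (Sylow 3 G)
  have := Fintype.ofFinite (Subgroup G)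
  have hcard : Fintype.card (Sylow 3 G) = 22 := by
    rw [← Nat.card_eq_fintype_card]; exact h.card_eq
  set nr := Finset.univ.filter fun R => Near P R
  set far := (Finset.univ.erase P).filter fun R => ¬ Near P R
  set ℋ := nr.image fun R : Sylow 3 G => (P : Subgroup G) ⊓ R
  have hnr : nr.card = 3 * ℋ.card := by
    rw [Finset.card_eq_sum_card_image (fun R : Sylow 3 G => (P : Subgroup G) ⊓ R) nr,
      mul_comm, ← smul_eq_mul, ← Finset.sum_const]
    refine Finset.sum_congr rfl fun K hK => ?_
    obtain ⟨R, hR, rfl⟩ := Finset.mem_image.mp hK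
    have hPR : Near P R := (Finset.mem_filter.mp hR).2
    have heq : ((nr.filter fun a : Sylow 3 G => (P : Subgroup G) ⊓ a = (P : Subgroup G) ⊓ R :
        Finset (Sylow 3 G)) : Set (Sylow 3 G)) =
        {R' : Sylow 3 G | (P : Subgroup G) ⊓ R ≤ R'} \ {P} := by
      ext a
      simp only [nr, Finset.coe_filter, Finset.mem_filter, Finset.mem_univ, true_and,
        Set.mem_ofPred_eq, Set.mem_diff, Set.mem_singleton_iff]
      constructor
      · exact fun ⟨ha, he⟩ => ⟨he ▸ inf_le_right, ha.1⟩
      · rintro ⟨hle, hne⟩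
        obtain ⟨h1, h2⟩ := h.eq_inf_of_le hne hPR.2.symm inf_le_left hle
        exact ⟨h1, h2.symm⟩
    rw [← Set.ncard_coe_finset, heq, Set.ncard_sdiff_singleton_of_mem
      (show P ∈ {R' : Sylow 3 G | (P : Subgroup G) ⊓ R ≤ R'} from by
        show (P : Subgroup G) ⊓ R ≤ (P : Subgroup G)
        exact inf_le_left),
      (h.block_facts h3 hPR).1]
  have heven : 2 ∣ ℋ.card := by
    have := Fintype.ofFinite G
    rw [Finset.card_eq_sum_card_image (fun K => Finset.univ.image fun g => conjBy g K) ℋ]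
    refine Finset.dvd_sum fun O hO => ?_
    obtain ⟨K, hK, rfl⟩ := Finset.mem_image.mp hO
    obtain ⟨R, hR, rfl⟩ := Finset.mem_image.mp hK
    have hPR : Near P R := (Finset.mem_filter.mp hR).2
    refine (h.block_facts h3 hPR).2.trans (dvd_of_eq (Eq.symm ?_))
    rw [← Set.ncard_coe_finset]
    congr 1
    ext K
    simp only [Finset.coe_filter, Set.mem_ofPred_eq]
    constructor
    · rintro ⟨hK', he⟩
      have hmem : K ∈ Finset.univ.image fun g => conjBy g K :=
        Finset.mem_image.mpr ⟨1, Finset.mem_univ _, conjBy_one K⟩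
      rw [he] at hmem
      obtain ⟨g, -, hg⟩ := Finset.mem_image.mp hmem
      obtain ⟨R', -, rfl⟩ := Finset.mem_image.mp hK'
      exact ⟨⟨g, hg⟩, inf_le_left⟩
    · rintro ⟨⟨g, rfl⟩, hle⟩
      have hc : 3 * Nat.card (conjBy g ((P : Subgroup G) ⊓ R)) = Nat.card (P : Subgroup G) := by
        rw [card_conjBy]; exact hPR.2.symm
      refine ⟨?_, ?_⟩
      · -- some other Sylow subgroup contains the conjugate
        have h4 : {R' : Sylow 3 G | (P : Subgroup G) ⊓ R ≤ R'}.ncard = 4 := (h.block_facts h3 hPR).1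
        obtain ⟨R₁, hR₁, hne⟩ : ∃ R₁ ∈ {R' : Sylow 3 G | (P : Subgroup G) ⊓ R ≤ R'},
            R₁ ≠ g⁻¹ • P :=
          Set.exists_ne_of_one_lt_ncard (by omega) _
        have hne' : g • R₁ ≠ P := fun e => hne (by rw [← e, inv_smul_smul])
        obtain ⟨h1, h2⟩ := h.eq_inf_of_le hne' hc hle (conjBy_le_conjBy.mpr hR₁)
        exact Finset.mem_image.mpr ⟨g • R₁, Finset.mem_filter.mpr ⟨Finset.mem_univ _, h1⟩, h2.symm⟩
      · ext L
        simp only [Finset.mem_image, Finset.mem_univ, true_and]
        constructor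
        · rintro ⟨a, rfl⟩; exact ⟨a * g, conjBy_mul _ _ _⟩
        · rintro ⟨a, rfl⟩
          exact ⟨a * g⁻¹, by rw [← conjBy_mul, inv_mul_cancel_right]⟩
  have hfar : 9 ∣ far.card := by
    refine dvd_card_invariant P far 9 (fun x hx R hR => ?_) fun R hR => ?_
    · simp only [far, Finset.mem_filter, Finset.mem_erase, Finset.mem_univ, and_true] at hR ⊢
      have hxP : x • P = P := (sylow_smul_eq_iff_mem (orderOf_sylow_mem hx) P).mpr hx
      refine ⟨fun e => hR.1 (MulAction.injective x (e.trans hxP.symm)), fun hn => hR.2 ?_⟩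
      have := hn.smul_of_mem (inv_mem hx)
      rwa [inv_smul_smul] at this
    · simp only [far, Finset.mem_filter, Finset.mem_erase, Finset.mem_univ, and_true] at hR
      exact (h.far_orbit hR.1 hR.2).symm.dvd
  have hsum : nr.card + far.card = 21 := by
    have hnr' : nr = (Finset.univ.erase P).filter fun R => Near P R := by
      ext R
      simp only [nr, Finset.mem_filter, Finset.mem_univ, true_and, Finset.mem_erase, and_true]
      exact ⟨fun hn => ⟨hn.1, hn⟩, And.right⟩
    rw [hnr', Finset.card_filter_add_card_filter_not, Finset.card_erase_of_mem (Finset.mem_univ P),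
      Finset.card_univ, hcard]
  have hn4 : ℋ.card = 4 := by omega
  constructor
  · rw [show {R : Sylow 3 G | Near P R} = (nr : Set (Sylow 3 G)) by ext; simp [nr],
      Set.ncard_coe_finset]
    omega
  · rw [show {K : Subgroup G | ∃ R, Near P R ∧ (P : Subgroup G) ⊓ R = K} =
      (ℋ : Set (Subgroup G)) by ext; simp [ℋ, nr], Set.ncard_coe_finset, hn4]

theorem far_eq_orbit {P Q : Sylow 3 G} (h3 : Nat.card (P : Subgroup G) ≠ 3) (hQ : Q ≠ P)
    (hn : ¬ Near P Q) :
    {R : Sylow 3 G | R ≠ P ∧ ¬ Near P R} = MulAction.orbit (P : Subgroup G) Q := by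
  have hsub : MulAction.orbit (P : Subgroup G) Q ⊆ {R : Sylow 3 G | R ≠ P ∧ ¬ Near P R} := by
    rintro _ ⟨x, rfl⟩
    refine ⟨fun e => ?_, fun hx => hn ?_⟩
    · apply sylow_not_mem_orbit hQ
      have hmem := MulAction.mem_orbit Q x
      rw [show x • Q = P from e] at hmem
      exact hmem
    · have := hx.smul_of_mem (inv_mem x.2)
      rwa [show (x : G)⁻¹ • (x • Q) = Q from inv_smul_smul (x : G) Q] at this
  refine (Set.eq_of_subset_of_ncard_le hsub ?_ (Set.toFinite _)).symm
  rw [← Nat.card_coe_set_eq (MulAction.orbit _ Q), h.far_orbit hQ hn]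
  have heq : {R : Sylow 3 G | R ≠ P ∧ ¬ Near P R} =
      (insert P {R : Sylow 3 G | Near P R})ᶜ := by
    ext R
    simp only [Set.mem_ofPred_eq, Set.mem_compl_iff, Set.mem_insert_iff, not_or, ne_eq]
  rw [heq, Set.ncard_compl, Set.ncard_insert_of_notMem (fun hP => hP.1 rfl) (Set.toFinite _),
    (h.near_structure h3).1, h.card_eq]

theorem nearSet_injective (P₀ : Sylow 3 G) (h3 : Nat.card (P₀ : Subgroup G) ≠ 3) :
    Function.Injective fun R : Sylow 3 G => insert R {R' : Sylow 3 G | Near R R'} := by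
  classical
  have := Fintype.ofFinite (Sylow 3 G)
  have := Fintype.ofFinite (Set (Sylow 3 G))
  let B : Sylow 3 G → Set (Sylow 3 G) := fun R => insert R {R' : Sylow 3 G | Near R R'}
  show Function.Injective B
  have hBmem : ∀ R R', R' ∈ B R ↔ R' = R ∨ Near R R' := fun R R' => Iff.rfl
  have hsymm : ∀ R R', R' ∈ B R → R ∈ B R' := by
    intro R R' hmem
    rcases (hBmem R R').mp hmem with e | e
    · rw [e]; exact Or.inl rfl
    · exact Or.inr e.symm
  have hB13 : ∀ R, (B R).ncard = 13 := fun R => by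
    rw [Set.ncard_insert_of_notMem (fun hR => hR.1 rfl) (Set.toFinite _),
      (h.near_structure (by rw [card_sylow_eq_card R P₀]; exact h3)).1]
  have hequiv : ∀ (g : G) R R', R' ∈ B R → g • R' ∈ B (g • R) := by
    intro g R R' hmem
    rcases (hBmem R R').mp hmem with e | e
    · rw [e]; exact Or.inl rfl
    · exact Or.inr (e.smul g)
  let fib : Set (Sylow 3 G) → Finset (Sylow 3 G) := fun s => Finset.univ.filter fun R => B R = s
  set d := (fib (B P₀)).card
  have hBg : ∀ (g : G) (R : Sylow 3 G), B (g • R) = (g • ·) '' B R := by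
    intro g R
    ext R'
    constructor
    · intro hR'
      refine ⟨g⁻¹ • R', ?_, smul_inv_smul g R'⟩
      have := hequiv g⁻¹ _ _ hR'
      rwa [inv_smul_smul] at this
    · rintro ⟨R'', hR'', rfl⟩
      exact hequiv g _ _ hR''
  have hd : ∀ R, (fib (B R)).card = d := by
    intro R
    obtain ⟨g, rfl⟩ := MulAction.exists_smul_eq G P₀ R
    refine (Finset.card_bij' (fun S _ => g • S) (fun S _ => g⁻¹ • S) ?_ ?_ ?_ ?_).symm
    · intro S hS
      simp only [fib, Finset.mem_filter, Finset.mem_univ, true_and] at hS ⊢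
      rw [hBg, hBg, hS]
    · intro S hS
      simp only [fib, Finset.mem_filter, Finset.mem_univ, true_and] at hS ⊢
      rw [hBg, hS, hBg, Set.image_image]
      simp
    · intro S _; exact inv_smul_smul g S
    · intro S _; exact smul_inv_smul g S
  have h22 : d ∣ 22 := by
    rw [← h.card_eq, Nat.card_eq_fintype_card, ← Finset.card_univ,
      Finset.card_eq_sum_card_image B Finset.univ]
    refine Finset.dvd_sum fun s hs => ?_
    obtain ⟨R, -, rfl⟩ := Finset.mem_image.mp hs
    exact (hd R).symm.dvd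
  have h13 : d ∣ 13 := by
    rw [← hB13 P₀, Set.ncard_eq_toFinset_card', Finset.card_eq_sum_card_image B]
    refine Finset.dvd_sum fun s hs => ?_
    obtain ⟨R, hR, rfl⟩ := Finset.mem_image.mp hs
    have : (B P₀).toFinset.filter (fun S => B S = B R) = fib (B R) := by
      ext S
      simp only [fib, Finset.mem_filter, Set.mem_toFinset, Finset.mem_univ, true_and,
        and_iff_right_iff_imp]
      intro e
      have hR' := hsymm _ _ (Set.mem_toFinset.mp hR)
      rw [← e] at hR'
      exact hsymm _ _ hR'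
    rw [this, hd]
  have hd1 : d = 1 := Nat.eq_one_of_dvd_coprimes (by norm_num : Nat.Coprime 22 13) h22 h13
  intro R R' e
  have h1 := hd R
  rw [hd1, Finset.card_eq_one] at h1
  obtain ⟨S, hS⟩ := h1
  have hR : R ∈ fib (B R) := by simp [fib]
  have hR' : R' ∈ fib (B R) := by simp only [fib, Finset.mem_filter, Finset.mem_univ, true_and]; exact e.symm
  rw [hS, Finset.mem_singleton] at hR hR'
  rw [hR, hR']

theorem far_inf_le_near {P R Q : Sylow 3 G} (h3 : Nat.card (P : Subgroup G) ≠ 3) (hPR : Near P R)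
    (hQ : Q ≠ P) (hn : ¬ Near P Q) : (P : Subgroup G) ⊓ Q ≤ (P : Subgroup G) ⊓ R := by
  by_contra hle
  set H := (P : Subgroup G) ⊓ R
  set J := (P : Subgroup G) ⊓ Q
  -- `H` is transitive on the far Sylow subgroups
  have hHJ : (MulAction.orbit H Q) = MulAction.orbit (P : Subgroup G) Q := by
    have hsub : MulAction.orbit H Q ⊆ MulAction.orbit (P : Subgroup G) Q := by
      rintro _ ⟨x, rfl⟩
      exact ⟨⟨x, inf_le_left (b := (R : Subgroup G)) x.2⟩, rfl⟩
    refine Set.eq_of_subset_of_ncard_le hsub ?_ (Set.toFinite _)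
    rw [← Nat.card_coe_set_eq, h.far_orbit hQ hn, ← Nat.card_coe_set_eq]
    have hmul := card_orbit_mul_inf (inf_le_left : H ≤ (P : Subgroup G)) Q
    have hP9 := card_orbit_mul_inf (le_refl (P : Subgroup G)) Q
    rw [h.far_orbit hQ hn] at hP9
    have h3H : Nat.card (P : Subgroup G) = 3 * Nat.card H := hPR.2
    have hHQ : H ⊓ (Q : Subgroup G) < J := by
      refine lt_of_le_not_ge (le_inf (inf_le_left.trans inf_le_left) inf_le_right) fun hge => hle ?_
      exact hge.trans inf_le_left
    obtain ⟨c, hc⟩ := Subgroup.card_dvd_of_le hHQ.le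
    have hc2 : 2 ≤ c := by
      rcases Nat.lt_or_ge c 2 with hlt | hge
      · exfalso
        refine hHQ.ne (Subgroup.eq_of_le_of_card_ge hHQ.le ?_)
        rw [hc]
        exact (Nat.mul_le_mul_left _ (Nat.lt_succ_iff.mp hlt)).trans (mul_one _).le
      · exact hge
    obtain ⟨k, hk⟩ := (P.isPGroup'.to_le (inf_le_left : H ≤ (P : Subgroup G))).card_orbit Q
    have hpos : 0 < Nat.card (H ⊓ (Q : Subgroup G) : Subgroup G) := Nat.card_pos
    have h6 : 6 ≤ Nat.card (MulAction.orbit H Q) := by
      have hJc : 9 * Nat.card J = 3 * Nat.card H := hP9.trans h3H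
      rw [hc, ← hmul] at hJc
      have h3c : 3 * c = Nat.card (MulAction.orbit H Q) := by
        apply Nat.eq_of_mul_eq_mul_right hpos
        nlinarith [hJc]
      omega
    rw [hk] at h6 ⊢
    by_contra hlt
    have : k < 2 := by
      by_contra hc'
      exact hlt ((show 9 = 3 ^ 2 by norm_num).le.trans
        (Nat.pow_le_pow_right (by norm_num) (not_lt.mp hc')))
    interval_cases k <;> omega
  set O := {S : Sylow 3 G | S ≠ P ∧ ¬ Near P S}
  have hO : O = MulAction.orbit (P : Subgroup G) Q := h.far_eq_orbit h3 hQ hn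
  let B : Sylow 3 G → Set (Sylow 3 G) := fun S => insert S {S' : Sylow 3 G | Near S S'}
  have hB13 : ∀ S, (B S).ncard = 13 := fun S => by
    rw [Set.ncard_insert_of_notMem (fun hS => hS.1 rfl) (Set.toFinite _),
      (h.near_structure (by rw [card_sylow_eq_card S P]; exact h3)).1]
  have hinj := h.nearSet_injective P h3
  -- the neighbourhood of `R` is invariant under `H`
  have hBinv : ∀ x ∈ H, ∀ S ∈ B R, x • S ∈ B R := by
    intro x hx S hS
    rcases hS with e | e
    · rw [show S = R from e, (sylow_smul_eq_iff_mem (orderOf_sylow_mem hx.2) R).mpr hx.2]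
      exact Or.inl rfl
    · exact Or.inr (Near.smul_of_mem e hx.2)
  by_cases hmeet : ∃ S ∈ O, S ∈ B R
  · -- the neighbourhood contains all far Sylow subgroups
    set F := {S : Sylow 3 G | H ≤ ↑S}
    have hFcard : F.ncard = 4 := (h.block_facts h3 hPR).1
    have hFnot : Disjoint F O := by
      rw [Set.disjoint_left]
      intro S hS hSO
      exact hSO.2 (h.eq_inf_of_le hSO.1 hPR.2.symm inf_le_left hS).1
    have key : ∀ S, Near P S → (P : Subgroup G) ⊓ S = H → (∃ T ∈ O, T ∈ B S) → B S = F ∪ O := by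
      intro S hPS hSH hex
      symm
      refine Set.eq_of_subset_of_ncard_le ?_ ?_ (Set.toFinite _)
      · refine Set.union_subset (fun T hT => ?_) ?_
        · rcases eq_or_ne T S with e | e
          · exact Or.inl e
          · have hHS : H ≤ ↑S := hSH ▸ inf_le_right
            have h3' : 3 * Nat.card H = Nat.card (S : Subgroup G) := by
              rw [card_sylow_eq_card S P]; exact hPR.2.symm
            exact Or.inr (h.eq_inf_of_le e h3' hHS hT).1
        · obtain ⟨T, hTO, hTB⟩ := hex
          intro T' hT'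
          rw [hO, ← hHJ] at hTO hT'
          rw [← MulAction.orbit_eq_iff.mpr hTO] at hT'
          obtain ⟨x, rfl⟩ := hT'
          have hxS : (x : G) ∈ (S : Subgroup G) := (show H ≤ ↑S from hSH ▸ inf_le_right) x.2
          rcases hTB with e | e
          · rw [show T = S from e]
            exact Or.inl ((sylow_smul_eq_iff_mem (orderOf_sylow_mem hxS) S).mpr hxS)
          · exact Or.inr (Near.smul_of_mem e hxS)
      · rw [hB13, Set.ncard_union_eq hFnot (Set.toFinite _) (Set.toFinite _), hFcard, hO,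
          ← Nat.card_coe_set_eq (MulAction.orbit _ Q), h.far_orbit hQ hn]
    obtain ⟨x, hx, hxR⟩ : ∃ x ∈ (P : Subgroup G), x • R ≠ R := by
      by_contra! hall
      exact hPR.1 (Sylow.ext (P.is_maximal' R.isPGroup'
        fun x hx => (sylow_smul_eq_iff_mem (orderOf_sylow_mem hx) R).mp (hall x hx)))
    apply hxR
    apply hinj
    show B (x • R) = B R
    rw [key R hPR rfl hmeet]
    refine key (x • R) (hPR.smul_of_mem hx) ?_ ?_
    · have hxP : x • P = P := (sylow_smul_eq_iff_mem (orderOf_sylow_mem hx) P).mpr hx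
      calc (P : Subgroup G) ⊓ ↑(x • R)
          = ((x • P : Sylow 3 G) : Subgroup G) ⊓ ↑(x • R) := by rw [hxP]
        _ = conjBy x H := by rw [coe_sylow_smul, coe_sylow_smul, ← conjBy_inf]
        _ = H := conjBy_eq_self (hPR.mem_normalizer hx)
    · obtain ⟨S, hSO, hSB⟩ := hmeet
      refine ⟨x • S, ?_, ?_⟩
      · rw [hO] at hSO ⊢
        obtain ⟨y, rfl⟩ := hSO
        exact ⟨⟨x, hx⟩ * y, mul_smul _ _ _⟩
      · rcases hSB with e | e
        · rw [show S = R from e]; exact Or.inl rfl
        · exact Or.inr (e.smul x)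
  · -- the neighbourhoods coincide
    push Not at hmeet
    apply hPR.1
    apply hinj
    show B R = B P
    refine Set.eq_of_subset_of_ncard_le (fun S hS => ?_) (by rw [hB13, hB13]) (Set.toFinite _)
    by_contra hSB
    exact hmeet S ⟨fun e => hSB (Or.inl e), fun e => hSB (Or.inr e)⟩ hS

theorem card_sylow_cases (P : Sylow 3 G) :
    Nat.card (P : Subgroup G) = 3 ∨ Nat.card (P : Subgroup G) = 9 := by
  by_cases h3 : Nat.card (P : Subgroup G) = 3
  · exact Or.inl h3
  right
  obtain ⟨h12, h4⟩ := h.near_structure h3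
  obtain ⟨Q, hQ, hn⟩ : ∃ Q : Sylow 3 G, Q ≠ P ∧ ¬ Near P Q := by
    by_contra! hall
    have : insert P {R : Sylow 3 G | Near P R} = Set.univ :=
      Set.eq_univ_of_forall fun R => (em (R = P)).imp id (hall R)
    have := congrArg Set.ncard this
    rw [Set.ncard_insert_of_notMem (fun hP => hP.1 rfl) (Set.toFinite _), h12, Set.ncard_univ,
      h.card_eq] at this
    omega
  have hlt : 1 < {K : Subgroup G | ∃ R, Near P R ∧ (P : Subgroup G) ⊓ R = K}.ncard := by omega
  obtain ⟨K₁, hK₁, -⟩ := Set.exists_ne_of_one_lt_ncard hlt ((P : Subgroup G) ⊓ Q)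
  obtain ⟨K₂, hK₂, hne⟩ := Set.exists_ne_of_one_lt_ncard hlt K₁
  obtain ⟨R₁, hR₁, rfl⟩ := hK₁
  obtain ⟨R₂, hR₂, rfl⟩ := hK₂
  set H₁ := (P : Subgroup G) ⊓ R₁
  set H₂ := (P : Subgroup G) ⊓ R₂
  have hJ : ∀ S : Sylow 3 G, S ≠ P → ¬ Near P S → (P : Subgroup G) ⊓ S = H₁ ⊓ H₂ := by
    intro S hS hnS
    refine Subgroup.eq_of_le_of_card_ge
      (le_inf (h.far_inf_le_near h3 hR₁ hS hnS) (h.far_inf_le_near h3 hR₂ hS hnS)) ?_
    have hP9 := card_orbit_mul_inf (le_refl (P : Subgroup G)) S
    rw [h.far_orbit hS hnS] at hP9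
    have h3H : Nat.card (P : Subgroup G) = 3 * Nat.card H₁ := hR₁.2
    obtain ⟨m, hm⟩ := (P.isPGroup'.to_le (inf_le_left : H₁ ≤ (P : Subgroup G))).exists_card_eq
    obtain ⟨c, hc⟩ := Subgroup.card_dvd_of_le (inf_le_left : H₁ ⊓ H₂ ≤ H₁)
    have hc1 : c ≠ 1 := by
      rintro rfl
      rw [mul_one] at hc
      have h12le : H₁ ≤ H₂ :=
        (Subgroup.eq_of_le_of_card_ge (inf_le_left : H₁ ⊓ H₂ ≤ H₁) hc.le).symm.le.trans inf_le_right
      refine hne (Subgroup.eq_of_le_of_card_ge h12le ?_).symm
      have h3H2 : Nat.card (P : Subgroup G) = 3 * Nat.card H₂ := hR₂.2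
      omega
    have hcd : c ∣ 3 ^ m := hm ▸ hc ▸ dvd_mul_left _ _
    obtain ⟨j, -, rfl⟩ := (Nat.dvd_prime_pow Nat.prime_three).mp hcd
    have hj : 3 ≤ 3 ^ j := by
      rcases j with _ | j
      · simp at hc1
      · exact Nat.le_self_pow (Nat.succ_ne_zero j) 3
    have : Nat.card (H₁ ⊓ H₂ : Subgroup G) * 3 ≤ Nat.card H₁ := by
      rw [hc]; exact Nat.mul_le_mul_left _ hj
    omega
  have hbot : H₁ ⊓ H₂ = ⊥ := by
    rw [Subgroup.eq_bot_iff_forall]
    intro x hx
    apply h.faithful
    intro S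
    have hxP : x ∈ (P : Subgroup G) := hx.1.1
    rw [sylow_smul_eq_iff_mem (orderOf_sylow_mem hxP)]
    by_cases hS : S = P
    · exact hS ▸ hxP
    by_cases hnS : Near P S
    · have := h.far_inf_le_near h3 hnS hQ hn
      rw [hJ Q hQ hn] at this
      exact (this hx).2
    · exact ((hJ S hS hnS).symm ▸ hx : x ∈ (P : Subgroup G) ⊓ S).2
  have hP9 := card_orbit_mul_inf (le_refl (P : Subgroup G)) Q
  rw [h.far_orbit hQ hn, hJ Q hQ hn, hbot, Subgroup.card_bot] at hP9
  omega

end TwentyTwo

end H3
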