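import Mathlib.GroupTheory.Transfer
import Mathlib.GroupTheory.GroupAction.Blocks
import Mathlib.Data.Nat.Totient
import Mathlib.NumberTheory.Padics.PadicVal.Basic
import Cfsg.Agent.H3.SylowThreeStructure

/-!
Sylow `11`-normalisers in a simple group with twenty-two Sylow `3`-subgroups.
-/

set_option autoImplicit false

namespace H3

open Subgroup
open scoped Pointwise

universe u

variable {G : Type u} [Group G] [Finite G]

local instance threePrimeFact' : Fact (Nat.Prime 3) := ⟨Nat.prime_three⟩
local instance elevenPrimeFact : Fact (Nat.Prime 11) := ⟨by norm_num⟩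

namespace TwentyTwo

variable (h : TwentyTwo G)

include h

theorem card_eq_twentytwo_mul (P : Sylow 3 G) :
    Nat.card G = 22 * Nat.card (normalizer ((P : Subgroup G) : Set G)) := by
  rw [← (normalizer ((P : Subgroup G) : Set G)).card_mul_index,
    show (normalizer ((P : Subgroup G) : Set G)).index = 22 from
      P.card_eq_index_normalizer.symm.trans h.card_eq, mul_comm]

theorem sylow_eleven [IsSimpleGroup G]
    (hN : ∀ P : Sylow 3 G, ¬ 11 ∣ Nat.card (normalizer ((P : Subgroup G) : Set G)))
    (Q : Sylow 11 G) :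
    Nat.card (Q : Subgroup G) = 11 ∧ centralizer ((Q : Subgroup G) : Set G) = Q ∧
      ∃ e, Nat.card (normalizer ((Q : Subgroup G) : Set G)) = 11 * e ∧ e ∣ 10 ∧ e ≠ 1 := by
  classical
  have := Fintype.ofFinite G
  have := Fintype.ofFinite (Sylow 3 G)
  have hcard : Fintype.card (Sylow 3 G) = 22 := by
    rw [← Nat.card_eq_fintype_card]; exact h.card_eq
  obtain ⟨P₀⟩ : Nonempty (Sylow 3 G) := inferInstance
  have hG := h.card_eq_twentytwo_mul P₀
  have h2G : 2 < Nat.card G := by
    have : 0 < Nat.card (normalizer ((P₀ : Subgroup G) : Set G)) := Nat.card_pos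
    omega
  have hQ11 : Nat.card (Q : Subgroup G) = 11 := by
    have hpos : 0 < Nat.card (normalizer ((P₀ : Subgroup G) : Set G)) := Nat.card_pos
    rw [Q.card_eq_multiplicity, hG, show 22 = 11 * 2 by rfl, mul_assoc,
      Nat.factorization_def _ (Fact.out : (11 : ℕ).Prime),
      padicValNat.mul (by norm_num) (by positivity),
      padicValNat.mul (by norm_num) (by positivity), padicValNat.self (by norm_num),
      padicValNat.eq_zero_of_not_dvd (by norm_num : ¬ 11 ∣ 2),
      padicValNat.eq_zero_of_not_dvd (hN P₀)]
    norm_num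
  obtain ⟨zQ, hzQ⟩ := exists_prime_orderOf_dvd_card' (G := (Q : Subgroup G)) 11 (by rw [hQ11])
  set z : G := (zQ : G)
  have hz : orderOf z = 11 := (orderOf_coe zQ).trans hzQ
  have hzp : zpowers z = (Q : Subgroup G) :=
    Subgroup.eq_of_le_of_card_ge (zpowers_le.mpr zQ.2) (by rw [Nat.card_zpowers, hz, hQ11])
  -- no element of order eleven fixes a point
  have hfree : ∀ y ∈ (Q : Subgroup G), ∀ R : Sylow 3 G, y • R = R → y = 1 := by
    intro y hy R hR
    by_contra hy1
    have hoy : orderOf y = 11 := by
      refine ((Fact.out : (11 : ℕ).Prime).eq_one_or_self_of_dvd _ ?_).resolve_left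
        (fun e => hy1 (orderOf_eq_one_iff.mp e))
      have := orderOf_dvd_natCard (⟨y, hy⟩ : (Q : Subgroup G))
      rwa [← orderOf_coe, hQ11] at this
    apply hN R
    have hyN := Sylow.smul_eq_iff_mem_normalizer.mp hR
    have := orderOf_dvd_natCard (⟨y, hyN⟩ : normalizer ((R : Subgroup G) : Set G))
    rwa [← orderOf_coe, hoy] at this
  have horb : ∀ R : Sylow 3 G, (MulAction.orbit (Q : Subgroup G) R).ncard = 11 := by
    intro R
    rw [← Nat.card_coe_set_eq, Nat.card_congr (MulAction.orbitEquivQuotientStabilizer _ R),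
      ← Subgroup.index_eq_card]
    have hbot : MulAction.stabilizer (Q : Subgroup G) R = ⊥ :=
      (Subgroup.eq_bot_iff_forall _).mpr fun y hy => Subtype.ext (hfree y y.2 R hy)
    rw [hbot, Subgroup.index_bot, hQ11]
  set C := centralizer ((Q : Subgroup G) : Set G)
  have hQC : (Q : Subgroup G) ≤ C := by
    rw [← hzp]
    intro y hy
    rw [Subgroup.mem_centralizer_iff]
    intro x hx
    obtain ⟨i, rfl⟩ := mem_zpowers_iff.mp (show x ∈ zpowers z by rw [hzp]; exact hx)
    obtain ⟨j, rfl⟩ := mem_zpowers_iff.mp hy
    rw [← zpow_add, ← zpow_add, add_comm]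
  have hcomm : ∀ c ∈ C, ∀ y ∈ (Q : Subgroup G), ∀ R : Sylow 3 G, c • y • R = y • c • R := by
    intro c hc y hy R
    rw [← mul_smul, ← mul_smul, Subgroup.mem_centralizer_iff.mp hc y hy]
  set O := MulAction.orbit (Q : Subgroup G) P₀
  have hOinv : ∀ c ∈ C, c • P₀ ∈ O → ∀ R ∈ O, c • R ∈ O := by
    rintro c hc ⟨y₀, hy₀⟩ _ ⟨y, rfl⟩
    refine ⟨y * y₀, ?_⟩
    show (((y * y₀ : (Q : Subgroup G))) : G) • P₀ = c • (y : G) • P₀
    rw [hcomm c hc y y.2, Subgroup.coe_mul, mul_smul,
      ← (show (y₀ : G) • P₀ = c • P₀ from hy₀)]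
  have hpres : ∀ c ∈ C, c • P₀ ∈ O → c ∈ (Q : Subgroup G) := by
    intro c hc hcO
    have hback : ∀ R : Sylow 3 G, c • R ∈ MulAction.orbit (Q : Subgroup G) R := by
      intro R
      by_cases hR : R ∈ O
      · rw [MulAction.orbit_eq_iff.mpr hR]
        exact hOinv c hc hcO R hR
      · have hmiss : c • R ∉ O := by
          intro hmem
          apply hR
          have hsub : (c • ·) '' O ⊆ O := by
            rintro _ ⟨S, hS, rfl⟩; exact hOinv c hc hcO S hS
          have heq := Set.eq_of_subset_of_ncard_le hsub
            (Set.ncard_image_of_injective _ (MulAction.injective c)).ge (Set.toFinite _)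
          rw [← heq] at hmem
          obtain ⟨S, hS, hSR⟩ := hmem
          rwa [← MulAction.injective c hSR]
        have hu : O ∪ MulAction.orbit (Q : Subgroup G) R = Set.univ := by
          refine Set.eq_of_subset_of_ncard_le (Set.subset_univ _) ?_ (Set.toFinite _)
          rw [Set.ncard_union_eq ?_ (Set.toFinite _) (Set.toFinite _), horb, horb, Set.ncard_univ,
            h.card_eq]
          refine (MulAction.orbit.eq_or_disjoint P₀ R).resolve_left fun e => hR ?_
          rw [show O = MulAction.orbit (Q : Subgroup G) R from e]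
          exact MulAction.mem_orbit_self R
        have := hu.symm ▸ Set.mem_univ (c • R)
        exact this.resolve_left hmiss
    have h11 : c ^ 11 = 1 := h.faithful _ fun R => by
      obtain ⟨y, hy⟩ := hback R
      have hpow : ∀ k : ℕ, c ^ k • R = (y : G) ^ k • R := by
        intro k
        induction k with
        | zero => simp
        | succ k ih =>
          rw [pow_succ c, mul_smul, ← (show (y : G) • R = c • R from hy),
            hcomm (c ^ k) (pow_mem hc k) y y.2, ih, ← mul_smul, ← pow_succ']
      have hy11 : (y : G) ^ 11 = 1 := by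
        have := orderOf_dvd_natCard y
        rw [hQ11, orderOf_dvd_iff_pow_eq_one] at this
        exact congrArg Subtype.val this
      rw [hpow, hy11, one_smul]
    by_cases hc1 : c = 1
    · rw [hc1]; exact one_mem _
    exact (sylow_smul_eq_iff_mem ⟨1, by rw [pow_one]; exact orderOf_eq_prime h11 hc1⟩ Q).mp
      (Sylow.smul_eq_iff_mem_normalizer.mpr (Subgroup.centralizer_le_normalizer _ hc))
  have hCQ : C = Q := by
    refine le_antisymm (fun c hc => hpres c hc ?_) hQC
    by_contra hcO
    -- `c` interchanges the two orbits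
    have hc2 : c ^ 2 ∈ (Q : Subgroup G) := by
      refine hpres _ (pow_mem hc 2) ?_
      by_contra hmiss
      have hu : O ∪ MulAction.orbit (Q : Subgroup G) (c • P₀) = Set.univ := by
        refine Set.eq_of_subset_of_ncard_le (Set.subset_univ _) ?_ (Set.toFinite _)
        rw [Set.ncard_union_eq ?_ (Set.toFinite _) (Set.toFinite _), horb, horb, Set.ncard_univ,
          h.card_eq]
        refine (MulAction.orbit.eq_or_disjoint P₀ (c • P₀)).resolve_left fun e => hcO ?_
        rw [show O = MulAction.orbit (Q : Subgroup G) (c • P₀) from e]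
        exact MulAction.mem_orbit_self _
      have h1 := hu.symm ▸ Set.mem_univ (c ^ 2 • P₀)
      obtain ⟨y, hy⟩ := h1.resolve_left hmiss
      have hy' : (y : G) • c • P₀ = c • c • P₀ := by rw [← mul_smul c c, ← sq]; exact hy
      rw [← hcomm c hc y y.2] at hy'
      exact hcO (MulAction.injective c hy' ▸ ⟨y, rfl⟩)
    -- an involution in its coset
    set v := c ^ 11
    have hv2 : v ^ 2 = 1 := by
      have := orderOf_dvd_natCard (⟨c ^ 2, hc2⟩ : (Q : Subgroup G))
      rw [hQ11, orderOf_dvd_iff_pow_eq_one] at this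
      rw [show v ^ 2 = (c ^ 2) ^ 11 by rw [← pow_mul, ← pow_mul]]
      exact congrArg Subtype.val this
    have hvC : v ∈ C := pow_mem hc 11
    have hvO : v • P₀ ∉ O := by
      intro hmem
      have hvQ := hpres v hvC hmem
      apply hcO
      have hcQ : c ∈ (Q : Subgroup G) := by
        have : c = v * ((c ^ 2) ^ 5)⁻¹ := by
          rw [← pow_mul, eq_mul_inv_iff_mul_eq, ← pow_succ']
        rw [this]
        exact mul_mem hvQ (inv_mem (pow_mem hc2 5))
      exact ⟨⟨c, hcQ⟩, rfl⟩
    have hsupp : (MulAction.toPermHom G (Sylow 3 G) v).support = Finset.univ := by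
      ext R
      simp only [Equiv.Perm.mem_support, Finset.mem_univ, iff_true]
      intro hR
      have hR' : v • R = R := hR
      apply hvO
      have hfix : ∀ S ∈ MulAction.orbit (Q : Subgroup G) R, v • S = S := by
        rintro _ ⟨y, rfl⟩
        show v • (y : G) • R = (y : G) • R
        rw [hcomm v hvC y y.2, hR']
      by_cases hP : P₀ ∈ MulAction.orbit (Q : Subgroup G) R
      · rw [hfix P₀ hP]; exact MulAction.mem_orbit_self P₀
      · have hu : O ∪ MulAction.orbit (Q : Subgroup G) R = Set.univ := by
          refine Set.eq_of_subset_of_ncard_le (Set.subset_univ _) ?_ (Set.toFinite _)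
          rw [Set.ncard_union_eq ?_ (Set.toFinite _) (Set.toFinite _), horb, horb, Set.ncard_univ,
            h.card_eq]
          refine (MulAction.orbit.eq_or_disjoint P₀ R).resolve_left fun e => hP ?_
          rw [← show O = MulAction.orbit (Q : Subgroup G) R from e]
          exact MulAction.mem_orbit_self _
        rcases hu.symm ▸ Set.mem_univ (v • P₀) with hO | hO
        · exact hO
        · exact absurd (MulAction.injective v (hfix _ hO) ▸ hO) hP
    have hne : MulAction.toPermHom G (Sylow 3 G) v ≠ 1 := by
      intro e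
      rw [e, Equiv.Perm.support_one] at hsupp
      exact Finset.univ_nonempty.ne_empty hsupp.symm
    have hs := sign_involution (σ := MulAction.toPermHom G (Sylow 3 G) v)
      (by rw [← map_pow, hv2, map_one]) hne (m := 11)
      (by rw [hsupp, Finset.card_univ, hcard])
    rw [sign_toPermHom_eq_one h2G] at hs
    exact absurd hs (by decide)
  refine ⟨hQ11, hCQ, ((Q : Subgroup G).normalizerMonoidHom).ker.index, ?_, ?_, ?_⟩
  · rw [← Subgroup.card_mul_index ((Q : Subgroup G).normalizerMonoidHom).ker,
      Subgroup.normalizerMonoidHom_ker,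
      Nat.card_congr (Subgroup.subgroupOfEquivOfLe (Subgroup.centralizer_le_normalizer _)).toEquiv,
      show centralizer ((Q : Subgroup G) : Set G) = Q from hCQ, hQ11]
  · rw [Subgroup.index_ker]
    haveI : IsCyclic (Q : Subgroup G) := isCyclic_of_prime_card hQ11
    refine (Subgroup.card_subgroup_dvd_card _).trans ?_
    rw [IsCyclic.card_mulAut, hQ11, Nat.totient_prime (Fact.out : (11 : ℕ).Prime)]
  · intro he1
    have htop := Subgroup.index_eq_one.mp he1
    have hNC : normalizer ((Q : Subgroup G) : Set G) ≤ centralizer ((Q : Subgroup G) : Set G) := by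
      intro x hx
      have hker : (⟨x, hx⟩ : normalizer ((Q : Subgroup G) : Set G)) ∈
          ((Q : Subgroup G).normalizerMonoidHom).ker := htop ▸ mem_top _
      rw [Subgroup.normalizerMonoidHom_ker] at hker
      exact hker
    have hcompl := MonoidHom.ker_transferSylow_isComplement' Q hNC
    have hidx : (MonoidHom.transferSylow Q hNC).ker.index = 11 :=
      hcompl.symm.index_eq_card.trans hQ11
    rcases (MonoidHom.normal_ker (MonoidHom.transferSylow Q hNC)).eq_bot_or_eq_top with hk | hk
    · rw [hk, Subgroup.index_bot] at hidx; omega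
    · rw [hk, Subgroup.index_top] at hidx; omega

end TwentyTwo

end H3
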