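import Mathlib.Tactic.FinCases
import Mathlib.GroupTheory.Perm.Fin
import Cfsg.Agent.H3.SylowThreeEleven

/-!
No finite group has exactly twenty-two Sylow `3`-subgroups.

A minimal counterexample is simple with Sylow `3`-subgroups of order three or nine; the count of
Sylow `11`-subgroups then leaves few orders, each of which gives an odd permutation or an element
of order five with an impossible support.
-/

set_option autoImplicit false

namespace H3

open Subgroup
open scoped Pointwise

universe u

variable {G : Type u} [Group G] [Finite G]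

local instance threePrimeFact'' : Fact (Nat.Prime 3) := ⟨Nat.prime_three⟩
local instance elevenPrimeFact' : Fact (Nat.Prime 11) := ⟨by norm_num⟩

/-- A group of permutations of seven letters of order prime to three has order prime to 35. -/
theorem not_thirtyfive_dvd_perm_seven {α : Type*} [Fintype α] [DecidableEq α]
    (hα : Fintype.card α = 7) (D : Subgroup (Equiv.Perm α)) (h3 : ¬ 3 ∣ Nat.card D) :
    ¬ 35 ∣ Nat.card D := by
  intro h35
  haveI : Fact (Nat.Prime 7) := ⟨by norm_num⟩
  haveI : Fact (Nat.Prime 5) := ⟨by norm_num⟩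
  have hdvd : Nat.card D ∣ 5040 := by
    have := D.card_subgroup_dvd_card
    rwa [Nat.card_eq_fintype_card (α := Equiv.Perm α), Fintype.card_perm, hα,
      show Nat.factorial 7 = 5040 by decide] at this
  obtain ⟨Q⟩ : Nonempty (Sylow 7 D) := inferInstance
  set M := normalizer ((Q : Subgroup D) : Set D)
  have hn7 : Nat.card (Sylow 7 D) ∣ (Q : Subgroup D).index := Sylow.card_dvd_index Q
  have hQ7 : Nat.card (Q : Subgroup D) = 7 := by
    obtain ⟨k, hk⟩ := Q.isPGroup'.exists_card_eq
    have hle : 7 ^ k ∣ 5040 := (hk ▸ (Q : Subgroup D).card_subgroup_dvd_card).trans hdvd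
    have hk1 : k < 2 := by
      by_contra hc
      have : 7 ^ 2 ∣ 5040 := (pow_dvd_pow 7 (not_lt.mp hc)).trans hle
      omega
    interval_cases k
    · exfalso
      have := Q.dvd_card_of_dvd_card ((show 7 ∣ 35 by norm_num).trans h35)
      rw [hk] at this
      norm_num at this
    · simpa using hk
  have h5M : 5 ∣ Nat.card M := by
    have h5 : 5 ∣ Nat.card M * M.index := by
      rw [M.card_mul_index]; exact (show 5 ∣ 35 by norm_num).trans h35
    refine ((Fact.out : (5 : ℕ).Prime).dvd_mul.mp h5).resolve_right fun h5i => ?_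
    have hi : M.index = Nat.card (Sylow 7 D) := Q.card_eq_index_normalizer.symm
    have hmod : Nat.card (Sylow 7 D) % 7 = 1 := card_sylow_modEq_one 7 D
    have hdvd80 : Nat.card (Sylow 7 D) ∣ 80 := by
      have h1 : Nat.card (Sylow 7 D) ∣ 720 := by
        have h2 := hdvd
        rw [← (Q : Subgroup D).card_mul_index, hQ7, show 5040 = 7 * 720 by rfl] at h2
        exact hn7.trans (Nat.dvd_of_mul_dvd_mul_left (by norm_num) h2)
      refine (Nat.Coprime.dvd_of_dvd_mul_right ?_ (show Nat.card (Sylow 7 D) ∣ 80 * 9 from h1))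
      have : ¬ 3 ∣ Nat.card (Sylow 7 D) := fun h => h3 (h.trans (hi ▸ M.index_dvd_card))
      exact ((Nat.prime_three.coprime_iff_not_dvd.mpr this).pow_left 2).symm
    obtain ⟨j, hj⟩ := hi ▸ h5i
    rw [hj] at hdvd80 hmod
    have hj16 : j ∣ 16 :=
      Nat.dvd_of_mul_dvd_mul_left (by norm_num) (show 5 * j ∣ 5 * 16 from hdvd80)
    obtain ⟨i, hi4, rfl⟩ := (Nat.dvd_prime_pow Nat.prime_two).mp (show j ∣ 2 ^ 4 from hj16)
    interval_cases i <;> norm_num at hmod
  obtain ⟨a, ha⟩ := exists_prime_orderOf_dvd_card' (G := M) 5 h5M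
  obtain ⟨b, hb⟩ := exists_prime_orderOf_dvd_card' (G := (Q : Subgroup D)) 7 (by rw [hQ7])
  -- the element of order five centralises the one of order seven
  have hcomm : Commute ((a : D) : Equiv.Perm α) ((b : D) : Equiv.Perm α) := by
    haveI : IsCyclic (Q : Subgroup D) := isCyclic_of_prime_card hQ7
    have hker : a ∈ ((Q : Subgroup D).normalizerMonoidHom).ker := by
      rw [MonoidHom.mem_ker, ← orderOf_eq_one_iff]
      refine Nat.eq_one_of_dvd_coprimes (show Nat.Coprime 5 6 by norm_num)
        ((orderOf_map_dvd _ a).trans ha.dvd) ?_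
      refine (_root_.orderOf_dvd_natCard _).trans ?_
      rw [IsCyclic.card_mulAut, hQ7, Nat.totient_prime (Fact.out : (7 : ℕ).Prime)]
    rw [Subgroup.normalizerMonoidHom_ker] at hker
    have := Subgroup.mem_centralizer_iff.mp hker (b : D) b.2
    exact (congrArg Subtype.val this).symm
  set σa : Equiv.Perm α := ((a : D) : Equiv.Perm α)
  set σb : Equiv.Perm α := ((b : D) : Equiv.Perm α)
  have hoa : orderOf σa = 5 := by
    rw [show σa = ((a : D) : Equiv.Perm α) from rfl, orderOf_coe, orderOf_coe, ha]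
  have hob : orderOf σb = 7 := by
    rw [show σb = ((b : D) : Equiv.Perm α) from rfl, orderOf_coe, orderOf_coe, hb]
  have hsupp : σb.support = Finset.univ := by
    apply Finset.eq_univ_of_card
    have h7 : 7 ∣ σb.support.card :=
      prime_dvd_card_support (by norm_num) (hob ▸ pow_orderOf_eq_one σb)
    have hle : σb.support.card ≤ 7 := hα ▸ Finset.card_le_univ _
    have hpos : 0 < σb.support.card := by
      rw [Finset.card_pos, Finset.nonempty_iff_ne_empty, ne_eq, Equiv.Perm.support_eq_empty_iff]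
      intro e
      rw [e, orderOf_one] at hob
      omega
    have := Nat.le_of_dvd hpos h7
    omega
  have hcyc : σb.IsCycle := by
    refine Equiv.Perm.isCycle_of_prime_order (hob ▸ (by norm_num : Nat.Prime 7)) ?_
    rw [hsupp, Finset.card_univ, hα, hob]
    norm_num
  obtain ⟨x₀⟩ : Nonempty α := Fintype.card_pos_iff.mp (by rw [hα]; norm_num)
  have hmem : ∀ y, ∃ k : ℕ, (σb ^ k) x₀ = y := fun y =>
    hcyc.exists_pow_eq (Equiv.Perm.mem_support.mp (hsupp ▸ Finset.mem_univ x₀))
      (Equiv.Perm.mem_support.mp (hsupp ▸ Finset.mem_univ y))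
  obtain ⟨k, hk⟩ := hmem (σa x₀)
  have heq : σa = σb ^ k := by
    ext y
    obtain ⟨i, rfl⟩ := hmem y
    rw [← Equiv.Perm.mul_apply, (hcomm.pow_right i).eq, Equiv.Perm.mul_apply, ← hk,
      ← Equiv.Perm.mul_apply, ← Equiv.Perm.mul_apply, ← pow_add, ← pow_add, add_comm]
  have h7a : orderOf σa ∣ 7 := by
    rw [heq, orderOf_dvd_iff_pow_eq_one, ← pow_mul, mul_comm, pow_mul, ← hob, pow_orderOf_eq_one,
      one_pow]
  rw [hoa] at h7a
  norm_num at h7a

namespace TwentyTwo

variable (h : TwentyTwo G)

include h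

theorem two_lt_card : 2 < Nat.card G := by
  obtain ⟨P⟩ : Nonempty (Sylow 3 G) := inferInstance
  have := h.card_eq_twentytwo_mul P
  have : 0 < Nat.card (normalizer ((P : Subgroup G) : Set G)) := Nat.card_pos
  omega

theorem false_of_card_three [IsSimpleGroup G] (P : Sylow 3 G)
    (h3 : Nat.card (P : Subgroup G) = 3) : False := by
  classical
  have := Fintype.ofFinite G
  have := Fintype.ofFinite (Sylow 3 G)
  have hcard : Fintype.card (Sylow 3 G) = 22 := by
    rw [← Nat.card_eq_fintype_card]; exact h.card_eq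
  have h2G := h.two_lt_card
  obtain ⟨xP, hxP⟩ := exists_prime_orderOf_dvd_card' (G := (P : Subgroup G)) 3 (by rw [h3])
  set x : G := (xP : G)
  have hx : orderOf x = 3 := (orderOf_coe xP).trans hxP
  have horb : ∀ R : Sylow 3 G, R ≠ P → (MulAction.orbit (P : Subgroup G) R).ncard = 3 := by
    intro R hR
    rw [← Nat.card_coe_set_eq]
    have h1 := card_orbit_mul_inf (le_refl (P : Subgroup G)) R
    have h2 : 0 < Nat.card ((P : Subgroup G) ⊓ R : Subgroup G) := Nat.card_pos
    rcases h.card_orbit_cases hR with e | e <;> rw [e, h3] at h1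
    · exact e
    · omega
  have hab : ∀ y ∈ (P : Subgroup G), ∀ z ∈ (P : Subgroup G), y * z = z * y := by
    haveI : IsCyclic (P : Subgroup G) := isCyclic_of_prime_card h3
    letI := IsCyclic.commGroup (α := (P : Subgroup G))
    intro y hy z hz
    exact congrArg Subtype.val (mul_comm (⟨y, hy⟩ : (P : Subgroup G)) ⟨z, hz⟩)
  set C := centralizer ((P : Subgroup G) : Set G)
  have hCP : ∀ c ∈ C, c • P = P := fun c hc =>
    Sylow.smul_eq_iff_mem_normalizer.mpr (Subgroup.centralizer_le_normalizer _ hc)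
  have hcomm : ∀ c ∈ C, ∀ y ∈ (P : Subgroup G), ∀ R : Sylow 3 G, c • y • R = y • c • R := by
    intro c hc y hy R
    rw [← mul_smul, ← mul_smul, Subgroup.mem_centralizer_iff.mp hc y hy]
  -- the action on the seven orbits
  set T := (Finset.univ.erase P).image fun R => MulAction.orbit (P : Subgroup G) R
  have hT : T.card = 7 := by
    have hsum := Finset.card_eq_sum_card_image (fun R => MulAction.orbit (P : Subgroup G) R)
      (Finset.univ.erase P)
    have hfib : ∀ O ∈ T, ((Finset.univ.erase P).filter fun a =>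
        MulAction.orbit (P : Subgroup G) a = O).card = 3 := by
      intro O hO
      obtain ⟨R, hR, rfl⟩ := Finset.mem_image.mp hO
      have heq : (((Finset.univ.erase P).filter fun a => MulAction.orbit (P : Subgroup G) a =
          MulAction.orbit (P : Subgroup G) R : Finset (Sylow 3 G)) : Set (Sylow 3 G)) =
          MulAction.orbit (P : Subgroup G) R := by
        ext a
        simp only [Finset.coe_filter, MulAction.orbit_eq_iff, Set.mem_ofPred_eq,
          Finset.mem_erase, Finset.mem_univ, and_true]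
        refine ⟨fun ha => ha.2, fun ha => ⟨?_, ha⟩⟩
        rintro rfl
        exact sylow_not_mem_orbit (Finset.ne_of_mem_erase hR) ha
      rw [← Set.ncard_coe_finset, heq, horb R (Finset.ne_of_mem_erase hR)]
    rw [Finset.sum_congr rfl hfib, Finset.sum_const, smul_eq_mul,
      Finset.card_erase_of_mem (Finset.mem_univ P), Finset.card_univ, hcard] at hsum
    omega
  have hsmul_orbit : ∀ c ∈ C, ∀ R : Sylow 3 G,
      c • MulAction.orbit (P : Subgroup G) R = MulAction.orbit (P : Subgroup G) (c • R) := by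
    intro c hc R
    ext S
    constructor
    · rintro ⟨_, ⟨y, rfl⟩, rfl⟩
      exact ⟨y, (hcomm c hc y y.2 R).symm⟩
    · rintro ⟨y, rfl⟩
      exact ⟨(y : G) • R, ⟨y, rfl⟩, hcomm c hc y y.2 R⟩
  have hTinv : ∀ c ∈ C, ∀ O ∈ T, c • O ∈ T := by
    intro c hc O hO
    obtain ⟨R, hR, rfl⟩ := Finset.mem_image.mp hO
    rw [hsmul_orbit c hc]
    refine Finset.mem_image.mpr ⟨c • R, Finset.mem_erase.mpr ⟨fun e => ?_, Finset.mem_univ _⟩, rfl⟩
    exact Finset.ne_of_mem_erase hR (MulAction.injective c (e.trans (hCP c hc).symm))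
  set σ : C →* Equiv.Perm T := invariantPermHom C (fun g O => g • O)
    (fun a => one_smul G a) (fun g k a => mul_smul g k a) T hTinv
  have hkey : ∀ (c : C), σ c = 1 → (c : G) ^ 3 = 1 := by
    intro c hc
    refine h.faithful _ fun R => ?_
    by_cases hR : R = P
    · rw [hR]; exact hCP _ (pow_mem c.2 3)
    have hO : MulAction.orbit (P : Subgroup G) R ∈ T :=
      Finset.mem_image.mpr ⟨R, Finset.mem_erase.mpr ⟨hR, Finset.mem_univ _⟩, rfl⟩
    have he : (c : G) • MulAction.orbit (P : Subgroup G) R = MulAction.orbit (P : Subgroup G) R :=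
      congrArg Subtype.val (Equiv.ext_iff.mp hc ⟨_, hO⟩)
    obtain ⟨y, hy⟩ : (c : G) • R ∈ MulAction.orbit (P : Subgroup G) R :=
      he ▸ ⟨R, MulAction.mem_orbit_self R, rfl⟩
    have hpow : ∀ k : ℕ, (c : G) ^ k • R = (y : G) ^ k • R := by
      intro k
      induction k with
      | zero => simp
      | succ k ih =>
        rw [pow_succ (c : G), mul_smul, ← (show (y : G) • R = (c : G) • R from hy),
          hcomm _ (pow_mem c.2 k) y y.2, ih, ← mul_smul, ← pow_succ']
    have hy3 : (y : G) ^ 3 = 1 := by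
      have := orderOf_dvd_natCard y
      rw [h3, orderOf_dvd_iff_pow_eq_one] at this
      exact congrArg Subtype.val this
    rw [hpow, hy3, one_smul]
  have hker : σ.ker.map C.subtype = (P : Subgroup G) := by
    apply le_antisymm
    · rintro _ ⟨c, hc, rfl⟩
      by_cases hc1 : (c : G) = 1
      · show (c : G) ∈ (P : Subgroup G)
        rw [hc1]; exact one_mem _
      exact (sylow_smul_eq_iff_mem ⟨1, by
        rw [pow_one]; exact orderOf_eq_prime (hkey c (MonoidHom.mem_ker.mp hc)) hc1⟩ P).mp
          (hCP c c.2)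
    · intro y hy
      have hyC : y ∈ C := Subgroup.mem_centralizer_iff.mpr fun z hz => hab z hz y hy
      refine ⟨⟨y, hyC⟩, MonoidHom.mem_ker.mpr (Equiv.ext fun O => ?_), rfl⟩
      obtain ⟨R, hR, hRe⟩ := Finset.mem_image.mp O.2
      apply Subtype.ext
      show y • (O : Set (Sylow 3 G)) = O
      rw [← hRe, hsmul_orbit y hyC]
      exact MulAction.orbit_smul (⟨y, hy⟩ : (P : Subgroup G)) R
  set d := Nat.card σ.range with hd
  have hCcard : Nat.card C = 3 * d := by
    rw [← σ.ker.card_mul_index, Subgroup.index_ker, ← hd,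
      ← Subgroup.card_map_of_injective (K := σ.ker) C.subtype_injective, hker, h3]
  have h9 : ¬ 9 ∣ Nat.card G := by
    rw [← (P : Subgroup G).card_mul_index, h3, show 9 = 3 * 3 by rfl,
      Nat.mul_dvd_mul_iff_left (by norm_num : 0 < 3)]
    exact P.not_dvd_index
  have h3d : ¬ 3 ∣ d := fun hd3 => h9
    ((show 9 ∣ Nat.card C from hCcard ▸ mul_dvd_mul_left 3 hd3).trans C.card_subgroup_dvd_card)
  have hTcard : Fintype.card T = 7 := by rw [Fintype.card_coe, hT]
  have hPerm7 : Nat.card (Equiv.Perm T) = 5040 := by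
    rw [Nat.card_eq_fintype_card, Fintype.card_perm, hTcard]
    decide
  have hd5040 : d ∣ 5040 := hPerm7 ▸ σ.range.card_subgroup_dvd_card
  -- no transposition of orbits
  have h16 : ¬ 16 ∣ d := by
    intro h16
    obtain ⟨τ, ⟨c₀, hc₀⟩, hsw⟩ := exists_isSwap_mem (by rw [hTcard]; norm_num) σ.range (by
      rw [hPerm7, show 5040 = 2 ^ 4 * 315 by rfl, Nat.factorization_def _ Nat.prime_two,
        padicValNat.mul (by norm_num) (by norm_num), padicValNat.prime_pow,
        padicValNat.eq_zero_of_not_dvd (by norm_num : ¬ 2 ∣ 315), add_zero]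
      exact h16)
    have hτ2 : τ ^ 2 = 1 := by
      obtain ⟨a, b, -, rfl⟩ := hsw
      rw [sq, Equiv.swap_mul_self]
    set c := c₀ ^ 3
    have hσc : σ c = τ := by
      rw [map_pow, hc₀, pow_succ, hτ2, one_mul]
    have hc2 : (c : G) ^ 2 = 1 := by
      have := hkey (c₀ ^ 2) (by rw [map_pow, hc₀, hτ2])
      rw [show (c : G) ^ 2 = ((c₀ ^ 2 : C) : G) ^ 3 by
        simp only [c, Subgroup.coe_pow, ← pow_mul]]
      exact this
    obtain ⟨O₁, O₂, hne, hτ⟩ := hsw
    have hfix : ∀ R : Sylow 3 G, (c : G) • R = R ↔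
        ¬ (R ∈ (O₁ : Set (Sylow 3 G)) ∨ R ∈ (O₂ : Set (Sylow 3 G))) := by
      intro R
      by_cases hR : R = P
      · subst hR
        simp only [hCP c c.2, true_iff, not_or]
        constructor <;> intro hmem
        · obtain ⟨R', hR', hR'e⟩ := Finset.mem_image.mp O₁.2
          rw [← hR'e] at hmem
          exact sylow_not_mem_orbit (Finset.ne_of_mem_erase hR') hmem
        · obtain ⟨R', hR', hR'e⟩ := Finset.mem_image.mp O₂.2
          rw [← hR'e] at hmem
          exact sylow_not_mem_orbit (Finset.ne_of_mem_erase hR') hmem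
      have hOmem : MulAction.orbit (P : Subgroup G) R ∈ T :=
        Finset.mem_image.mpr ⟨R, Finset.mem_erase.mpr ⟨hR, Finset.mem_univ _⟩, rfl⟩
      set O : T := ⟨_, hOmem⟩
      have hmemO : ∀ O' : T, R ∈ (O' : Set (Sylow 3 G)) ↔ O = O' := by
        intro O'
        constructor
        · intro hmem
          obtain ⟨R', -, hR'e⟩ := Finset.mem_image.mp O'.2
          rw [← hR'e] at hmem
          exact Subtype.ext ((MulAction.orbit_eq_iff.mpr hmem).trans hR'e)
        · rintro rfl
          exact MulAction.mem_orbit_self R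
      have hval : ((σ c O : T) : Set (Sylow 3 G)) = MulAction.orbit (P : Subgroup G) ((c : G) • R) :=
        hsmul_orbit c c.2 R
      rw [hσc, hτ] at hval
      rw [hmemO, hmemO, not_or]
      constructor
      · intro hfixR
        rw [hfixR] at hval
        have hO' : Equiv.swap O₁ O₂ O = O := Subtype.ext hval
        constructor
        · intro e; rw [e, Equiv.swap_apply_left] at hO'; exact hne hO'.symm
        · intro e; rw [e, Equiv.swap_apply_right] at hO'; exact hne hO'
      · rintro ⟨h1, h2⟩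
        rw [Equiv.swap_apply_of_ne_of_ne h1 h2] at hval
        obtain ⟨y, hy⟩ : (c : G) • R ∈ MulAction.orbit (P : Subgroup G) R :=
          MulAction.orbit_eq_iff.mp hval.symm
        have hy' : (y : G) • R = (c : G) • R := hy
        have h2' : (y : G) • (y : G) • R = R := by
          conv_lhs => rw [hy', ← hcomm c c.2 y y.2, hy', ← mul_smul, ← sq, hc2, one_smul]
        have hy3 : (y : G) ^ 3 = 1 := by
          have := orderOf_dvd_natCard y
          rw [h3, orderOf_dvd_iff_pow_eq_one] at this
          exact congrArg Subtype.val this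
        have hy1 : (y : G) • R = R := by
          conv_rhs => rw [← one_smul G R, ← hy3, pow_succ, pow_two, mul_smul, mul_smul]
          rw [← hcomm _ (Subgroup.mem_centralizer_iff.mpr fun z hz => hab z hz y y.2) y y.2, h2']
        rw [← hy', hy1]
    have hsupp : ((MulAction.toPermHom G (Sylow 3 G) (c : G)).support : Set (Sylow 3 G)) =
        (O₁ : Set (Sylow 3 G)) ∪ (O₂ : Set (Sylow 3 G)) := by
      ext R
      simp only [Finset.mem_coe, Equiv.Perm.mem_support, Set.mem_union]
      show (c : G) • R ≠ R ↔ _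
      rw [ne_eq, hfix, not_not]
    have h6 : (MulAction.toPermHom G (Sylow 3 G) (c : G)).support.card = 6 := by
      rw [← Set.ncard_coe_finset, hsupp, Set.ncard_union_eq ?_ (Set.toFinite _) (Set.toFinite _)]
      · obtain ⟨R1, hR1, e1⟩ := Finset.mem_image.mp O₁.2
        obtain ⟨R2, hR2, e2⟩ := Finset.mem_image.mp O₂.2
        rw [← e1, ← e2, horb R1 (Finset.ne_of_mem_erase hR1), horb R2 (Finset.ne_of_mem_erase hR2)]
      · obtain ⟨R1, -, e1⟩ := Finset.mem_image.mp O₁.2
        obtain ⟨R2, -, e2⟩ := Finset.mem_image.mp O₂.2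
        rw [← e1, ← e2]
        exact (MulAction.orbit.eq_or_disjoint R1 R2).resolve_left fun e =>
          hne (Subtype.ext (e1.symm.trans (e.trans e2)))
    have hne1 : MulAction.toPermHom G (Sylow 3 G) (c : G) ≠ 1 := by
      intro e; rw [e, Equiv.Perm.support_one, Finset.card_empty] at h6; omega
    have hs := sign_involution (σ := MulAction.toPermHom G (Sylow 3 G) (c : G))
      (by rw [← map_pow, hc2, map_one]) hne1 (m := 3) h6
    rw [sign_toPermHom_eq_one h2G] at hs
    exact absurd hs (by decide)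
  have h35 : ¬ 35 ∣ d := not_thirtyfive_dvd_perm_seven hTcard σ.range h3d
  -- the order
  set N := normalizer ((P : Subgroup G) : Set G)
  have hNcard : Nat.card N = 6 * d := by
    have hidx : ((P : Subgroup G).normalizerMonoidHom).ker.index = 2 := by
      have hdvd : ((P : Subgroup G).normalizerMonoidHom).ker.index ∣ 2 := by
        rw [Subgroup.index_ker]
        haveI : IsCyclic (P : Subgroup G) := isCyclic_of_prime_card h3
        refine (Subgroup.card_subgroup_dvd_card _).trans ?_
        rw [IsCyclic.card_mulAut, h3, Nat.totient_prime Nat.prime_three]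
      refine ((Nat.dvd_prime Nat.prime_two).mp hdvd).resolve_left fun h1 => ?_
      have htop := Subgroup.index_eq_one.mp h1
      have hNC : N ≤ C := by
        intro y hy
        have hk : (⟨y, hy⟩ : N) ∈ ((P : Subgroup G).normalizerMonoidHom).ker := htop ▸ mem_top _
        rw [Subgroup.normalizerMonoidHom_ker] at hk
        exact hk
      have hcompl := MonoidHom.ker_transferSylow_isComplement' P hNC
      have hi : (MonoidHom.transferSylow P hNC).ker.index = 3 :=
        hcompl.symm.index_eq_card.trans h3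
      rcases (MonoidHom.normal_ker (MonoidHom.transferSylow P hNC)).eq_bot_or_eq_top with hk | hk
      · rw [hk, Subgroup.index_bot] at hi
        exact absurd hi (by have := h.card_eq_twentytwo_mul P; omega)
      · rw [hk, Subgroup.index_top] at hi; omega
    rw [← Subgroup.card_mul_index ((P : Subgroup G).normalizerMonoidHom).ker, hidx,
      Subgroup.normalizerMonoidHom_ker,
      Nat.card_congr (Subgroup.subgroupOfEquivOfLe (Subgroup.centralizer_le_normalizer _)).toEquiv,
      show Nat.card (centralizer ((P : Subgroup G) : Set G)) = 3 * d from hCcard]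
    ring
  have hG : Nat.card G = 132 * d := by rw [h.card_eq_twentytwo_mul P, hNcard]; ring
  obtain ⟨a, b, ha16, hb35, hab'⟩ : ∃ a b, a ∣ 16 ∧ b ∣ 35 ∧ a * b = d := by
    have hd560 : d ∣ 560 := by
      refine Nat.Coprime.dvd_of_dvd_mul_right ?_ (show d ∣ 560 * 9 from hd5040)
      exact ((Nat.prime_three.coprime_iff_not_dvd.mpr h3d).pow_left 2).symm
    exact Nat.dvd_mul.mp (show d ∣ 16 * 35 from hd560)
  have hN11 : ∀ R : Sylow 3 G, ¬ 11 ∣ Nat.card (normalizer ((R : Subgroup G) : Set G)) := by
    intro R h11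
    have hR := h.card_eq_twentytwo_mul R
    have hP := h.card_eq_twentytwo_mul P
    have heqN : Nat.card (normalizer ((R : Subgroup G) : Set G)) = 6 * d := by
      rw [← hNcard]; omega
    rw [heqN] at h11
    have h11' : 11 ∣ 5040 := ((Fact.out : (11 : ℕ).Prime).dvd_mul.mp h11).resolve_left
      (by norm_num) |>.trans hd5040
    norm_num at h11'
  obtain ⟨Q⟩ : Nonempty (Sylow 11 G) := inferInstance
  obtain ⟨hQ11, hCQ, e, he, he10, he1⟩ := h.sylow_eleven hN11 Q
  have hn := Q.card_eq_index_normalizer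
  have hmod : Nat.card (Sylow 11 G) % 11 = 1 := card_sylow_modEq_one 11 G
  have hne : Nat.card (Sylow 11 G) * e = 12 * d := by
    have := (normalizer ((Q : Subgroup G) : Set G)).card_mul_index
    rw [show (normalizer ((Q : Subgroup G) : Set G)).index = Nat.card (Sylow 11 G) from hn.symm, he,
      hG, mul_assoc, mul_comm e] at this
    omega
  have hfacts : Nat.card (Sylow 11 G) = 12 ∧ e = d ∧ (2 ∣ d ∨ 5 ∣ d) := by
    have hb : b = 1 ∨ b = 5 ∨ b = 7 := by
      have hm : b ∈ Nat.divisors 35 := Nat.mem_divisors.mpr ⟨hb35, by norm_num⟩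
      rw [show Nat.divisors 35 = {1, 5, 7, 35} by decide] at hm
      simp only [Finset.mem_insert, Finset.mem_singleton] at hm
      rcases hm with h' | h' | h' | h'
      · exact Or.inl h'
      · exact Or.inr (Or.inl h')
      · exact Or.inr (Or.inr h')
      · exact absurd (h' ▸ hab' ▸ dvd_mul_left _ _) h35
    have ha : a = 1 ∨ a = 2 ∨ a = 4 ∨ a = 8 := by
      have hm : a ∈ Nat.divisors 16 := Nat.mem_divisors.mpr ⟨ha16, by norm_num⟩
      rw [show Nat.divisors 16 = {1, 2, 4, 8, 16} by decide] at hm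
      simp only [Finset.mem_insert, Finset.mem_singleton] at hm
      rcases hm with h' | h' | h' | h' | h'
      · exact Or.inl h'
      · exact Or.inr (Or.inl h')
      · exact Or.inr (Or.inr (Or.inl h'))
      · exact Or.inr (Or.inr (Or.inr h'))
      · exact absurd (h' ▸ hab' ▸ dvd_mul_right _ _) h16
    have he' : e = 2 ∨ e = 5 ∨ e = 10 := by
      have hm : e ∈ Nat.divisors 10 := Nat.mem_divisors.mpr ⟨he10, by norm_num⟩
      rw [show Nat.divisors 10 = {1, 2, 5, 10} by decide] at hm
      simp only [Finset.mem_insert, Finset.mem_singleton] at hm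
      omega
    rcases hb with rfl | rfl | rfl <;> rcases ha with rfl | rfl | rfl | rfl <;>
      rcases he' with rfl | rfl | rfl <;>
      (clear_value d; subst hab'; omega)
  obtain ⟨hn12, hed, hd25⟩ := hfacts
  -- the action on the twelve Sylow 11-subgroups
  have := Fintype.ofFinite (Sylow 11 G)
  have hcard12 : Fintype.card (Sylow 11 G) = 12 := by
    rw [← Nat.card_eq_fintype_card]; exact hn12
  set φ := MulAction.toPermHom G (Sylow 11 G)
  have hfaith : φ.ker = ⊥ := by
    refine (MonoidHom.normal_ker φ).eq_bot_or_eq_top.resolve_right fun htop => ?_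
    have hall : ∀ R : Sylow 11 G, R = Q := by
      intro R
      obtain ⟨g, rfl⟩ := MulAction.exists_smul_eq G Q R
      have hg : g ∈ φ.ker := by rw [htop]; exact mem_top g
      exact Equiv.ext_iff.mp (MonoidHom.mem_ker.mp hg) Q
    haveI : Subsingleton (Sylow 11 G) := ⟨fun A B => (hall A).trans (hall B).symm⟩
    rw [Nat.card_unique (α := Sylow 11 G)] at hn12
    omega
  have hinj : Function.Injective φ := (MonoidHom.ker_eq_bot_iff φ).mp hfaith
  by_cases h5 : 5 ∣ d
  · -- an element of order five centralising `P`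
    haveI : Fact (Nat.Prime 5) := ⟨by norm_num⟩
    obtain ⟨c, hc⟩ := exists_prime_orderOf_dvd_card' (G := C) 5
      (hCcard ▸ h5.mul_left 3)
    rw [← orderOf_coe] at hc
    have hc5 : φ (c : G) ^ 5 = 1 := by rw [← map_pow, ← hc, pow_orderOf_eq_one, map_one]
    set s := (φ (c : G)).support
    have h5s : 5 ∣ s.card := prime_dvd_card_support (by norm_num) hc5
    have hxfree : ∀ R : Sylow 11 G, x • R ≠ R := by
      intro R hR
      have hxN := Sylow.smul_eq_iff_mem_normalizer.mp hR
      obtain ⟨-, -, eR, heR, heR10, -⟩ := h.sylow_eleven hN11 R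
      have hd3 := orderOf_dvd_natCard (⟨x, hxN⟩ : normalizer ((R : Subgroup G) : Set G))
      rw [← orderOf_coe, hx, heR] at hd3
      have h311 := hd3.trans (mul_dvd_mul_left 11 heR10)
      norm_num at h311
    have hxc : x * (c : G) = (c : G) * x :=
      Subgroup.mem_centralizer_iff.mp c.2 x xP.2
    have hxs : ∀ R : Sylow 11 G, x • R ∈ s ↔ R ∈ s := by
      intro R
      simp only [s, Equiv.Perm.mem_support]
      show (c : G) • x • R ≠ x • R ↔ (c : G) • R ≠ R
      rw [← mul_smul, ← hxc, mul_smul, (MulAction.injective x).ne_iff]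
    have h3s : 3 ∣ s.card := by
      set π : Equiv.Perm {R : Sylow 11 G // R ∈ s} :=
        (φ x).subtypePerm (p := fun R => R ∈ s) fun R => (hxs R)
      have hπ3 : π ^ 3 = 1 := by
        refine Equiv.ext fun R => Subtype.ext ?_
        show x • x • x • (R : Sylow 11 G) = R
        rw [← mul_smul, ← mul_smul, ← pow_two, ← pow_succ, show (2 + 1 : ℕ) = 3 from rfl, ← hx,
          pow_orderOf_eq_one, one_smul]
      have hsupp : π.support = Finset.univ := by
        ext R
        simp only [Equiv.Perm.mem_support, Finset.mem_univ, iff_true]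
        exact fun e => hxfree R (congrArg Subtype.val e)
      have := prime_dvd_card_support Nat.prime_three hπ3
      rwa [hsupp, Finset.card_univ, Fintype.card_coe] at this
    have hpos : 0 < s.card := by
      rw [Finset.card_pos, Finset.nonempty_iff_ne_empty, ne_eq, Equiv.Perm.support_eq_empty_iff]
      intro e
      rw [show (c : G) = 1 from hinj (e.trans φ.map_one.symm), orderOf_one] at hc
      omega
    have hle : s.card ≤ 12 := hcard12 ▸ Finset.card_le_univ _
    omega
  · -- an involution inverting the Sylow 11-subgroup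
    haveI : Fact (Nat.Prime 2) := ⟨Nat.prime_two⟩
    have h2e : 2 ∣ Nat.card (normalizer ((Q : Subgroup G) : Set G)) := by
      rw [he, hed]; exact (hd25.resolve_right h5).mul_left 11
    obtain ⟨y₀, hy₀⟩ := exists_prime_orderOf_dvd_card'
      (G := normalizer ((Q : Subgroup G) : Set G)) 2 h2e
    rw [← orderOf_coe] at hy₀
    set y : G := (y₀ : G)
    have hy2 : y * y = 1 := by rw [← sq, ← hy₀, pow_orderOf_eq_one]
    have hyinv : y⁻¹ = y := inv_eq_of_mul_eq_one_right hy2
    have habQ : ∀ z ∈ (Q : Subgroup G), ∀ w ∈ (Q : Subgroup G), z * w = w * z := by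
      intro z hz w hw
      have hz' : z ∈ centralizer ((Q : Subgroup G) : Set G) := by rw [hCQ]; exact hz
      exact (Subgroup.mem_centralizer_iff.mp hz' w hw).symm
    have hconjmem : ∀ z ∈ (Q : Subgroup G), y * z * y ∈ (Q : Subgroup G) := by
      intro z hz
      have := (Subgroup.mem_normalizer_iff.mp y₀.2 z).mp hz
      rwa [hyinv] at this
    have hynot : y ∉ centralizer ((Q : Subgroup G) : Set G) := by
      intro hyC
      rw [hCQ] at hyC
      have := orderOf_dvd_natCard (⟨y, hyC⟩ : (Q : Subgroup G))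
      rw [← orderOf_coe, hy₀, hQ11] at this
      norm_num at this
    have hinvert : ∀ z ∈ (Q : Subgroup G), y * z * y = z⁻¹ := by
      intro z hz
      set w := z * (y * z * y)
      have hw : w ∈ (Q : Subgroup G) := mul_mem hz (hconjmem z hz)
      have hwfix : y * w * y = w := by
        calc y * w * y = (y * z * y) * (y * (y * z * y) * y) := by
              simp only [w, mul_assoc]
              rw [← mul_assoc y y, hy2, one_mul]
          _ = (y * z * y) * z := by
              congr 1
              simp only [← mul_assoc]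
              rw [hy2, one_mul, mul_assoc, hy2, mul_one]
          _ = w := habQ _ (hconjmem z hz) _ hz
      by_contra hne'
      apply hynot
      have hw1 : w ≠ 1 := fun e => hne' (eq_inv_of_mul_eq_one_right e)
      have hzw : zpowers w = (Q : Subgroup G) := by
        have ho := orderOf_dvd_natCard (⟨w, hw⟩ : (Q : Subgroup G))
        rw [← orderOf_coe, hQ11, Nat.dvd_prime (Fact.out : (11 : ℕ).Prime), orderOf_eq_one_iff] at ho
        refine Subgroup.eq_of_le_of_card_ge (zpowers_le.mpr hw) ?_
        rw [Nat.card_zpowers, hQ11, ho.resolve_left hw1]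
      have hcw : Commute y w := by
        show y * w = w * y
        conv_rhs => rw [← hwfix, mul_assoc, hy2, mul_one]
      rw [← hzw, Subgroup.mem_centralizer_iff]
      intro v hv
      obtain ⟨k, rfl⟩ := mem_zpowers_iff.mp hv
      exact (hcw.zpow_right k).eq.symm
    have hyQ : y • Q = Q := Sylow.smul_eq_iff_mem_normalizer.mpr y₀.2
    have horbQ : ∀ R : Sylow 11 G, R ≠ Q → ∀ S : Sylow 11 G, S ≠ Q →
        ∃ z ∈ (Q : Subgroup G), z • R = S := by
      intro R hR S hS
      have hsub : MulAction.orbit (Q : Subgroup G) R ⊆ {Q}ᶜ := by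
        intro T hT hTQ
        rw [show T = Q from hTQ] at hT
        exact sylow_not_mem_orbit hR hT
      have hle : ({Q}ᶜ : Set (Sylow 11 G)).ncard ≤ (MulAction.orbit (Q : Subgroup G) R).ncard := by
        rw [Set.ncard_compl, Set.ncard_singleton, hn12, ← Nat.card_coe_set_eq]
        show 11 ≤ _
        haveI : Nonempty (MulAction.orbit (Q : Subgroup G) R) := ⟨⟨R, MulAction.mem_orbit_self R⟩⟩
        exact Nat.le_of_dvd Nat.card_pos (dvd_card_orbit hR)
      have heq := Set.eq_of_subset_of_ncard_le hsub hle (Set.toFinite _)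
      obtain ⟨z, hz⟩ : S ∈ MulAction.orbit (Q : Subgroup G) R := heq ▸ hS
      exact ⟨z, z.2, hz⟩
    set s := (φ y).support
    have h2s : 2 ∣ s.card := prime_dvd_card_support Nat.prime_two
      (by rw [← map_pow, sq, hy2, map_one])
    have hQs : Q ∉ s := by
      simp only [s, Equiv.Perm.mem_support, ne_eq, not_not]
      exact hyQ
    have hsle : s.card ≤ 11 := by
      have := Finset.card_le_card (s := s) (t := Finset.univ.erase Q)
        fun R hR => Finset.mem_erase.mpr ⟨fun e => hQs (e ▸ hR), Finset.mem_univ _⟩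
      rwa [Finset.card_erase_of_mem (Finset.mem_univ Q), Finset.card_univ, hcard12] at this
    have hsge : 10 ≤ s.card := by
      have hsub : (sᶜ.erase Q).card ≤ 1 := by
        rw [Finset.card_le_one]
        intro R hR S hS
        simp only [s, Finset.mem_erase, Finset.mem_compl, Equiv.Perm.mem_support, ne_eq,
          not_not] at hR hS
        obtain ⟨z, hz, rfl⟩ := horbQ R hR.1 S hS.1
        have hRfix : y • R = R := hR.2
        have hSfix : y • z • R = z • R := hS.2
        have h1 : z⁻¹ • R = z • R := by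
          conv_rhs => rw [← hSfix, ← mul_smul]
          conv_rhs => rw [show y * z = z⁻¹ * y by
            rw [← hinvert z hz, mul_assoc, hy2, mul_one], mul_smul, hRfix]
        have h2 : (z * z) • R = R := by
          rw [mul_smul, ← h1, smul_inv_smul]
        have hz11 : z ^ 11 = 1 := by
          have := orderOf_dvd_natCard (⟨z, hz⟩ : (Q : Subgroup G))
          rw [← orderOf_coe, hQ11] at this
          exact orderOf_dvd_iff_pow_eq_one.mp this
        have hmem := pow_mem (MulAction.mem_stabilizer_iff.mpr h2 :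
          z * z ∈ MulAction.stabilizer G R) 6
        rw [show (z * z) ^ 6 = z by
          rw [← sq, ← pow_mul, show 2 * 6 = 11 + 1 from rfl, pow_succ, hz11, one_mul]] at hmem
        exact (MulAction.mem_stabilizer_iff.mp hmem).symm
      have hQ' : Q ∈ sᶜ := Finset.mem_compl.mpr hQs
      rw [Finset.card_erase_of_mem hQ', Finset.card_compl, hcard12] at hsub
      omega
    have hy1 : φ y ≠ 1 := by
      intro e
      simp only [s, e, Equiv.Perm.support_one, Finset.card_empty] at hsge
      omega
    have hs := sign_involution (σ := φ y) (by rw [← map_pow, sq, hy2, map_one]) hy1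
      (m := 5) (show s.card = 2 * 5 by omega)
    rw [sign_toPermHom_eq_one h2G] at hs
    exact absurd hs (by decide)

theorem false_of_card_nine [IsSimpleGroup G] (P : Sylow 3 G)
    (h9 : Nat.card (P : Subgroup G) = 9) : False := by
  classical
  have := Fintype.ofFinite G
  have := Fintype.ofFinite (Sylow 3 G)
  have := Fintype.ofFinite (Subgroup G)
  have hcard : Fintype.card (Sylow 3 G) = 22 := by
    rw [← Nat.card_eq_fintype_card]; exact h.card_eq
  have h2G := h.two_lt_card
  have h3 : Nat.card (P : Subgroup G) ≠ 3 := by omega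
  obtain ⟨h12, h4⟩ := h.near_structure h3
  set ℋ := (Finset.univ.filter fun R => Near P R).image fun R : Sylow 3 G => (P : Subgroup G) ⊓ R
  have hℋ : ℋ.card = 4 := by
    rw [← h4, ← Set.ncard_coe_finset]
    congr 1
    ext K
    simp [ℋ]
  have hℋ' : ∀ L ∈ ℋ, ∃ R, Near P R ∧ (P : Subgroup G) ⊓ R = L := by
    intro L hL
    obtain ⟨R, hR, rfl⟩ := Finset.mem_image.mp hL
    exact ⟨R, (Finset.mem_filter.mp hR).2, rfl⟩
  have hL3 : ∀ L ∈ ℋ, Nat.card L = 3 ∧ L ≤ P := by
    intro L hL
    obtain ⟨R, hR, rfl⟩ := hℋ' L hL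
    exact ⟨by have := hR.2; omega, inf_le_left⟩
  -- distinct lines meet trivially
  have hdisj : ∀ L ∈ ℋ, ∀ L' ∈ ℋ, ∀ z, z ∈ L → z ∈ L' → z ≠ 1 → L = L' := by
    intro L hL L' hL' z hz hz' hz1
    have hgen : ∀ M ∈ ℋ, z ∈ M → zpowers z = M := by
      intro M hM hzM
      refine Subgroup.eq_of_le_of_card_ge (zpowers_le.mpr hzM) ?_
      rw [Nat.card_zpowers, (hL3 M hM).1]
      have ho := orderOf_dvd_natCard (⟨z, hzM⟩ : M)
      rw [← orderOf_coe, (hL3 M hM).1, Nat.dvd_prime Nat.prime_three, orderOf_eq_one_iff] at ho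
      rw [ho.resolve_left hz1]
    rw [← hgen L hL hz, hgen L' hL' hz']
  -- the lines cover
  have hcover : ∀ z ∈ (P : Subgroup G), z ≠ 1 → ∃ L ∈ ℋ, z ∈ L := by
    intro z hz hz1
    let S : Subgroup G → Finset G := fun L => (L : Set G).toFinset.erase 1
    have hsub : ℋ.biUnion S ⊆ ((P : Subgroup G) : Set G).toFinset.erase 1 := by
      intro w hw
      simp only [S, Finset.mem_biUnion, Finset.mem_erase, Set.mem_toFinset] at hw ⊢
      obtain ⟨L, hL, hw1, hwL⟩ := hw
      exact ⟨hw1, (hL3 L hL).2 hwL⟩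
    have hS : ∀ (L : Subgroup G), (S L).card = Nat.card L - 1 := by
      intro L
      rw [Finset.card_erase_of_mem (Set.mem_toFinset.mpr (one_mem L)),
        ← Set.ncard_eq_toFinset_card', ← Nat.card_coe_set_eq]
      rfl
    have heq := Finset.eq_of_subset_of_card_le hsub (by
      rw [Finset.card_biUnion]
      · rw [Finset.sum_congr rfl fun L hL => (hS L).trans (by rw [(hL3 L hL).1]),
          Finset.sum_const, hℋ, smul_eq_mul]
        exact ((hS P).trans (by rw [h9])).le
      · intro L hL L' hL' hne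
        rw [Function.onFun, Finset.disjoint_left]
        intro w hw hw'
        simp only [S, Finset.mem_erase, Set.mem_toFinset] at hw hw'
        exact hne (hdisj L hL L' hL' w hw.2 hw'.2 hw.1))
    have hzmem : z ∈ ℋ.biUnion S := by
      rw [heq]; exact Finset.mem_erase.mpr ⟨hz1, Set.mem_toFinset.mpr hz⟩
    simp only [S, Finset.mem_biUnion, Finset.mem_erase, Set.mem_toFinset] at hzmem
    obtain ⟨L, hL, -, hzL⟩ := hzmem
    exact ⟨L, hL, hzL⟩
  have hexp : ∀ z ∈ (P : Subgroup G), z ^ 3 = 1 := by
    intro z hz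
    by_cases hz1 : z = 1
    · rw [hz1, one_pow]
    obtain ⟨L, hL, hzL⟩ := hcover z hz hz1
    have ho := orderOf_dvd_natCard (⟨z, hzL⟩ : L)
    rw [← orderOf_coe, (hL3 L hL).1] at ho
    exact orderOf_dvd_iff_pow_eq_one.mp ho
  have hab : ∀ z ∈ (P : Subgroup G), ∀ w ∈ (P : Subgroup G), z * w = w * z := by
    intro z hz w hw
    haveI : IsMulCommutative (P : Subgroup G) :=
      IsPGroup.isMulCommutative_of_card_eq_prime_sq (p := 3) (by rw [h9]; norm_num)
    exact congrArg Subtype.val (mul_comm' (⟨z, hz⟩ : (P : Subgroup G)) ⟨w, hw⟩)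
  have horbblock : ∀ L ∈ ℋ, ∀ R R' : Sylow 3 G, Near P R → (P : Subgroup G) ⊓ R = L →
      Near P R' → (P : Subgroup G) ⊓ R' = L → ∃ z ∈ (P : Subgroup G), z • R = R' := by
    intro L hL R R' hR hRL hR' hR'L
    have hsub : MulAction.orbit (P : Subgroup G) R ⊆
        {S : Sylow 3 G | (P : Subgroup G) ⊓ R ≤ S} \ {P} := by
      rintro _ ⟨z, rfl⟩
      refine ⟨?_, fun e => sylow_not_mem_orbit hR.1 ⟨z, Set.mem_singleton_iff.mp e⟩⟩
      show (P : Subgroup G) ⊓ R ≤ ↑((z : G) • R)
      intro w hw
      rw [coe_sylow_smul, mem_conjBy, mul_assoc, hab w hw.1 z z.2, inv_mul_cancel_left]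
      exact hw.2
    have heq := Set.eq_of_subset_of_ncard_le hsub (by
      rw [Set.ncard_sdiff_singleton_of_mem (show P ∈ {S : Sylow 3 G | (P : Subgroup G) ⊓ R ≤ S} from by
          show (P : Subgroup G) ⊓ R ≤ (P : Subgroup G)
          exact inf_le_left),
        (h.block_facts h3 hR).1, ← Nat.card_coe_set_eq, (h.near_iff hR.1).mp hR]) (Set.toFinite _)
    have hmem : R' ∈ MulAction.orbit (P : Subgroup G) R := by
      rw [heq]
      refine ⟨?_, hR'.1⟩
      show (P : Subgroup G) ⊓ R ≤ R'
      rw [hRL, ← hR'L]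
      exact inf_le_right
    obtain ⟨z, hz⟩ := hmem
    exact ⟨z, z.2, hz⟩
  set C := centralizer ((P : Subgroup G) : Set G)
  have hCP : ∀ c ∈ C, c • P = P := fun c hc =>
    Sylow.smul_eq_iff_mem_normalizer.mpr (Subgroup.centralizer_le_normalizer _ hc)
  have hCeq : ∀ c ∈ C, c ∈ (P : Subgroup G) := by
    intro c hc
    have hcz : ∀ z ∈ (P : Subgroup G), ∀ R : Sylow 3 G, c • z • R = z • c • R := by
      intro z hz R
      rw [← mul_smul, ← mul_smul, Subgroup.mem_centralizer_iff.mp hc z hz]
    have hstep : ∀ R : Sylow 3 G, R ≠ P → ∃ z ∈ (P : Subgroup G), z • R = c • R := by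
      intro R hR
      have hcR : c • R ≠ P := fun e => hR (MulAction.injective c (e.trans (hCP c hc).symm))
      by_cases hn : Near P R
      · have hn' : Near P (c • R) := by
          have := hn.smul c
          rwa [hCP c hc] at this
        refine horbblock ((P : Subgroup G) ⊓ R)
          (Finset.mem_image.mpr ⟨R, by simp [hn], rfl⟩) R (c • R) hn rfl hn' ?_
        calc (P : Subgroup G) ⊓ ↑(c • R)
            = ((c • P : Sylow 3 G) : Subgroup G) ⊓ ↑(c • R) := by rw [hCP c hc]
          _ = conjBy c ((P : Subgroup G) ⊓ R) := by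
              rw [coe_sylow_smul, coe_sylow_smul, ← conjBy_inf]
          _ = (P : Subgroup G) ⊓ R := by
              refine conjBy_eq_self (Subgroup.centralizer_le_normalizer _ ?_)
              rw [Subgroup.mem_centralizer_iff]
              exact fun w hw => Subgroup.mem_centralizer_iff.mp hc w hw.1
      · have hn' : ¬ Near P (c • R) := fun hn' => hn (by
          have := hn'.smul c⁻¹
          rwa [inv_smul_smul, inv_smul_eq_iff.mpr (hCP c hc).symm] at this)
        have hmem : c • R ∈ MulAction.orbit (P : Subgroup G) R :=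
          h.far_eq_orbit h3 hR hn ▸ ⟨hcR, hn'⟩
        obtain ⟨z, hz⟩ := hmem
        exact ⟨z, z.2, hz⟩
    have h31 : c ^ 3 = 1 := h.faithful _ fun R => by
      by_cases hR : R = P
      · rw [hR]; exact hCP _ (pow_mem hc 3)
      obtain ⟨z, hz, hzR⟩ := hstep R hR
      have hcz' : ∀ S : Sylow 3 G, c • z • S = z • c • S := hcz z hz
      calc c ^ 3 • R = c • c • c • R := by rw [pow_succ, pow_two, mul_smul, mul_smul]
        _ = c • c • z • R := by rw [hzR]
        _ = z • z • z • R := by rw [hcz', hcz', ← hzR, hcz', ← hzR]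
        _ = R := by rw [← mul_smul, ← mul_smul, ← pow_two, ← pow_succ, hexp z hz, one_smul]
    by_cases hc1 : c = 1
    · rw [hc1]; exact one_mem _
    exact (sylow_smul_eq_iff_mem ⟨1, by rw [pow_one]; exact orderOf_eq_prime h31 hc1⟩ P).mp
      (hCP c hc)
  set N := normalizer ((P : Subgroup G) : Set G)
  have hNP : ∀ n ∈ N, n • P = P := fun n hn => Sylow.smul_eq_iff_mem_normalizer.mpr hn
  have hℋinv : ∀ n ∈ N, ∀ L ∈ ℋ, conjBy n L ∈ ℋ := by
    intro n hn L hL
    obtain ⟨R, hR, rfl⟩ := hℋ' L hL
    refine Finset.mem_image.mpr ⟨n • R, ?_, ?_⟩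
    · have := hR.smul n
      rw [hNP n hn] at this
      simp [this]
    · show (P : Subgroup G) ⊓ ↑(n • R) = conjBy n ((P : Subgroup G) ⊓ R)
      rw [conjBy_inf, ← coe_sylow_smul n R]
      congr 1
      rw [← coe_sylow_smul, hNP n hn]
  set σ : N →* Equiv.Perm ℋ := invariantPermHom N conjBy conjBy_one conjBy_mul ℋ hℋinv
  obtain ⟨L₁, hL₁⟩ : ℋ.Nonempty := Finset.card_pos.mp (by omega)
  -- elements normalising every line act as scalars
  have hscalar : ∀ n : N, σ n = 1 → ∀ u ∈ (P : Subgroup G), u ≠ 1 →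
      (n : G) * u * (n : G)⁻¹ = u → (n : G) ∈ (P : Subgroup G) := by
    intro n hn u hu hu1 hfix
    apply hCeq
    rw [Subgroup.mem_centralizer_iff]
    intro w hw
    have hline : ∀ z ∈ (P : Subgroup G),
        (n : G) * z * (n : G)⁻¹ = z ∨ (n : G) * z * (n : G)⁻¹ = z⁻¹ := by
      intro z hz
      by_cases hz1 : z = 1
      · left; rw [hz1, mul_one, mul_inv_cancel]
      obtain ⟨L, hL, hzL⟩ := hcover z hz hz1
      have hfixL : conjBy (n : G) L = L := congrArg Subtype.val (Equiv.ext_iff.mp hn ⟨L, hL⟩)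
      have himg : (n : G) * z * (n : G)⁻¹ ∈ L :=
        (Subgroup.mem_normalizer_iff.mp (mem_normalizer_of_conjBy_eq hfixL) z).mp hzL
      have hgen : zpowers z = L := by
        refine Subgroup.eq_of_le_of_card_ge (zpowers_le.mpr hzL) ?_
        rw [Nat.card_zpowers, (hL3 L hL).1, orderOf_eq_prime (hexp z hz) hz1]
      rw [← hgen, mem_zpowers_iff] at himg
      obtain ⟨k, hk⟩ := himg
      rw [← hk, ← zpow_mod_orderOf z k, orderOf_eq_prime (hexp z hz) hz1]
      obtain h0 | h0 | h0 : k % 3 = 0 ∨ k % 3 = 1 ∨ k % 3 = 2 := by omega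
      · exfalso
        rw [← zpow_mod_orderOf z k, orderOf_eq_prime (hexp z hz) hz1,
          show k % ((3 : ℕ) : ℤ) = 0 from h0, zpow_zero] at hk
        exact hz1 (conj_eq_one_iff.mp hk.symm)
      · left; rw [show k % ((3 : ℕ) : ℤ) = 1 from h0, zpow_one]
      · right
        rw [show k % ((3 : ℕ) : ℤ) = 2 from h0, zpow_two, eq_inv_iff_mul_eq_one, ← sq, ← pow_succ]
        exact hexp z hz
    have hwfix : (n : G) * w * (n : G)⁻¹ = w := by
      rcases hline w hw with e | e
      · exact e
      · have hwu : (n : G) * (u * w) * (n : G)⁻¹ = u * w⁻¹ := by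
          rw [← e, ← conj_mul, hfix]
        rcases hline (u * w) (mul_mem hu hw) with e' | e' <;> rw [hwu] at e'
        · have : w⁻¹ = w := mul_left_cancel e'
          rw [e, this]
        · exfalso
          rw [mul_inv_rev, hab w⁻¹ (inv_mem hw) u⁻¹ (inv_mem hu), mul_right_cancel_iff] at e'
          have hu2 : u ^ 2 = 1 := by rw [sq]; exact eq_inv_iff_mul_eq_one.mp e'
          apply hu1
          have := hexp u hu
          rwa [pow_succ, hu2, one_mul] at this
    exact (mul_inv_eq_iff_eq_mul.mp hwfix).symm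
  obtain ⟨uL, huL⟩ := exists_prime_orderOf_dvd_card' (G := L₁) 3 (by rw [(hL3 L₁ hL₁).1])
  set u : G := (uL : G)
  have hu : u ∈ (P : Subgroup G) := (hL3 L₁ hL₁).2 uL.2
  have hu1 : u ≠ 1 := by
    intro e
    have := (orderOf_coe uL).trans huL
    rw [show (uL : G) = 1 from e, orderOf_one] at this
    omega
  have hkercard : Nat.card σ.ker ≤ 18 := by
    have hfixu : ∀ a b : σ.ker,
        ((((a : N) : G) * u * ((a : N) : G)⁻¹ = u) ↔ (((b : N) : G) * u * ((b : N) : G)⁻¹ = u)) →
        (((a⁻¹ * b : σ.ker) : N) : G) ∈ (P : Subgroup G) := by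
      intro a b hiff
      apply hscalar _ (MonoidHom.mem_ker.mp (a⁻¹ * b).2) u hu hu1
      have himg : ∀ c : σ.ker, ((c : N) : G) * u * ((c : N) : G)⁻¹ = u ∨
          ((c : N) : G) * u * ((c : N) : G)⁻¹ = u⁻¹ := by
        intro c
        have hc : conjBy ((c : N) : G) L₁ = L₁ :=
          congrArg Subtype.val (Equiv.ext_iff.mp (MonoidHom.mem_ker.mp c.2) ⟨L₁, hL₁⟩)
        have hm := (Subgroup.mem_normalizer_iff.mp (mem_normalizer_of_conjBy_eq hc) u).mp uL.2
        have hgen : zpowers u = L₁ :=
          Subgroup.eq_of_le_of_card_ge (zpowers_le.mpr uL.2)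
            (by rw [Nat.card_zpowers, (hL3 L₁ hL₁).1, orderOf_eq_prime (hexp u hu) hu1])
        rw [← hgen, mem_zpowers_iff] at hm
        obtain ⟨k, hk⟩ := hm
        rw [← zpow_mod_orderOf u k, orderOf_eq_prime (hexp u hu) hu1] at hk
        obtain h0 | h0 | h0 : k % 3 = 0 ∨ k % 3 = 1 ∨ k % 3 = 2 := by omega
        · rw [show k % ((3 : ℕ) : ℤ) = 0 from h0, zpow_zero] at hk
          exact absurd (conj_eq_one_iff.mp hk.symm) hu1
        · left; rw [← hk, show k % ((3 : ℕ) : ℤ) = 1 from h0, zpow_one]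
        · right
          rw [← hk, show k % ((3 : ℕ) : ℤ) = 2 from h0, zpow_two, eq_inv_iff_mul_eq_one, ← sq,
            ← pow_succ]
          exact hexp u hu
      have heq : ((a : N) : G) * u * ((a : N) : G)⁻¹ = ((b : N) : G) * u * ((b : N) : G)⁻¹ := by
        rcases himg a with ea | ea <;> rcases himg b with eb | eb
        · rw [ea, eb]
        · rw [ea, hiff.mp ea]
        · rw [hiff.mpr eb, eb]
        · rw [ea, eb]
      show ((a : N) : G)⁻¹ * ((b : N) : G) * u * (((a : N) : G)⁻¹ * ((b : N) : G))⁻¹ = u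
      calc ((a : N) : G)⁻¹ * ((b : N) : G) * u * (((a : N) : G)⁻¹ * ((b : N) : G))⁻¹
          = ((a : N) : G)⁻¹ * (((b : N) : G) * u * ((b : N) : G)⁻¹) * ((a : N) : G) := by group
        _ = u := by rw [← heq]; group
    set I : Subgroup σ.ker := ((P : Subgroup G).subgroupOf N).subgroupOf σ.ker
    have hidx : I.index ≤ 2 := by
      rw [Subgroup.index_eq_card]
      refine (Nat.card_le_card_of_injective
        (fun x : σ.ker ⧸ I => decide ((((x.out : σ.ker) : N) : G) * u *
          (((x.out : σ.ker) : N) : G)⁻¹ = u)) ?_).trans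
        (by rw [Nat.card_eq_fintype_card, Fintype.card_bool])
      intro a b hab'
      rw [← QuotientGroup.out_eq' a, ← QuotientGroup.out_eq' b, QuotientGroup.eq,
        Subgroup.mem_subgroupOf, Subgroup.mem_subgroupOf]
      exact hfixu _ _ (decide_eq_decide.mp hab')
    have hI : Nat.card I ≤ 9 := by
      rw [← h9]
      exact Nat.card_le_card_of_injective
        (fun z : I => (⟨((z : σ.ker) : N), Subgroup.mem_subgroupOf.mp
          (Subgroup.mem_subgroupOf.mp z.2)⟩ : (P : Subgroup G)))
        fun z w e => Subtype.ext (Subtype.ext (Subtype.ext (congrArg Subtype.val e :)))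
    calc Nat.card σ.ker = Nat.card I * I.index := I.card_mul_index.symm
      _ ≤ 9 * 2 := Nat.mul_le_mul hI hidx
  -- the order
  have hker9 : 9 ∣ Nat.card σ.ker := by
    have hle : (P : Subgroup G).subgroupOf N ≤ σ.ker := by
      intro z hz
      refine MonoidHom.mem_ker.mpr (Equiv.ext fun L => Subtype.ext ?_)
      show conjBy (z : G) (L : Subgroup G) = L
      refine conjBy_eq_self (Subgroup.centralizer_le_normalizer _ ?_)
      rw [Subgroup.mem_centralizer_iff]
      exact fun w hw => hab w ((hL3 L L.2).2 hw) z hz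
    have := Subgroup.card_dvd_of_le hle
    rwa [Nat.card_congr (Subgroup.subgroupOfEquivOfLe
      (le_normalizer : (P : Subgroup G) ≤ N)).toEquiv, h9] at this
  set i := Nat.card σ.range with hi
  obtain ⟨k, hk⟩ := hker9
  have hNcard : Nat.card N = 9 * k * i := by
    rw [← σ.ker.card_mul_index, Subgroup.index_ker, hk]
  have hG : Nat.card G = 198 * (k * i) := by
    rw [h.card_eq_twentytwo_mul P, hNcard]; ring
  have h3ki : ¬ 3 ∣ k * i := by
    intro h3ki
    have h27 : 27 ∣ Nat.card G := by
      rw [hG]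
      obtain ⟨j, hj⟩ := h3ki
      exact ⟨22 * j, by rw [hj]; ring⟩
    apply P.not_dvd_index
    rw [← (P : Subgroup G).card_mul_index, h9, show 27 = 9 * 3 by rfl,
      Nat.mul_dvd_mul_iff_left (by norm_num : 0 < 9)] at h27
    exact h27
  have hk2 : k ≤ 2 := by omega
  have hk0 : 0 < k := by
    have : 0 < Nat.card σ.ker := Nat.card_pos
    omega
  have hPerm4 : Nat.card (Equiv.Perm ℋ) = 24 := by
    rw [Nat.card_eq_fintype_card, Fintype.card_perm, Fintype.card_coe, hℋ]
    decide
  have hi24 : i ∣ 24 := hPerm4 ▸ σ.range.card_subgroup_dvd_card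
  have hi8 : i ∣ 8 := by
    refine Nat.Coprime.dvd_of_dvd_mul_right ?_ (show i ∣ 8 * 3 from hi24)
    exact (Nat.prime_three.coprime_iff_not_dvd.mpr fun h => h3ki (h.mul_left k)).symm
  have hicases : i = 1 ∨ i = 2 ∨ i = 4 ∨ i = 8 := by
    have hm : i ∈ Nat.divisors 8 := Nat.mem_divisors.mpr ⟨hi8, by norm_num⟩
    rw [show Nat.divisors 8 = {1, 2, 4, 8} by decide] at hm
    simpa using hm
  have hN11 : ∀ R : Sylow 3 G, ¬ 11 ∣ Nat.card (normalizer ((R : Subgroup G) : Set G)) := by
    intro R h11
    have hR := h.card_eq_twentytwo_mul R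
    have heqN : Nat.card (normalizer ((R : Subgroup G) : Set G)) = 9 * k * i := by
      rw [← hNcard]
      exact Nat.eq_of_mul_eq_mul_left (by norm_num : 0 < 22)
        (hR.symm.trans (h.card_eq_twentytwo_mul P))
    rw [heqN] at h11
    rcases hicases with e | e | e | e <;> rw [e] at h11 <;> interval_cases k <;> omega
  obtain ⟨Q⟩ : Nonempty (Sylow 11 G) := inferInstance
  obtain ⟨-, -, e, he, he10, he1⟩ := h.sylow_eleven hN11 Q
  have hmod : Nat.card (Sylow 11 G) % 11 = 1 := card_sylow_modEq_one 11 G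
  have hne : Nat.card (Sylow 11 G) * (11 * e) = 198 * (k * i) := by
    have := (normalizer ((Q : Subgroup G) : Set G)).card_mul_index
    rw [show (normalizer ((Q : Subgroup G) : Set G)).index = Nat.card (Sylow 11 G) from
      Q.card_eq_index_normalizer.symm, he, hG, mul_comm] at this
    exact this
  have hfinal : k = 2 ∧ i = 8 := by
    have he' : e = 2 ∨ e = 5 ∨ e = 10 := by
      have hm : e ∈ Nat.divisors 10 := Nat.mem_divisors.mpr ⟨he10, by norm_num⟩
      rw [show Nat.divisors 10 = {1, 2, 5, 10} by decide] at hm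
      simp only [Finset.mem_insert, Finset.mem_singleton] at hm
      omega
    clear_value i
    interval_cases k <;> rcases hicases with rfl | rfl | rfl | rfl <;>
      rcases he' with rfl | rfl | rfl <;> omega
  obtain ⟨hkv, hiv⟩ := hfinal
  -- a reflection
  obtain ⟨τ, ⟨n₀, hn₀⟩, hsw⟩ := exists_isSwap_mem (α := ℋ) (by rw [Fintype.card_coe, hℋ]; norm_num)
    σ.range (by
      rw [hPerm4, show 24 = 2 ^ 3 * 3 by rfl, Nat.factorization_def _ Nat.prime_two,
        padicValNat.mul (by norm_num) (by norm_num), padicValNat.prime_pow,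
        padicValNat.eq_zero_of_not_dvd (by norm_num : ¬ 2 ∣ 3), add_zero, ← hi, hiv]
      norm_num)
  have hτ2 : τ ^ 2 = 1 := by
    obtain ⟨a, b, -, rfl⟩ := hsw
    rw [sq, Equiv.swap_mul_self]
  set m := n₀ ^ 9
  have hσm : σ m = τ := by
    rw [map_pow, hn₀, show 9 = 2 * 4 + 1 from rfl, pow_succ, pow_mul, hτ2, one_pow, one_mul]
  obtain ⟨A, B, hAB, hτ⟩ := hsw
  obtain ⟨L₂, hL₂, L₃, hL₃, hL23, hL₂A, hL₂B, hL₃A, hL₃B⟩ :
      ∃ L₂ : ℋ, L₂ ∈ Finset.univ ∧ ∃ L₃ : ℋ, L₃ ∈ Finset.univ ∧ L₂ ≠ L₃ ∧
        L₂ ≠ A ∧ L₂ ≠ B ∧ L₃ ≠ A ∧ L₃ ≠ B := by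
    have hcard2 : 1 < ((Finset.univ : Finset ℋ) \ {A, B}).card := by
      rw [Finset.card_sdiff_of_subset (Finset.subset_univ _), Finset.card_univ, Fintype.card_coe,
        hℋ, Finset.card_pair hAB]
      norm_num
    obtain ⟨a, ha, b, hb, hab'⟩ := Finset.one_lt_card.mp hcard2
    simp only [Finset.mem_sdiff, Finset.mem_univ, Finset.mem_insert, Finset.mem_singleton,
      not_or, true_and] at ha hb
    exact ⟨a, Finset.mem_univ _, b, Finset.mem_univ _, hab', ha.1, ha.2, hb.1, hb.2⟩
  set y : G := (m : G)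
  have hyN : y ∈ N := m.2
  have hyP : y • P = P := hNP y hyN
  have hact : ∀ L : ℋ, conjBy y (L : Subgroup G) = (Equiv.swap A B L : ℋ) := by
    intro L
    rw [← hτ, ← hσm]
    rfl
  -- on a fixed line the action is by a sign
  have hline : ∀ L : ℋ, L ≠ A → L ≠ B → ∀ z ∈ (L : Subgroup G),
      ((∀ w ∈ (L : Subgroup G), y * w * y⁻¹ = w) ∨ (∀ w ∈ (L : Subgroup G), y * w * y⁻¹ = w⁻¹)) := by
    intro L hA hB _ _
    have hfixL : conjBy y (L : Subgroup G) = L := by
      rw [hact, Equiv.swap_apply_of_ne_of_ne hA hB]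
    obtain ⟨gL, hgL⟩ := exists_prime_orderOf_dvd_card' (G := (L : Subgroup G)) 3
      (by rw [(hL3 L L.2).1])
    set g : G := (gL : G)
    have hg3 : orderOf g = 3 := (orderOf_coe gL).trans hgL
    have hgen : zpowers g = (L : Subgroup G) :=
      Subgroup.eq_of_le_of_card_ge (zpowers_le.mpr gL.2)
        (by rw [Nat.card_zpowers, (hL3 L L.2).1, hg3])
    have himg := (Subgroup.mem_normalizer_iff.mp (mem_normalizer_of_conjBy_eq hfixL) g).mp gL.2
    rw [← hgen, mem_zpowers_iff] at himg
    obtain ⟨j, hj⟩ := himg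
    rw [← zpow_mod_orderOf g j, hg3] at hj
    obtain h0 | h0 | h0 : j % 3 = 0 ∨ j % 3 = 1 ∨ j % 3 = 2 := by omega
    · rw [show j % ((3 : ℕ) : ℤ) = 0 from h0, zpow_zero] at hj
      have := conj_eq_one_iff.mp hj.symm
      rw [this, orderOf_one] at hg3
      omega
    · left
      intro w hw
      rw [← hgen, mem_zpowers_iff] at hw
      obtain ⟨l, rfl⟩ := hw
      rw [← conj_zpow, ← hj, show j % ((3 : ℕ) : ℤ) = 1 from h0, zpow_one]
    · right
      intro w hw
      rw [← hgen, mem_zpowers_iff] at hw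
      obtain ⟨l, rfl⟩ := hw
      rw [← conj_zpow, ← hj, show j % ((3 : ℕ) : ℤ) = 2 from h0, ← inv_zpow]
      congr 1
      rw [zpow_two, eq_inv_iff_mul_eq_one, ← sq, ← pow_succ, show (2 + 1 : ℕ) = 3 from rfl, ← hg3,
        pow_orderOf_eq_one]
  have hne1 : ∀ L : ℋ, ∃ z ∈ (L : Subgroup G), z ≠ 1 := by
    intro L
    refine (Subgroup.bot_or_exists_ne_one _).resolve_left fun hbot => ?_
    have := (hL3 L L.2).1
    rw [hbot, Subgroup.card_bot] at this
    omega
  -- the two fixed lines have opposite signs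
  have hmixed : ∀ L L' : ℋ, L ≠ L' → L ≠ A → L ≠ B → L' ≠ A → L' ≠ B →
      ∀ z ∈ (L : Subgroup G), ∀ z' ∈ (L' : Subgroup G), z ≠ 1 → z' ≠ 1 →
      ¬ (y * (z * z') * y⁻¹ = z * z' ∨ y * (z * z') * y⁻¹ = (z * z')⁻¹) := by
    intro L L' hLL' hA hB hA' hB' z hz z' hz' hz1 hz'1 hor
    have hzz : z * z' ≠ 1 := by
      intro e
      have hzL' : z ∈ (L' : Subgroup G) := eq_inv_of_mul_eq_one_left e ▸ inv_mem hz'
      exact hLL' (Subtype.ext (hdisj L L.2 L' L'.2 z hz hzL' hz1))
    have hzP : z * z' ∈ (P : Subgroup G) := mul_mem ((hL3 L L.2).2 hz) ((hL3 L' L'.2).2 hz')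
    obtain ⟨M, hM, hMz⟩ := hcover _ hzP hzz
    set M' : ℋ := ⟨M, hM⟩
    have hML : M' ≠ L := by
      intro e
      have hML : M = (L : Subgroup G) := congrArg Subtype.val e
      rw [hML] at hMz
      exact hLL' (Subtype.ext (hdisj L L.2 L' L'.2 z'
        (by simpa using mul_mem (inv_mem hz) hMz) hz' hz'1))
    have hML' : M' ≠ L' := by
      intro e
      have hML : M = (L' : Subgroup G) := congrArg Subtype.val e
      rw [hML] at hMz
      exact hLL' (Subtype.ext (hdisj L L.2 L' L'.2 z hz
        (by simpa using mul_mem hMz (inv_mem hz')) hz1))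
    have hAB' : M' = A ∨ M' = B := by
      by_contra hcon
      push Not at hcon
      have hle : ({A, B, L, L', M'} : Finset ℋ).card ≤ 4 := by
        have := Finset.card_le_univ ({A, B, L, L', M'} : Finset ℋ)
        rwa [Fintype.card_coe, hℋ] at this
      rw [Finset.card_insert_of_notMem, Finset.card_insert_of_notMem,
        Finset.card_insert_of_notMem, Finset.card_insert_of_notMem, Finset.card_singleton] at hle
      · omega
      all_goals simp only [Finset.mem_insert, Finset.mem_singleton, not_or]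
      · exact hML'.symm
      · exact ⟨hLL', hML.symm⟩
      · exact ⟨hB.symm, hB'.symm, hcon.2.symm⟩
      · exact ⟨hAB, hA.symm, hA'.symm, hcon.1.symm⟩
    have hmove : (Equiv.swap A B M' : ℋ) ≠ M' := by
      rcases hAB' with e | e <;> rw [e]
      · rw [Equiv.swap_apply_left]; exact hAB.symm
      · rw [Equiv.swap_apply_right]; exact hAB
    have hin : y * (z * z') * y⁻¹ ∈ ((Equiv.swap A B M' : ℋ) : Subgroup G) := by
      rw [← hact, mem_conjBy]
      simpa [mul_assoc] using hMz
    have hinM : y * (z * z') * y⁻¹ ∈ M := by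
      rcases hor with e | e <;> rw [e]
      · exact hMz
      · exact inv_mem hMz
    exact hmove (Subtype.ext (hdisj _ (Equiv.swap A B M').2 M hM _ hin hinM
      (fun e => hzz (conj_eq_one_iff.mp e))))
  -- the square of the element centralises `P`
  obtain ⟨z₂, hz₂, hz₂1⟩ := hne1 L₂
  obtain ⟨z₃, hz₃, hz₃1⟩ := hne1 L₃
  have hy2 : y * y = 1 := by
    have hm2 : σ (m * m) = 1 := by rw [map_mul, hσm, ← sq, hτ2]
    have hyyP : y * y ∈ (P : Subgroup G) := by
      refine hscalar (m * m) hm2 z₂ ((hL3 L₂ L₂.2).2 hz₂) hz₂1 ?_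
      show y * y * z₂ * (y * y)⁻¹ = z₂
      rw [show y * y * z₂ * (y * y)⁻¹ = y * (y * z₂ * y⁻¹) * y⁻¹ by group]
      rcases hline L₂ hL₂A hL₂B z₂ hz₂ with e | e
      · rw [e z₂ hz₂, e z₂ hz₂]
      · rw [e z₂ hz₂, ← conj_inv, e z₂ hz₂, inv_inv]
    rw [← orderOf_eq_one_iff]
    refine Nat.eq_one_of_dvd_coprimes (show Nat.Coprime 3 16 by norm_num)
      (orderOf_dvd_of_pow_eq_one (hexp _ hyyP)) ?_
    have h144 : (n₀ : G) ^ 144 = 1 := by
      have := orderOf_dvd_natCard n₀
      rw [hNcard, hkv, hiv, ← orderOf_coe] at this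
      exact orderOf_dvd_iff_pow_eq_one.mp this
    refine orderOf_dvd_of_pow_eq_one ?_
    rw [show y * y = (n₀ : G) ^ 18 by rw [show 18 = 9 + 9 from rfl, pow_add]; rfl, ← pow_mul,
      show 18 * 16 = 144 * 2 from rfl, pow_mul, h144, one_pow]
  have hyinv : y⁻¹ = y := inv_eq_of_mul_eq_one_right hy2
  obtain ⟨L, L', hLL', hA, hB, hA', hB', hpos, hneg⟩ : ∃ L L' : ℋ, L ≠ L' ∧ L ≠ A ∧ L ≠ B ∧
      L' ≠ A ∧ L' ≠ B ∧ (∀ w ∈ (L : Subgroup G), y * w * y⁻¹ = w) ∧
      (∀ w ∈ (L' : Subgroup G), y * w * y⁻¹ = w⁻¹) := by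
    rcases hline L₂ hL₂A hL₂B z₂ hz₂ with e2 | e2 <;>
      rcases hline L₃ hL₃A hL₃B z₃ hz₃ with e3 | e3
    · refine absurd (Or.inl ?_) (hmixed L₂ L₃ hL23 hL₂A hL₂B hL₃A hL₃B z₂ hz₂ z₃ hz₃ hz₂1 hz₃1)
      rw [← conj_mul, e2 z₂ hz₂, e3 z₃ hz₃]
    · exact ⟨L₂, L₃, hL23, hL₂A, hL₂B, hL₃A, hL₃B, e2, e3⟩
    · exact ⟨L₃, L₂, hL23.symm, hL₃A, hL₃B, hL₂A, hL₂B, e3, e2⟩
    · refine absurd (Or.inr ?_) (hmixed L₂ L₃ hL23 hL₂A hL₂B hL₃A hL₃B z₂ hz₂ z₃ hz₃ hz₂1 hz₃1)
      rw [← conj_mul, e2 z₂ hz₂, e3 z₃ hz₃, mul_inv_rev,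
        hab _ (inv_mem ((hL3 L₂ L₂.2).2 hz₂)) _ (inv_mem ((hL3 L₃ L₃.2).2 hz₃))]
  have hLP : (L : Subgroup G) ≤ P := (hL3 L L.2).2
  have hL'P : (L' : Subgroup G) ≤ P := (hL3 L' L'.2).2
  have htriv : ∀ w, w ∈ (L : Subgroup G) → w ∈ (L' : Subgroup G) → w = 1 := by
    intro w hw hw'
    by_contra hw1
    exact hLL' (Subtype.ext (hdisj L L.2 L' L'.2 w hw hw' hw1))
  -- `P` is the product of the two lines
  have hdec : ∀ t ∈ (P : Subgroup G), ∃ a ∈ (L : Subgroup G), ∃ b ∈ (L' : Subgroup G),
      t = a * b := by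
    intro t ht
    let f : ↥(L : Subgroup G) × ↥(L' : Subgroup G) → ↥(P : Subgroup G) :=
      fun p => ⟨(p.1 : G) * p.2, mul_mem (hLP p.1.2) (hL'P p.2.2)⟩
    have hf : Function.Bijective f := by
      have := Fintype.ofFinite (L : Subgroup G)
      have := Fintype.ofFinite (L' : Subgroup G)
      have := Fintype.ofFinite (P : Subgroup G)
      rw [Fintype.bijective_iff_injective_and_card]
      constructor
      · rintro ⟨a, b⟩ ⟨a', b'⟩ e
        have e' : (a : G) * b = (a' : G) * b' := congrArg Subtype.val e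
        have hsame : (a' : G)⁻¹ * a = (b' : G) * (b : G)⁻¹ := by
          rw [eq_mul_inv_iff_mul_eq, mul_assoc, e', inv_mul_cancel_left]
        have h1 := htriv _ (mul_mem (inv_mem a'.2) a.2) (hsame ▸ mul_mem b'.2 (inv_mem b.2))
        have ha : (a : G) = a' := (inv_mul_eq_one.mp h1).symm
        rw [ha] at e'
        exact Prod.ext (Subtype.ext ha) (Subtype.ext (mul_left_cancel e'))
      · rw [Fintype.card_prod, ← Nat.card_eq_fintype_card, ← Nat.card_eq_fintype_card,
          ← Nat.card_eq_fintype_card, (hL3 L L.2).1, (hL3 L' L'.2).1, h9]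
    obtain ⟨⟨a, b⟩, hfab⟩ := hf.2 ⟨t, ht⟩
    exact ⟨a, a.2, b, b.2, (congrArg Subtype.val hfab).symm⟩
  have hconj : ∀ (z : G) (R : Sylow 3 G), y • z • R = (y * z * y⁻¹) • y • R := by
    intro z R
    rw [← mul_smul, ← mul_smul, inv_mul_cancel_right]
  have hyy : ∀ R : Sylow 3 G, y • y • R = R := fun R => by rw [← mul_smul, hy2, one_smul]
  have hnfix : ∀ (R : Sylow 3 G) (z : G), z ∈ (P : Subgroup G) → z • R = R →
      z ∈ (P : Subgroup G) ⊓ (R : Subgroup G) := fun R z hz hzR =>
    ⟨hz, (sylow_smul_eq_iff_mem (orderOf_sylow_mem hz) R).mp hzR⟩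
  -- lines of fixed near points
  have hfixline : ∀ (R : Sylow 3 G) (M : ℋ), Near P R → (P : Subgroup G) ⊓ R = M → y • R = R →
      M = L ∨ M = L' := by
    intro R M hR hRM hfix
    have hmf : conjBy y (M : Subgroup G) = M := by
      rw [← hRM, conjBy_inf, ← coe_sylow_smul, ← coe_sylow_smul, hyP, hfix]
    rw [hact] at hmf
    have hM : Equiv.swap A B M = M := Subtype.ext hmf
    by_contra hcon
    push Not at hcon
    have hMA : M ≠ A := by
      rintro rfl; rw [Equiv.swap_apply_left] at hM; exact hAB hM.symm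
    have hMB : M ≠ B := by
      rintro rfl; rw [Equiv.swap_apply_right] at hM; exact hAB hM
    have hle : ({A, B, L, L', M} : Finset ℋ).card ≤ 4 := by
      have := Finset.card_le_univ ({A, B, L, L', M} : Finset ℋ)
      rwa [Fintype.card_coe, hℋ] at this
    rw [Finset.card_insert_of_notMem, Finset.card_insert_of_notMem,
      Finset.card_insert_of_notMem, Finset.card_insert_of_notMem, Finset.card_singleton] at hle
    · omega
    all_goals simp only [Finset.mem_insert, Finset.mem_singleton, not_or]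
    · exact hcon.2.symm
    · exact ⟨hLL', hcon.1.symm⟩
    · exact ⟨hB.symm, hB'.symm, hMB.symm⟩
    · exact ⟨hAB, hA.symm, hA'.symm, hMA.symm⟩
  -- a fixed point in the class of the centralised line
  obtain ⟨R₁, hR₁, hR₁L⟩ := hℋ' L L.2
  have hsmulblock : ∀ (M : ℋ) (R : Sylow 3 G) (z : G), z ∈ (P : Subgroup G) → Near P R →
      (P : Subgroup G) ⊓ R = M → Near P (z • R) ∧ (P : Subgroup G) ⊓ ↑(z • R) = M := by
    intro M R z hz hR hRM
    refine ⟨hR.smul_of_mem hz, ?_⟩
    have hzP : z • P = P := (sylow_smul_eq_iff_mem (orderOf_sylow_mem hz) P).mpr hz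
    calc (P : Subgroup G) ⊓ ↑(z • R) = ((z • P : Sylow 3 G) : Subgroup G) ⊓ ↑(z • R) := by rw [hzP]
      _ = conjBy z ((P : Subgroup G) ⊓ R) := by rw [coe_sylow_smul, coe_sylow_smul, ← conjBy_inf]
      _ = M := by rw [conjBy_eq_self (hR.mem_normalizer hz), hRM]
  have hyblock : ∀ (M : ℋ) (R : Sylow 3 G), M ≠ A → M ≠ B → Near P R →
      (P : Subgroup G) ⊓ R = M → Near P (y • R) ∧ (P : Subgroup G) ⊓ ↑(y • R) = M := by
    intro M R hMA hMB hR hRM
    have hn := hR.smul y
    rw [hyP] at hn
    refine ⟨hn, ?_⟩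
    calc (P : Subgroup G) ⊓ ↑(y • R) = ((y • P : Sylow 3 G) : Subgroup G) ⊓ ↑(y • R) := by rw [hyP]
      _ = conjBy y (M : Subgroup G) := by rw [coe_sylow_smul, coe_sylow_smul, ← conjBy_inf, hRM]
      _ = M := by rw [hact, Equiv.swap_apply_of_ne_of_ne hMA hMB]
  obtain ⟨S₁, hS₁, hS₁L, hS₁fix⟩ : ∃ S₁, Near P S₁ ∧ (P : Subgroup G) ⊓ S₁ = L ∧ y • S₁ = S₁ := by
    obtain ⟨hn, hnL⟩ := hyblock L R₁ hA hB hR₁ hR₁L
    obtain ⟨t, ht, htR⟩ := horbblock L L.2 R₁ (y • R₁) hR₁ hR₁L hn hnL
    obtain ⟨a, ha, b, hb, rfl⟩ := hdec t ht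
    have haR : a • R₁ = R₁ := by
      rw [← hR₁L] at ha
      exact (sylow_smul_eq_iff_mem (orderOf_sylow_mem ha.1) R₁).mpr ha.2
    have hbR : y • R₁ = b • R₁ := by
      rw [← htR, hab a (hLP ha) b (hL'P hb), mul_smul, haR]
    refine ⟨(b * b) • R₁, (hsmulblock L R₁ _ (mul_mem (hL'P hb) (hL'P hb)) hR₁ hR₁L).1,
      (hsmulblock L R₁ _ (mul_mem (hL'P hb) (hL'P hb)) hR₁ hR₁L).2, ?_⟩
    rw [hconj, hneg _ (mul_mem hb hb), hbR, ← mul_smul]
    congr 1
    have hb3 := hexp b (hL'P hb)
    calc (b * b)⁻¹ * b = b⁻¹ := by group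
      _ = b * b := by
          rw [inv_eq_iff_mul_eq_one, ← pow_three]; exact hb3
  -- fixed far point
  obtain ⟨Q₀, hQ₀, hQ₀n, hQ₀fix⟩ : ∃ Q₀ : Sylow 3 G, Q₀ ≠ P ∧ ¬ Near P Q₀ ∧ y • Q₀ = Q₀ := by
    obtain ⟨S, hS, hSn⟩ : ∃ S : Sylow 3 G, S ≠ P ∧ ¬ Near P S := by
      by_contra! hall
      have : insert P {R : Sylow 3 G | Near P R} = Set.univ :=
        Set.eq_univ_of_forall fun R => (em (R = P)).imp id (hall R)
      have := congrArg Set.ncard this
      rw [Set.ncard_insert_of_notMem (fun hP => hP.1 rfl) (Set.toFinite _), h12, Set.ncard_univ,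
        h.card_eq] at this
      omega
    have hyS : y • S ∈ MulAction.orbit (P : Subgroup G) S := by
      rw [← h.far_eq_orbit h3 hS hSn]
      refine ⟨fun e => hS (MulAction.injective y (e.trans hyP.symm)), fun hn => hSn ?_⟩
      have := hn.smul y
      rwa [hyP, hyy] at this
    obtain ⟨⟨t, ht⟩, htS⟩ := hyS
    obtain ⟨a, ha, b, hb, rfl⟩ := hdec t ht
    have htS' : (a * b) • S = y • S := htS
    have hbot : (P : Subgroup G) ⊓ S = ⊥ := by
      have h1 := card_orbit_mul_inf (le_refl (P : Subgroup G)) S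
      rw [h.far_orbit hS hSn, h9] at h1
      exact Subgroup.eq_bot_of_card_eq _ (by omega)
    have haa : (a * a) • S = S := by
      have e := hconj (a * b) S
      rw [htS', hyy, ← conj_mul, hpos a ha, hneg b hb, ← htS', ← mul_smul] at e
      rw [show a * a = (a * b⁻¹) * (a * b) by
        rw [mul_assoc, ← mul_assoc b⁻¹, hab b⁻¹ (inv_mem (hL'P hb)) a (hLP ha), mul_assoc a,
          inv_mul_cancel, mul_one]]
      exact e.symm
    have ha1 : a = 1 := by
      have := hnfix S _ (mul_mem (hLP ha) (hLP ha)) haa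
      rw [hbot, Subgroup.mem_bot] at this
      have h3a := hexp a (hLP ha)
      rw [pow_succ, pow_two, this, one_mul] at h3a
      exact h3a
    rw [ha1, one_mul] at htS'
    refine ⟨(b * b) • S, fun e => ?_, fun hn => hSn ?_, ?_⟩
    · exact sylow_not_mem_orbit hS (e ▸ MulAction.mem_orbit S
        (⟨b * b, mul_mem (hL'P hb) (hL'P hb)⟩ : (P : Subgroup G)))
    · have := hn.smul_of_mem (inv_mem (mul_mem (hL'P hb) (hL'P hb)))
      rwa [inv_smul_smul] at this
    · rw [hconj, hneg _ (mul_mem hb hb), ← htS', ← mul_smul]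
      congr 1
      calc (b * b)⁻¹ * b = b⁻¹ := by group
        _ = b * b := by
            rw [inv_eq_iff_mul_eq_one, ← pow_three]; exact hexp b (hL'P hb)
  -- the fixed point set
  set F : Set (Sylow 3 G) :=
    {P} ∪ {S₁} ∪ ({R | Near P R ∧ (P : Subgroup G) ⊓ R = (L' : Subgroup G)}) ∪
      (fun a : (L : Subgroup G) => (a : G) • Q₀) '' Set.univ
  have hQ₀bot : (P : Subgroup G) ⊓ Q₀ = ⊥ := by
    have h1 := card_orbit_mul_inf (le_refl (P : Subgroup G)) Q₀
    rw [h.far_orbit hQ₀ hQ₀n, h9] at h1
    exact Subgroup.eq_bot_of_card_eq _ (by omega)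
  have hfixF : ∀ R : Sylow 3 G, y • R = R ↔ R ∈ F := by
    intro R
    constructor
    · intro hfix
      by_cases hRP : R = P
      · exact Or.inl (Or.inl (Or.inl hRP))
      by_cases hn : Near P R
      · set M : ℋ := ⟨(P : Subgroup G) ⊓ R, Finset.mem_image.mpr ⟨R, by simp [hn], rfl⟩⟩
        rcases hfixline R M hn rfl hfix with e | e
        · have hRL : (P : Subgroup G) ⊓ R = L := congrArg Subtype.val e
          obtain ⟨t, ht, htR⟩ := horbblock L L.2 S₁ R hS₁ hS₁L hn hRL
          obtain ⟨a, ha, b, hb, rfl⟩ := hdec t ht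
          have haS : a • S₁ = S₁ := by
            rw [← hS₁L] at ha
            exact (sylow_smul_eq_iff_mem (orderOf_sylow_mem ha.1) S₁).mpr ha.2
          rw [hab a (hLP ha) b (hL'P hb), mul_smul, haS] at htR
          have h1 : b⁻¹ • S₁ = b • S₁ := by
            have e1 : y • b • S₁ = b • S₁ := by rw [htR]; exact hfix
            rwa [hconj, hneg b hb, hS₁fix] at e1
          have h2 : (b * b) • S₁ = S₁ := by rw [mul_smul, ← h1, smul_inv_smul]
          have hbb := hnfix S₁ _ (mul_mem (hL'P hb) (hL'P hb)) h2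
          rw [hS₁L] at hbb
          have hb2 := htriv _ hbb (mul_mem hb hb)
          have hb3 := hexp b (hL'P hb)
          rw [pow_succ, pow_two, hb2, one_mul] at hb3
          rw [hb3, one_smul] at htR
          exact Or.inl (Or.inl (Or.inr htR.symm))
        · exact Or.inl (Or.inr ⟨hn, congrArg Subtype.val e⟩)
      · have hmem : R ∈ MulAction.orbit (P : Subgroup G) Q₀ :=
          h.far_eq_orbit h3 hQ₀ hQ₀n ▸ ⟨hRP, hn⟩
        obtain ⟨⟨t, ht⟩, htR⟩ := hmem
        obtain ⟨a, ha, b, hb, rfl⟩ := hdec t ht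
        have htR' : (a * b) • Q₀ = R := htR
        have e1 : y • (a * b) • Q₀ = (a * b) • Q₀ := by rw [htR']; exact hfix
        rw [hconj, ← conj_mul, hpos a ha, hneg b hb, hQ₀fix, mul_smul, mul_smul] at e1
        have e2 := MulAction.injective a e1
        have h2 : (b * b) • Q₀ = Q₀ := by rw [mul_smul, ← e2, smul_inv_smul]
        have hbb := hnfix Q₀ _ (mul_mem (hL'P hb) (hL'P hb)) h2
        rw [hQ₀bot, Subgroup.mem_bot] at hbb
        have hb3 := hexp b (hL'P hb)
        rw [pow_succ, pow_two, hbb, one_mul] at hb3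
        rw [hb3, mul_one] at htR'
        exact Or.inr ⟨⟨a, ha⟩, Set.mem_univ _, htR'⟩
    · rintro (((hR | hR) | ⟨hn, hnL⟩) | ⟨a, -, rfl⟩)
      · rw [show R = P from hR]; exact hyP
      · rw [show R = S₁ from hR]; exact hS₁fix
      · obtain ⟨hn', hn'L⟩ := hyblock L' R hA' hB' hn hnL
        obtain ⟨t, ht, htR⟩ := horbblock L' L'.2 R (y • R) hn hnL hn' hn'L
        obtain ⟨a, ha, b, hb, rfl⟩ := hdec t ht
        have hbR : b • R = R := by
          rw [← hnL] at hb
          exact (sylow_smul_eq_iff_mem (orderOf_sylow_mem hb.1) R).mpr hb.2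
        rw [mul_smul, hbR] at htR
        have h1 := hyy R
        rw [← htR, hconj, hpos a ha, ← htR, ← mul_smul] at h1
        have haa := hnfix R _ (mul_mem (hLP ha) (hLP ha)) h1
        rw [hnL] at haa
        have ha2 := htriv _ (mul_mem ha ha) haa
        have ha3 := hexp a (hLP ha)
        rw [pow_succ, pow_two, ha2, one_mul] at ha3
        rw [← htR, ha3, one_smul]
      · show y • (a : G) • Q₀ = (a : G) • Q₀
        rw [hconj, hpos a a.2, hQ₀fix]
  have hblockcard : {R : Sylow 3 G | Near P R ∧ (P : Subgroup G) ⊓ R = (L' : Subgroup G)}.ncard = 3 := by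
    obtain ⟨R, hR, hRL⟩ := hℋ' L' L'.2
    have heq : {R' : Sylow 3 G | Near P R' ∧ (P : Subgroup G) ⊓ R' = (L' : Subgroup G)} =
        MulAction.orbit (P : Subgroup G) R := by
      ext R'
      constructor
      · rintro ⟨hn, hnL⟩
        obtain ⟨t, ht, htR⟩ := horbblock L' L'.2 R R' hR hRL hn hnL
        exact ⟨⟨t, ht⟩, htR⟩
      · rintro ⟨t, rfl⟩
        exact hsmulblock L' R t t.2 hR hRL
    rw [heq, ← Nat.card_coe_set_eq, (h.near_iff hR.1).mp hR]
  have hOcard : ((fun a : (L : Subgroup G) => (a : G) • Q₀) '' Set.univ).ncard = 3 := by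
    rw [Set.ncard_image_of_injective _ ?_, Set.ncard_univ, (hL3 L L.2).1]
    intro a a' e
    have e' : (a : G) • Q₀ = (a' : G) • Q₀ := e
    have hmem := hnfix Q₀ _ (mul_mem (inv_mem (hLP a'.2)) (hLP a.2))
      (by rw [mul_smul, e', inv_smul_smul])
    rw [hQ₀bot, Subgroup.mem_bot] at hmem
    exact Subtype.ext (inv_mul_eq_one.mp hmem).symm
  have hFcard : F.ncard = 8 := by
    rw [Set.ncard_union_eq ?_ (Set.toFinite _) (Set.toFinite _),
      Set.ncard_union_eq ?_ (Set.toFinite _) (Set.toFinite _),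
      Set.ncard_union_eq ?_ (Set.toFinite _) (Set.toFinite _),
      Set.ncard_singleton, Set.ncard_singleton, hblockcard, hOcard]
    · exact Set.disjoint_singleton.mpr hS₁.1.symm
    · rw [Set.disjoint_left]
      rintro R (hR | hR) ⟨hn, hnL⟩
      · exact hn.1 hR
      · rw [show R = S₁ from hR, hS₁L] at hnL
        exact hLL' (Subtype.ext hnL)
    · rw [Set.disjoint_left]
      rintro R hR ⟨a, -, haR⟩
      have haR' : (a : G) • Q₀ = R := haR
      have hne : (a : G) • Q₀ ≠ P := fun e => sylow_not_mem_orbit hQ₀ ⟨⟨(a : G), hLP a.2⟩, e⟩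
      have hfar : ¬ Near P ((a : G) • Q₀) := fun hn => hQ₀n (by
        have := hn.smul_of_mem (inv_mem (hLP a.2))
        rwa [inv_smul_smul] at this)
      rcases hR with (hR | hR) | hR
      · exact hne (haR'.trans hR)
      · exact hfar (by rw [haR', Set.mem_singleton_iff.mp hR]; exact hS₁)
      · exact hfar (by rw [haR']; exact hR.1)
  set π := MulAction.toPermHom G (Sylow 3 G) y
  have hsupp : (π.support : Set (Sylow 3 G)) = Fᶜ := by
    ext R
    simp only [Finset.mem_coe, Equiv.Perm.mem_support, Set.mem_compl_iff, ← hfixF]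
    rfl
  have h14 : π.support.card = 14 := by
    rw [← Set.ncard_coe_finset, hsupp, Set.ncard_compl, hFcard, h.card_eq]
  have hπ1 : π ≠ 1 := by
    intro e; rw [e, Equiv.Perm.support_one, Finset.card_empty] at h14; omega
  have hs := sign_involution (σ := π) (by rw [← map_pow, sq, hy2, map_one]) hπ1 (m := 7) h14
  rw [sign_toPermHom_eq_one h2G] at hs
  exact absurd hs (by decide)

end TwentyTwo

theorem twentytwo_aux.{v} : ∀ (n : ℕ) (G : Type v) [Group G] [Finite G],
    Nat.card G = n → Nat.card (Sylow 3 G) ≠ 22 := by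
  intro n
  induction n using Nat.strong_induction_on with
  | _ n ih =>
  intro G _ _ hn h22
  classical
  set φ := MulAction.toPermHom G (Sylow 3 G)
  have hfaith : φ.ker = ⊥ := by
    by_contra hK
    have hlt : Nat.card (G ⧸ φ.ker) < n := by
      rw [← hn, Subgroup.card_eq_card_quotient_mul_card_subgroup φ.ker]
      exact lt_mul_of_one_lt_right Nat.card_pos ((Subgroup.one_lt_card_iff_ne_bot _).mpr hK)
    exact ih _ hlt (G ⧸ φ.ker) rfl ((card_sylow_quotient_toPermHom_ker 3).trans h22)
  have h : TwentyTwo G := ⟨h22, fun g hg => by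
    have : g ∈ φ.ker := MonoidHom.mem_ker.mpr (Equiv.ext fun R => hg R)
    rw [hfaith] at this
    exact Subgroup.mem_bot.mp this⟩
  obtain ⟨P⟩ : Nonempty (Sylow 3 G) := inferInstance
  have := Fintype.ofFinite (Sylow 3 G)
  haveI : Nontrivial G := Finite.one_lt_card_iff_nontrivial.mp (by have := h.two_lt_card; omega)
  have hred : ∀ M : Subgroup G, M.Normal → ¬ 3 ∣ M.index → M = ⊤ := by
    intro M hM h3
    by_contra hne
    haveI := hM
    have hlt : Nat.card M < n := by
      rw [← hn]
      exact lt_of_le_of_ne (Subgroup.card_le_card_group M) fun e => hne (Subgroup.eq_top_of_card_eq M e)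
    exact ih _ hlt M rfl ((card_sylow_of_normal_le M h3).trans h22)
  haveI : IsSimpleGroup G := ⟨fun M hM => by
    haveI := hM
    by_contra! hne
    by_cases h3M : 3 ∣ Nat.card M
    · -- the Sylow subgroups of `M`
      obtain ⟨S⟩ : Nonempty (Sylow 3 M) := inferInstance
      set S' := (S : Subgroup M).map M.subtype
      have hS' : IsPGroup 3 S' := S.isPGroup'.map _
      have hSne : S' ≠ ⊥ := by
        intro e
        have hd := S.dvd_card_of_dvd_card h3M
        rw [← Subgroup.card_map_of_injective (K := (S : Subgroup M)) M.subtype_injective,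
          show (S : Subgroup M).map M.subtype = ⊥ from e, Subgroup.card_bot] at hd
        omega
      obtain ⟨R₀, hR₀⟩ := hS'.exists_le_sylow
      have hS'eq : S' = M ⊓ (R₀ : Subgroup G) := by
        refine le_antisymm (le_inf ?_ hR₀) ?_
        · rintro _ ⟨z, -, rfl⟩; exact z.2
        · intro z hz
          have hp : IsPGroup 3 ((R₀ : Subgroup G).subgroupOf M) :=
            R₀.isPGroup'.comap_of_injective _ M.subtype_injective
          have hle : (S : Subgroup M) ≤ (R₀ : Subgroup G).subgroupOf M := by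
            intro w hw
            exact hR₀ ⟨w, hw, rfl⟩
          exact ⟨⟨z, hz.1⟩, (S.is_maximal' hp hle).le (Subgroup.mem_subgroupOf.mpr hz.2), rfl⟩
      set N' := normalizer (S' : Set G)
      have hle : normalizer ((R₀ : Subgroup G) : Set G) ≤ N' := by
        intro g hg
        apply mem_normalizer_of_conjBy_eq
        rw [hS'eq, conjBy_inf, ← coe_sylow_smul, Sylow.smul_eq_iff_mem_normalizer.mpr hg]
        congr 1
        exact conjBy_eq_self (by rw [Subgroup.normalizer_eq_top]; exact mem_top g)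
      have hidx : N'.index ∣ 22 := by
        rw [← h22, R₀.card_eq_index_normalizer]
        exact Subgroup.index_dvd_of_le hle
      have hfr := Sylow.normalizer_sup_eq_top S
      -- the index is the number of Sylow subgroups of `M`
      have hM22 : Nat.card (Sylow 3 M) = N'.index := by
        rw [S.card_eq_index_normalizer]
        show (normalizer ((S : Subgroup M) : Set M)).index = N'.index
        have h1 : normalizer ((S : Subgroup M) : Set M) = N'.subgroupOf M := by
          ext z
          rw [Subgroup.mem_subgroupOf, Subgroup.mem_normalizer_iff, Subgroup.mem_normalizer_iff]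
          constructor
          · intro hz w
            constructor
            · rintro ⟨v, hv, rfl⟩
              exact ⟨z * v * z⁻¹, (hz v).mp hv, rfl⟩
            · intro hw
              obtain ⟨v, hv, hvw⟩ := hw
              refine ⟨z⁻¹ * v * z, (hz _).mpr (by
                rw [show z * (z⁻¹ * v * z) * z⁻¹ = v by group]; exact hv), ?_⟩
              simp only [Subgroup.coe_subtype, Subgroup.coe_mul, Subgroup.coe_inv] at hvw ⊢
              rw [hvw]; group
          · intro hz v
            constructor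
            · intro hv
              obtain ⟨v', hv', e⟩ := (hz v).mp ⟨v, hv, rfl⟩
              have : v' = z * v * z⁻¹ := Subtype.ext (by simpa using e)
              rwa [← this]
            · intro hv
              obtain ⟨v', hv', e⟩ := (hz v).mpr ⟨_, hv, by simp⟩
              have : v' = v := Subtype.ext e
              rwa [← this]
        rw [h1]
        show N'.relIndex M = N'.index
        have hMidx : M.relIndex N' = M.index := by
          rw [← Subgroup.relIndex_sup_right N' M, hfr, Subgroup.relIndex_top_right]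
        have h1' : Nat.card (N' ⊓ M : Subgroup G) * N'.relIndex M = Nat.card M := by
          rw [← Subgroup.subgroupOf_map_subtype,
            Subgroup.card_map_of_injective M.subtype_injective]
          exact (N'.subgroupOf M).card_mul_index
        have h2' : Nat.card (N' ⊓ M : Subgroup G) * M.index = Nat.card N' := by
          rw [inf_comm, ← Subgroup.subgroupOf_map_subtype,
            Subgroup.card_map_of_injective N'.subtype_injective, ← hMidx]
          exact (M.subgroupOf N').card_mul_index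
        have h3' := (N'.card_mul_index).trans M.card_mul_index.symm
        rw [← h2', ← h1', mul_right_comm] at h3'
        exact (Nat.eq_of_mul_eq_mul_left Nat.card_pos
          (Nat.eq_of_mul_eq_mul_right (Nat.pos_of_ne_zero Subgroup.index_ne_zero_of_finite) h3')).symm
      have hmod : Nat.card (Sylow 3 M) % 3 = 1 := card_sylow_modEq_one 3 M
      rw [hM22] at hmod
      have hcases : N'.index = 1 ∨ N'.index = 22 := by
        have hm : N'.index ∈ Nat.divisors 22 := Nat.mem_divisors.mpr ⟨hidx, by norm_num⟩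
        rw [show Nat.divisors 22 = {1, 2, 11, 22} by decide] at hm
        simp only [Finset.mem_insert, Finset.mem_singleton] at hm
        omega
      rcases hcases with e | e
      · -- a normal 3-subgroup lies in every Sylow subgroup
        apply hSne
        rw [Subgroup.eq_bot_iff_forall]
        intro z hz
        apply h.faithful
        intro R
        obtain ⟨g, rfl⟩ := MulAction.exists_smul_eq G R₀ R
        have hgN : g ∈ N' := by rw [Subgroup.index_eq_one.mp e]; exact mem_top g
        have hzR : z ∈ ((g • R₀ : Sylow 3 G) : Subgroup G) := by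
          rw [coe_sylow_smul]
          have hz2 : z ∈ conjBy g S' := by rw [conjBy_eq_self hgN]; exact hz
          exact conjBy_le_conjBy.mpr hR₀ hz2
        exact (sylow_smul_eq_iff_mem (orderOf_sylow_mem hzR) _).mpr hzR
      · have hlt : Nat.card M < n := by
          rw [← hn]
          exact lt_of_le_of_ne (Subgroup.card_le_card_group M) fun e' => hne.2 (Subgroup.eq_top_of_card_eq M e')
        exact ih _ hlt M rfl (hM22.trans e)
    · -- a normal subgroup of order prime to three
      set B := MulAction.orbit M P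
      have hPB : P ∈ B := MulAction.mem_orbit_self P
      have hd : B.ncard ∣ 22 := h22 ▸
        (MulAction.IsBlock.orbit_of_normal (G := G) (N := M) P).ncard_dvd_card ⟨P, hPB⟩
      have h3B : 3 ∣ (B.toFinset.erase P).card := by
        refine dvd_card_invariant_of_not_mem P _ (Finset.notMem_erase _ _) fun x hx R hR => ?_
        simp only [Finset.mem_erase, Set.mem_toFinset] at hR ⊢
        have hxP : x • P = P := (sylow_smul_eq_iff_mem (orderOf_sylow_mem hx) P).mpr hx
        refine ⟨fun e => hR.1 (MulAction.injective x (e.trans hxP.symm)), ?_⟩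
        obtain ⟨m, hm⟩ := hR.2
        refine ⟨⟨x * m * x⁻¹, hM.conj_mem _ m.2 x⟩, ?_⟩
        show (x * m * x⁻¹) • P = x • R
        rw [← hm, mul_smul, mul_smul, inv_smul_eq_iff.mpr hxP.symm]
        rfl
      rw [Finset.card_erase_of_mem (Set.mem_toFinset.mpr hPB), ← Set.ncard_eq_toFinset_card'] at h3B
      have hB0 : 0 < B.ncard := (Set.ncard_pos).mpr ⟨P, hPB⟩
      have hd' : B.ncard = 1 ∨ B.ncard = 22 := by
        have hm : B.ncard ∈ Nat.divisors 22 := Nat.mem_divisors.mpr ⟨hd, by norm_num⟩
        rw [show Nat.divisors 22 = {1, 2, 11, 22} by decide] at hm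
        simp only [Finset.mem_insert, Finset.mem_singleton] at hm
        omega
      rcases hd' with hd1 | hd22
      · apply hne.1
        rw [Subgroup.eq_bot_iff_forall]
        intro m hm
        apply h.faithful
        intro R
        obtain ⟨g, rfl⟩ := MulAction.exists_smul_eq G P R
        have hfix : ∀ m' ∈ M, m' • P = P := fun m' hm' => by
          obtain ⟨a, ha⟩ := Set.ncard_eq_one.mp hd1
          have h1 : m' • P ∈ B := ⟨⟨m', hm'⟩, rfl⟩
          have h2 : P ∈ B := hPB
          rw [ha, Set.mem_singleton_iff] at h1 h2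
          rw [h1, ← h2]
        have := hfix (g⁻¹ * m * g) (by simpa using hM.conj_mem m hm g⁻¹)
        rw [mul_smul, mul_smul, inv_smul_eq_iff] at this
        exact this
      · -- a Sylow 11-subgroup of `M` normalised by a Sylow 3-subgroup
        obtain ⟨S⟩ : Nonempty (Sylow 11 M) := inferInstance
        set S' := (S : Subgroup M).map M.subtype
        have hfr := Sylow.normalizer_sup_eq_top S
        have h3G : 3 ∣ Nat.card G := by
          have h1 : 3 ∣ Nat.card (P : Subgroup G) := by
            rcases h.card_sylow_cases P with e | e <;> rw [e]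
            norm_num
          exact h1.trans (P : Subgroup G).card_subgroup_dvd_card
        obtain ⟨P', hP'⟩ : ∃ P' : Sylow 3 G, (P' : Subgroup G) ≤ normalizer (S' : Set G) := by
          obtain ⟨T⟩ : Nonempty (Sylow 3 (normalizer (S' : Set G))) := inferInstance
          obtain ⟨P', hP'⟩ := (T.isPGroup'.map (normalizer (S' : Set G)).subtype).exists_le_sylow
          refine ⟨P', ?_⟩
          have hTcard : Nat.card (T : Subgroup (normalizer (S' : Set G))) =
              Nat.card (P' : Subgroup G) := by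
            refine Nat.dvd_antisymm ?_ ?_
            · rw [← Subgroup.card_map_of_injective (K := (T : Subgroup _))
                (normalizer (S' : Set G)).subtype_injective]
              exact Subgroup.card_dvd_of_le hP'
            · rw [T.card_eq_multiplicity, P'.card_eq_multiplicity]
              refine pow_dvd_pow 3 ((Nat.Prime.pow_dvd_iff_le_factorization Nat.prime_three
                (Nat.card_pos.ne')).mp ?_)
              have hcop : Nat.Coprime (3 ^ (Nat.card G).factorization 3) (Nat.card M) :=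
                (Nat.prime_three.coprime_iff_not_dvd.mpr h3M).pow_left _
              refine hcop.dvd_of_dvd_mul_left ?_
              have h1 : Nat.card G ∣ Nat.card M * Nat.card (normalizer (S' : Set G)) := by
                rw [← M.card_mul_index]
                refine mul_dvd_mul_left _ ?_
                rw [Subgroup.index_eq_card]
                refine Subgroup.card_dvd_of_surjective ((QuotientGroup.mk' M).comp
                  (Subgroup.subtype _)) (MonoidHom.range_eq_top.mp ?_)
                rw [MonoidHom.range_comp, Subgroup.range_subtype]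
                have := congrArg (Subgroup.map (QuotientGroup.mk' M)) hfr
                rwa [Subgroup.map_sup, Subgroup.map_top_of_surjective _
                  (QuotientGroup.mk'_surjective M),
                  (Subgroup.map_eq_bot_iff _).mpr (QuotientGroup.ker_mk' M).ge, sup_bot_eq] at this
              exact (Nat.ordProj_dvd _ 3).trans h1
          have hmap := Subgroup.eq_of_le_of_card_ge hP' (by
            rw [Subgroup.card_map_of_injective (normalizer (S' : Set G)).subtype_injective, hTcard])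
          rw [← hmap]
          rintro _ ⟨z, -, rfl⟩
          exact z.2
        set O := MulAction.orbit S' P'
        obtain ⟨j, hj⟩ := (S.isPGroup'.map M.subtype).card_orbit P'
        have h3O : 3 ∣ (O.toFinset.erase P').card := by
          refine dvd_card_invariant_of_not_mem P' _ (Finset.notMem_erase _ _) fun x hx R₀ hR₀ => ?_
          simp only [Finset.mem_erase, Set.mem_toFinset] at hR₀ ⊢
          have hxP : x • P' = P' := (sylow_smul_eq_iff_mem (orderOf_sylow_mem hx) P').mpr hx
          refine ⟨fun e => hR₀.1 (MulAction.injective x (e.trans hxP.symm)), ?_⟩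
          obtain ⟨m, hm⟩ := hR₀.2
          refine ⟨⟨x * m * x⁻¹, (Subgroup.mem_normalizer_iff.mp (hP' hx) m).mp m.2⟩, ?_⟩
          show (x * m * x⁻¹) • P' = x • R₀
          rw [← hm, mul_smul, mul_smul, inv_smul_eq_iff.mpr hxP.symm]
          rfl
        rw [Finset.card_erase_of_mem (Set.mem_toFinset.mpr (MulAction.mem_orbit_self P')),
          ← Set.ncard_eq_toFinset_card', ← Nat.card_coe_set_eq, hj] at h3O
        have hO22 : 11 ^ j ≤ 22 := hj ▸ h22 ▸ Nat.card_le_card_of_injective _ Subtype.val_injective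
        have hj0 : j = 0 := by
          have : j < 2 := by
            by_contra hc
            have : 11 ^ 2 ≤ 11 ^ j := Nat.pow_le_pow_right (by norm_num) (not_lt.mp hc)
            omega
          interval_cases j <;> norm_num at h3O <;> rfl
        have hfix : (S : Subgroup M) ≤ MulAction.stabilizer M P' := by
          intro m hm
          rw [MulAction.mem_stabilizer_iff]
          have h1 : Nat.card O = 1 := by rw [hj, hj0, pow_zero]
          have hsub := (Nat.card_eq_one_iff_unique.mp h1).1
          exact congrArg Subtype.val (Subsingleton.elim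
            (⟨(m : G) • P', ⟨⟨m, ⟨m, hm, rfl⟩⟩, rfl⟩⟩ : O) ⟨P', MulAction.mem_orbit_self P'⟩)
        apply S.not_dvd_index
        refine dvd_trans ?_ (Subgroup.index_dvd_of_le hfix)
        rw [Subgroup.index_eq_card, ← Nat.card_congr (MulAction.orbitEquivQuotientStabilizer M P')]
        have hBuniv : B = Set.univ := Set.eq_of_subset_of_ncard_le (Set.subset_univ _)
          (by rw [Set.ncard_univ, h22, hd22]) (Set.toFinite _)
        have hP'B : MulAction.orbit M P' = B := MulAction.orbit_eq_iff.mpr (by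
          show P' ∈ B
          rw [hBuniv]
          exact Set.mem_univ P')
        rw [Nat.card_coe_set_eq, hP'B, hd22]
        norm_num⟩
  rcases h.card_sylow_cases P with e | e
  · exact h.false_of_card_three P e
  · exact h.false_of_card_nine P e

theorem card_sylow_three_ne_twentytwo (G : Type u) [Group G] [Finite G] :
    Nat.card (Sylow 3 G) ≠ 22 :=
  twentytwo_aux _ G rfl

end H3
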