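import Mathlib.GroupTheory.Sylow
import Mathlib.GroupTheory.Index
import Mathlib.GroupTheory.QuotientGroup.Basic
import Mathlib.Tactic.Group

/-!
If every `2`-element is centralized by a Sylow `2`-subgroup then the Sylow `2`-subgroups are
abelian (an elementary proof).

The involutions of a Sylow `2`-subgroup form an elementary abelian subgroup, centralized by the
whole Sylow subgroup; then induction to the centralizer of an involution or to the quotient by a
central involution.
-/

set_option autoImplicit false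
set_option linter.style.haveILetI false

namespace H3.TwoCentral

open Subgroup

universe u

/-- Every `2`-element is centralized by a Sylow `2`-subgroup. -/
def Hyp (G : Type*) [Group G] : Prop :=
  ∀ x : G, (∃ k : ℕ, x ^ (2 ^ k) = 1) →
    ∃ Q : Sylow 2 G, (Q : Subgroup G) ≤ centralizer ({x} : Set G)

theorem commute_iff_mem {G : Type*} [Group G] {x g : G} :
    g ∈ centralizer ({x} : Set G) ↔ Commute g x := mem_centralizer_singleton_iff

theorem two_dvd_index {G : Type*} [Group G] (C T : Subgroup G) (hCT : C ≤ T) {a : G} (haT : a ∈ T)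
    (haC : a ∉ C) (h : ∀ b ∈ T, b ∉ C → b * a ∈ C) : 2 ∣ C.index := by
  have h2 : (C.subgroupOf T).index = 2 := by
    rw [index_eq_two_iff]
    refine ⟨⟨a, haT⟩, fun b => ?_⟩
    by_cases hb : (b : G) ∈ C
    · refine Or.inr ⟨mem_subgroupOf.2 hb, fun hba => haC ?_⟩
      have := C.mul_mem (C.inv_mem hb) (mem_subgroupOf.1 hba)
      simpa using this
    · exact Or.inl ⟨mem_subgroupOf.2 (by simpa using h b b.2 hb), fun hb' => hb (mem_subgroupOf.1 hb')⟩
  exact ⟨T.index, by rw [← relIndex_mul_index hCT, relIndex, h2]⟩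

variable {G : Type u} [Group G] [Finite G]

theorem not_two_dvd_index (h : Hyp G) {x : G} {k : ℕ} (hx : x ^ (2 ^ k) = 1) :
    ¬ 2 ∣ (centralizer ({x} : Set G)).index := by
  haveI : Fact (Nat.Prime 2) := ⟨Nat.prime_two⟩
  obtain ⟨Q, hQ⟩ := h x ⟨k, hx⟩
  exact fun hd => Q.not_dvd_index (hd.trans (index_dvd_of_le hQ))

/-- A real `2`-element has square `1`. -/
theorem sq_one_of_real (h : Hyp G) {x g : G} {k : ℕ} (hx : x ^ (2 ^ k) = 1)
    (hg : g * x * g⁻¹ = x⁻¹) : x * x = 1 := by
  by_contra hne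
  let T : Subgroup G :=
    { carrier := {b | b * x * b⁻¹ = x ∨ b * x * b⁻¹ = x⁻¹}
      one_mem' := Or.inl (by group)
      mul_mem' := by
        rintro b c hb hc
        have e : b * c * x * (b * c)⁻¹ = b * (c * x * c⁻¹) * b⁻¹ := by group
        rcases hc with hc | hc <;> rcases hb with hb | hb
        · exact Or.inl (by rw [e, hc, hb])
        · exact Or.inr (by rw [e, hc, hb])
        · exact Or.inr (by rw [e, hc, ← conj_inv, hb])
        · exact Or.inl (by rw [e, hc, ← conj_inv, hb, inv_inv])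
      inv_mem' := by
        rintro b (hb | hb)
        · exact Or.inl (by nth_rewrite 1 [← hb]; group)
        · refine Or.inr ?_
          calc b⁻¹ * x * b⁻¹⁻¹ = b⁻¹ * (b * x * b⁻¹)⁻¹ * b := by rw [hb, inv_inv, inv_inv]
            _ = x⁻¹ := by group }
  refine not_two_dvd_index h hx (two_dvd_index _ T (fun b hb => Or.inl ?_) (a := g) (Or.inr hg) ?_ ?_)
  · rw [(commute_iff_mem.1 hb).eq, mul_inv_cancel_right]
  · intro hgC
    apply hne
    rw [(commute_iff_mem.1 hgC).eq, mul_inv_cancel_right] at hg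
    nth_rewrite 2 [hg]
    exact mul_inv_cancel x
  · rintro b (hb | hb) hbC
    · exact absurd (commute_iff_mem.2 (mul_inv_eq_iff_eq_mul.1 hb)) hbC
    · refine commute_iff_mem.2 (mul_inv_eq_iff_eq_mul.1 ?_)
      calc b * g * x * (b * g)⁻¹ = b * (g * x * g⁻¹) * b⁻¹ := by group
        _ = (b * x * b⁻¹)⁻¹ := by rw [hg]; group
        _ = x := by rw [hb, inv_inv]

/-- Involutions of a common `2`-subgroup commute. -/
theorem commute_involutions (h : Hyp G) {S : Subgroup G} (hS : IsPGroup 2 S) {s t : G}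
    (hs : s ∈ S) (ht : t ∈ S) (hs2 : s * s = 1) (ht2 : t * t = 1) : Commute s t := by
  obtain ⟨k, hk⟩ := hS ⟨_, S.mul_mem hs ht⟩
  have hk' : (s * t) ^ (2 ^ k) = 1 := by simpa using congrArg Subtype.val hk
  have hs' : s⁻¹ = s := inv_eq_of_mul_eq_one_right hs2
  have ht' : t⁻¹ = t := inv_eq_of_mul_eq_one_right ht2
  have h1 := sq_one_of_real h hk' (g := s) (by
    rw [mul_inv_rev, hs', ht', ← mul_assoc, hs2, one_mul])
  show s * t = t * s
  calc s * t = (s * t)⁻¹ := (inv_eq_of_mul_eq_one_right h1).symm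
    _ = t * s := by rw [mul_inv_rev, hs', ht']

/-- The involutions of a Sylow `2`-subgroup, with `1`. -/
def omegaOne (h : Hyp G) (P : Sylow 2 G) : Subgroup G where
  carrier := {u | u ∈ (P : Subgroup G) ∧ u * u = 1}
  one_mem' := ⟨one_mem _, one_mul 1⟩
  mul_mem' := fun {s t} hs ht => ⟨mul_mem hs.1 ht.1, by
    have hc := commute_involutions h P.isPGroup' hs.1 ht.1 hs.2 ht.2
    rw [← pow_two, hc.mul_pow, pow_two, pow_two, hs.2, ht.2, one_mul]⟩
  inv_mem' := fun {s} hs => ⟨inv_mem hs.1, by rw [← mul_inv_rev, hs.2, inv_one]⟩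

theorem mem_omegaOne (h : Hyp G) {P : Sylow 2 G} {u : G} :
    u ∈ omegaOne h P ↔ u ∈ (P : Subgroup G) ∧ u * u = 1 := Iff.rfl

theorem card_omegaOne (h : Hyp G) (P Q : Sylow 2 G) :
    Nat.card (omegaOne h P) = Nat.card (omegaOne h Q) := by
  haveI : Fact (Nat.Prime 2) := ⟨Nat.prime_two⟩
  obtain ⟨g, rfl⟩ := MulAction.exists_smul_eq G P Q
  have : omegaOne h (g • P) = (omegaOne h P).map (MulAut.conj g).toMonoidHom := by
    ext u
    rw [mem_omegaOne, mem_map_equiv, mem_omegaOne, Sylow.coe_subgroup_smul,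
      mem_pointwise_smul_iff_inv_smul_mem]
    simp only [MulAut.smul_def, MulAut.inv_def, MulAut.conj_symm_apply]
    refine and_congr_right fun _ => ⟨fun hu => ?_, fun hu => ?_⟩
    · calc g⁻¹ * u * g * (g⁻¹ * u * g) = g⁻¹ * (u * u) * g := by group
        _ = 1 := by rw [hu]; group
    · calc u * u = g * (g⁻¹ * u * g * (g⁻¹ * u * g)) * g⁻¹ := by group
        _ = 1 := by rw [hu]; group
  rw [this, card_map_of_injective]
  exact (MulAut.conj g).injective

/-- Moving a Sylow subgroup inside a subgroup to contain a given `2`-subgroup. -/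
theorem exists_sylow_above (H A : Subgroup G) (hA : IsPGroup 2 A) (hAH : A ≤ H) (R : Sylow 2 G)
    (hR : (R : Subgroup G) ≤ H) : ∃ R' : Sylow 2 G, (R' : Subgroup G) ≤ H ∧ A ≤ (R' : Subgroup G) := by
  haveI : Fact (Nat.Prime 2) := ⟨Nat.prime_two⟩
  obtain ⟨S, hS⟩ := (hA.of_injective (subgroupOfEquivOfLe hAH).toMonoidHom
    (subgroupOfEquivOfLe hAH).injective).exists_le_sylow
  obtain ⟨c, hc⟩ := MulAction.exists_smul_eq H (R.subtype hR) S
  refine ⟨(c : G) • R, ?_, fun a ha => ?_⟩
  · intro u hu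
    rw [Sylow.coe_subgroup_smul, mem_pointwise_smul_iff_inv_smul_mem] at hu
    simp only [MulAut.smul_def, MulAut.inv_def, MulAut.conj_symm_apply] at hu
    have := H.mul_mem (H.mul_mem c.2 (hR hu)) (H.inv_mem c.2)
    rwa [show (c : G) * ((c : G)⁻¹ * u * c) * (c : G)⁻¹ = u by group] at this
  · have h1 : (⟨a, hAH ha⟩ : H) ∈ (S : Subgroup H) := hS ha
    rw [← hc, Sylow.coe_subgroup_smul, mem_pointwise_smul_iff_inv_smul_mem] at h1
    rw [Sylow.coe_subgroup_smul, mem_pointwise_smul_iff_inv_smul_mem]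
    simp only [MulAut.smul_def, MulAut.inv_def, MulAut.conj_symm_apply] at h1 ⊢
    exact h1

/-- The involutions of a Sylow `2`-subgroup are central in it. -/
theorem commute_omegaOne (h : Hyp G) : ∀ (k : ℕ) (P : Sylow 2 G), ∀ g ∈ (P : Subgroup G),
    g ^ (2 ^ k) = 1 → ∀ v ∈ omegaOne h P, Commute g v := by
  haveI : Fact (Nat.Prime 2) := ⟨Nat.prime_two⟩
  intro k
  induction k with
  | zero =>
    intro P g _ hg v _
    rw [pow_zero, pow_one] at hg
    rw [hg]
    exact Commute.one_left v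
  | succ k ih =>
    intro P g hgP hg v hv
    by_contra hne
    have hsq : Commute (g ^ 2) v :=
      ih P (g ^ 2) (pow_mem hgP 2) (by rw [← pow_mul, ← pow_succ', hg]) v hv
    have hv' : v⁻¹ = v := inv_eq_of_mul_eq_one_right hv.2
    set A : Subgroup G := omegaOne h P ⊓ centralizer ({g} : Set G) with hA
    -- the commutator of `g` and `v`
    have hgv : g * v * g⁻¹ ∈ omegaOne h P :=
      ⟨mul_mem (mul_mem hgP hv.1) (inv_mem hgP), by
        calc g * v * g⁻¹ * (g * v * g⁻¹) = g * (v * v) * g⁻¹ := by group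
          _ = 1 := by rw [hv.2]; group⟩
    have hcv : Commute (g * v * g⁻¹) v :=
      commute_involutions h P.isPGroup' hgv.1 hv.1 hgv.2 hv.2
    have hzA : g * v * g⁻¹ * v ∈ A := by
      refine ⟨mul_mem hgv hv, commute_iff_mem.2 (Commute.symm ?_)⟩
      show g * (g * v * g⁻¹ * v) = g * v * g⁻¹ * v * g
      calc g * (g * v * g⁻¹ * v) = (g ^ 2 * v) * g⁻¹ * v := by rw [pow_two]; group
        _ = (v * g ^ 2) * g⁻¹ * v := by rw [hsq.eq]
        _ = v * (g * v * g⁻¹) * g := by rw [pow_two]; group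
        _ = g * v * g⁻¹ * v * g := by rw [hcv.eq]
    -- a Sylow subgroup centralized by `g` containing the fixed involutions
    obtain ⟨R0, hR0⟩ := h g ⟨k + 1, hg⟩
    obtain ⟨R, hR, hAR⟩ := exists_sylow_above (centralizer ({g} : Set G)) A
      (P.isPGroup'.to_le fun u hu => hu.1.1) inf_le_right R0 hR0
    let W : Subgroup G :=
      { carrier := {x | (∀ a ∈ A, Commute x a) ∧ x * g * x⁻¹ * g⁻¹ ∈ A}
        one_mem' := ⟨fun a _ => Commute.one_left a, by simp⟩
        mul_mem' := by
          rintro x y ⟨hx, hxg⟩ ⟨hy, hyg⟩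
          refine ⟨fun a ha => (hx a ha).mul_left (hy a ha), ?_⟩
          have e : x * y * g * (x * y)⁻¹ * g⁻¹ =
              (y * g * y⁻¹ * g⁻¹) * (x * g * x⁻¹ * g⁻¹) := by
            calc x * y * g * (x * y)⁻¹ * g⁻¹
                = x * (y * g * y⁻¹ * g⁻¹) * (g * x⁻¹ * g⁻¹) := by group
              _ = (y * g * y⁻¹ * g⁻¹) * x * (g * x⁻¹ * g⁻¹) := by rw [(hx _ hyg).eq]
              _ = _ := by group
          rw [e]
          exact A.mul_mem hyg hxg
        inv_mem' := by
          rintro x ⟨hx, hxg⟩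
          refine ⟨fun a ha => (hx a ha).inv_left, ?_⟩
          have hc := (hx _ (A.inv_mem hxg)).inv_left
          have e : x⁻¹ * g * x⁻¹⁻¹ * g⁻¹ = (x * g * x⁻¹ * g⁻¹)⁻¹ := by
            calc x⁻¹ * g * x⁻¹⁻¹ * g⁻¹ = x⁻¹ * (x * g * x⁻¹ * g⁻¹)⁻¹ * x := by group
              _ = (x * g * x⁻¹ * g⁻¹)⁻¹ := by rw [hc.eq, inv_mul_cancel_right]
          rw [e]
          exact A.inv_mem hxg }
    have hvW : v ∈ W := by
      refine ⟨fun a ha => commute_involutions h P.isPGroup' hv.1 ha.1.1 hv.2 ha.1.2, ?_⟩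
      have e : v * g * v⁻¹ * g⁻¹ = g * v * g⁻¹ * v := by
        rw [hv', show v * g * v * g⁻¹ = v * (g * v * g⁻¹) by group, hcv.eq]
      rw [e]
      exact hzA
    have hEW : omegaOne h R ≤ W := fun u hu =>
      ⟨fun a ha => commute_involutions h R.isPGroup' hu.1 (hAR ha) hu.2 ha.1.2, by
        rw [(commute_iff_mem.1 (hR hu.1)).eq, mul_inv_cancel_right, mul_inv_cancel]
        exact A.one_mem⟩
    -- conjugate the involutions of `R` inside `W` into a `2`-subgroup containing `v`
    obtain ⟨S, hS⟩ := (IsPGroup.of_injective (R.isPGroup'.to_le (fun u hu => hu.1 : omegaOne h R ≤ (R : Subgroup G)))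
      (subgroupOfEquivOfLe hEW).toMonoidHom (subgroupOfEquivOfLe hEW).injective).exists_le_sylow
    have hvp : IsPGroup 2 (zpowers (⟨v, hvW⟩ : W)) := by
      obtain ⟨i, -, hi⟩ := (Nat.dvd_prime_pow Nat.prime_two).1
        (orderOf_dvd_of_pow_eq_one (show v ^ (2 ^ 1) = 1 by rw [pow_one, pow_two, hv.2]))
      exact IsPGroup.of_card (n := i) (by rw [Nat.card_zpowers, Subgroup.orderOf_mk, hi])
    obtain ⟨S', hS'⟩ := hvp.exists_le_sylow
    obtain ⟨w, hw⟩ := MulAction.exists_smul_eq W S S'
    obtain ⟨R2, hR2⟩ := (S'.isPGroup'.map W.subtype).exists_le_sylow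
    set X : Subgroup G := (omegaOne h R).map (MulAut.conj (w : G)).toMonoidHom with hX
    have hXle : X ≤ omegaOne h R2 := by
      rintro _ ⟨u, hu, rfl⟩
      refine ⟨hR2 ⟨w * ⟨u, hEW hu⟩ * w⁻¹, ?_, rfl⟩, ?_⟩
      · rw [SetLike.mem_coe, ← hw, Sylow.coe_subgroup_smul, mem_pointwise_smul_iff_inv_smul_mem]
        simp only [MulAut.smul_def, MulAut.inv_def, MulAut.conj_symm_apply]
        rw [show w⁻¹ * (w * (⟨u, hEW hu⟩ : W) * w⁻¹) * w = ⟨u, hEW hu⟩ by group]
        exact hS hu
      · show (w : G) * u * (w : G)⁻¹ * ((w : G) * u * (w : G)⁻¹) = 1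
        calc (w : G) * u * (w : G)⁻¹ * ((w : G) * u * (w : G)⁻¹)
            = (w : G) * (u * u) * (w : G)⁻¹ := by group
          _ = 1 := by rw [hu.2]; group
    have hXeq : X = omegaOne h R2 := eq_of_le_of_card_ge hXle (by
      rw [hX, card_map_of_injective (f := (MulAut.conj (w : G)).toMonoidHom)
        (MulAut.conj (w : G)).injective]
      exact (card_omegaOne h R2 R).le)
    have hvX : v ∈ X := by
      rw [hXeq]
      exact ⟨hR2 ⟨⟨v, hvW⟩, hS' (mem_zpowers _), rfl⟩, hv.2⟩
    obtain ⟨u, hu, huv⟩ := hvX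
    apply hne
    rw [← huv]
    -- `g` commutes with the conjugate
    have hw' := W.inv_mem w.2
    set a := (w : G)⁻¹ * g * (w : G)⁻¹⁻¹ * g⁻¹ with ha
    have haA : a ∈ A := hw'.2
    have h1 : Commute ((w : G)⁻¹ * g * w) u := by
      have e : (w : G)⁻¹ * g * w = a * g := by rw [ha]; group
      rw [e]
      exact (commute_involutions h R.isPGroup' (hAR haA) hu.1 haA.1.2 hu.2).mul_left
        (commute_iff_mem.1 (hR hu.1)).symm
    show g * ((w : G) * u * (w : G)⁻¹) = (w : G) * u * (w : G)⁻¹ * g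
    calc g * ((w : G) * u * (w : G)⁻¹) = w * (((w : G)⁻¹ * g * w) * u) * (w : G)⁻¹ := by group
      _ = w * (u * ((w : G)⁻¹ * g * w)) * (w : G)⁻¹ := by rw [h1.eq]
      _ = (w : G) * u * (w : G)⁻¹ * g := by group

/-- An involution is centralized by every Sylow `2`-subgroup containing it. -/
theorem le_centralizer (h : Hyp G) {P : Sylow 2 G} {e : G} (he : e ∈ (P : Subgroup G))
    (he2 : e * e = 1) : (P : Subgroup G) ≤ centralizer ({e} : Set G) := by
  intro g hg
  obtain ⟨k, hk⟩ := P.isPGroup' ⟨g, hg⟩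
  exact commute_iff_mem.2 (commute_omegaOne h k P g hg (by simpa using congrArg Subtype.val hk) e
    ⟨he, he2⟩)

theorem abelian_aux : ∀ (n : ℕ) (G : Type u) [Group G] [Finite G], Nat.card G ≤ n → Hyp G →
    ∀ (P : Sylow 2 G), ∀ x ∈ (P : Subgroup G), ∀ y ∈ (P : Subgroup G), Commute x y := by
  haveI : Fact (Nat.Prime 2) := ⟨Nat.prime_two⟩
  intro n
  induction n with
  | zero =>
    intro G _ _ hn
    exact absurd (Nat.le_zero.1 hn) (Nat.card_pos).ne'
  | succ n ih =>
    intro G _ _ hn h P x hx y hy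
    by_cases hx1 : x = 1
    · rw [hx1]; exact Commute.one_left y
    -- the involution in the group generated by `x`
    obtain ⟨i, hi⟩ := IsPGroup.iff_orderOf.1 P.isPGroup' ⟨x, hx⟩
    rw [Subgroup.orderOf_mk] at hi
    obtain ⟨i, rfl⟩ : ∃ j, i = j + 1 := Nat.exists_eq_succ_of_ne_zero fun e => hx1
      (orderOf_eq_one_iff.1 (by rw [hi, e, pow_zero]))
    set e := x ^ (2 ^ i) with he
    have heP : e ∈ (P : Subgroup G) := pow_mem hx _
    have he2 : e * e = 1 := by
      rw [he, ← pow_add, ← two_mul, ← pow_succ', ← hi, pow_orderOf_eq_one]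
    have he1 : e ≠ 1 := fun h1 => by
      have := orderOf_dvd_of_pow_eq_one (he ▸ h1)
      rw [hi, Nat.pow_dvd_pow_iff_le_right (by norm_num)] at this
      omega
    have hPe := le_centralizer h heP he2
    by_cases hc : centralizer ({e} : Set G) = ⊤
    · -- a central involution
      haveI hN : (zpowers e).Normal := ⟨fun z hz c => by
        obtain ⟨j, rfl⟩ := mem_zpowers_iff.1 hz
        have hcc : Commute c (e ^ j) := (commute_iff_mem.1 (hc ▸ mem_top c)).zpow_right j
        rw [hcc.eq, mul_inv_cancel_right]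
        exact zpow_mem (mem_zpowers e) j⟩
      set π := QuotientGroup.mk' (zpowers e) with hπ
      have hπs : Function.Surjective π := QuotientGroup.mk'_surjective _
      have horde : orderOf e = 2 := orderOf_eq_prime (by rw [pow_two, he2]) he1
      have hcard : Nat.card (G ⧸ zpowers e) ≤ n := by
        have h1 := (zpowers e).card_eq_card_quotient_mul_card_subgroup
        rw [Nat.card_zpowers, horde] at h1
        have := Nat.card_pos (α := G ⧸ zpowers e)
        omega
      have hq : Hyp (G ⧸ zpowers e) := by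
        rintro z ⟨j, hj⟩
        obtain ⟨m, -, hm⟩ := (Nat.dvd_prime_pow Nat.prime_two).1 (orderOf_dvd_of_pow_eq_one hj)
        obtain ⟨S, hS⟩ := (IsPGroup.of_card (n := m) (by rw [Nat.card_zpowers, hm]) :
          IsPGroup 2 (zpowers z)).exists_le_sylow
        obtain ⟨Q, rfl⟩ := Sylow.mapSurjective_surjective hπs 2 S
        obtain ⟨z0, hz0, rfl⟩ : ∃ z0 ∈ (Q : Subgroup G), π z0 = z := by
          have := hS (mem_zpowers z)
          rw [Sylow.coe_mapSurjective] at this
          exact this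
        obtain ⟨j', hj'⟩ := Q.isPGroup' ⟨z0, hz0⟩
        obtain ⟨R, hR⟩ := h z0 ⟨j', by simpa using congrArg Subtype.val hj'⟩
        refine ⟨R.mapSurjective hπs, ?_⟩
        rw [Sylow.coe_mapSurjective]
        rintro _ ⟨r, hr, rfl⟩
        exact commute_iff_mem.2 ((commute_iff_mem.1 (hR hr)).map π)
      have hcomm := ih (G ⧸ zpowers e) hcard hq (P.mapSurjective hπs) (π x)
        (by rw [Sylow.coe_mapSurjective]; exact mem_map_of_mem π hx) (π y)
        (by rw [Sylow.coe_mapSurjective]; exact mem_map_of_mem π hy)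
      -- `y` fixes or moves `x` to `e * x`
      let T : Subgroup G := (centralizer ({π x} : Set (G ⧸ zpowers e))).comap π
      by_contra hne
      have hyT : y ∈ T := commute_iff_mem.2 hcomm.symm
      refine not_two_dvd_index h (x := x) (k := i + 1) (by rw [← hi, pow_orderOf_eq_one])
        (two_dvd_index _ T (fun b hb => commute_iff_mem.2 ((commute_iff_mem.1 hb).map π)) hyT
          (fun hyC => hne (commute_iff_mem.1 hyC).symm) fun b hb hbC => ?_)
      have key : ∀ c ∈ T, ¬ Commute c x → c * x * c⁻¹ = x * e := by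
        intro c hc' hcx
        have h1 : x⁻¹ * (c * x * c⁻¹) ∈ zpowers e := by
          have h2 : π (c * x * c⁻¹) = π x := by
            rw [map_mul, map_mul, map_inv, (commute_iff_mem.1 hc').eq, mul_inv_cancel_right]
          exact QuotientGroup.eq.1 h2.symm
        obtain ⟨m, hm⟩ := mem_powers_iff_mem_zpowers.2 h1
        have hm' : e ^ m = x⁻¹ * (c * x * c⁻¹) := hm
        rcases Nat.even_or_odd m with ⟨q, rfl⟩ | ⟨q, rfl⟩
        · rw [← two_mul, pow_mul, pow_two, he2, one_pow] at hm'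
          exact absurd (mul_inv_eq_iff_eq_mul.1 (inv_mul_eq_one.1 hm'.symm).symm) hcx
        · rw [pow_succ, pow_mul, pow_two, he2, one_pow, one_mul] at hm'
          rw [hm', mul_inv_cancel_left]
      have hec : ∀ c : G, Commute c e := fun c => commute_iff_mem.1 (hc ▸ mem_top c)
      refine commute_iff_mem.2 (mul_inv_eq_iff_eq_mul.1 ?_)
      calc b * y * x * (b * y)⁻¹ = b * (y * x * y⁻¹) * b⁻¹ := by group
        _ = b * (x * e) * b⁻¹ := by rw [key y hyT (fun hh => hne hh.symm)]
        _ = (b * x * b⁻¹) * (b * e * b⁻¹) := by group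
        _ = x * e * e := by
            rw [key b hb (fun hh => hbC (commute_iff_mem.2 hh)), (hec b).eq, mul_inv_cancel_right]
        _ = x := by rw [mul_assoc, he2, mul_one]
    · -- inside the centralizer
      set H := centralizer ({e} : Set G) with hH
      have hcard : Nat.card H ≤ n := by
        have h1 := H.card_mul_index
        have h2 : 1 < H.index := by
          have := index_ne_zero_of_finite (H := H)
          have h3 : H.index ≠ 1 := fun h4 => hc (index_eq_one.1 h4)
          omega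
        have := Nat.card_pos (α := H)
        nlinarith
      have hq : Hyp H := by
        rintro ⟨z, hz⟩ ⟨j, hj⟩
        obtain ⟨R0, hR0⟩ := h z ⟨j, by simpa using congrArg Subtype.val hj⟩
        have hez : zpowers e ≤ centralizer ({z} : Set G) :=
          zpowers_le.2 (commute_iff_mem.2 (commute_iff_mem.1 hz).symm)
        obtain ⟨R, hR, heR⟩ := exists_sylow_above (centralizer ({z} : Set G)) (zpowers e)
          (P.isPGroup'.to_le (zpowers_le.2 heP)) hez R0 hR0
        refine ⟨R.subtype (le_centralizer h (heR (mem_zpowers e)) he2), fun r hr => ?_⟩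
        exact commute_iff_mem.2 (Subtype.ext (commute_iff_mem.1 (hR hr)))
      exact congrArg Subtype.val (ih H hcard hq (P.subtype hPe) ⟨x, hPe hx⟩ hx ⟨y, hPe hy⟩ hy).eq

/-- If every `2`-element is centralized by a Sylow `2`-subgroup, the Sylow `2`-subgroups are
abelian. -/
theorem isMulCommutative_of_hyp (h : Hyp G) (P : Sylow 2 G) :
    IsMulCommutative (P : Subgroup G) :=
  ⟨⟨fun x y => Subtype.ext (abelian_aux _ G le_rfl h P x x.2 y y.2)⟩⟩

end H3.TwoCentral
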