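import Cfsg.Agent.H1.Fitting
import Cfsg.Agent.H5.PResidual
import Cfsg.Agent.H27.ClassBasic
import Cfsg.Agent.H81.Fitting

/-!
Commutator values of coprime orders and nilpotency of a lower central term: the soluble case.
-/

set_option autoImplicit false
set_option linter.style.haveILetI false

namespace H3.ValueCoprime

open Subgroup
open scoped commutatorElement

variable {G : Type*} [Group G]

/-- `x` is a left-normed commutator value with `k + 1` entries. -/
def IsVal : ℕ → G → Prop
  | 0, _ => True
  | n + 1, x => ∃ a b : G, IsVal n a ∧ x = ⁅a, b⁆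

/-- `[u, x, ..., x]`. -/
def it (x u : G) : ℕ → G
  | 0 => u
  | n + 1 => ⁅it x u n, x⁆

theorem isVal_succ_le : ∀ {n : ℕ} {x : G}, IsVal (n + 1) x → IsVal n x
  | 0, _, _ => trivial
  | _ + 1, _, ⟨a, b, ha, hx⟩ => ⟨a, b, isVal_succ_le ha, hx⟩

theorem isVal_it (x u : G) : ∀ n : ℕ, IsVal n (it x u n)
  | 0 => trivial
  | n + 1 => ⟨_, _, isVal_it x u n, rfl⟩

theorem isVal_map {H : Type*} [Group H] (f : G →* H) :
    ∀ {n : ℕ} {x : G}, IsVal n x → IsVal n (f x)
  | 0, _, _ => trivial
  | _ + 1, _, ⟨a, b, ha, hx⟩ => ⟨f a, f b, isVal_map f ha, by rw [hx, map_commutatorElement]⟩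

theorem map_it {H : Type*} [Group H] (f : G →* H) (x u : G) :
    ∀ n : ℕ, f (it x u n) = it (f x) (f u) n
  | 0 => rfl
  | n + 1 => by rw [it, it, map_commutatorElement, map_it f x u n]

theorem isVal_conj {n : ℕ} {x : G} (h : IsVal n x) (g : G) : IsVal n (g * x * g⁻¹) :=
  isVal_map (MulAut.conj g).toMonoidHom h

theorem isVal_mem_lcs : ∀ {n : ℕ} {x : G}, IsVal n x → x ∈ (⊤ : Subgroup G).lowerCentralSeries n
  | 0, _, _ => mem_top _
  | _ + 1, _, ⟨_, _, ha, hx⟩ => hx ▸ commutator_mem_commutator (isVal_mem_lcs ha) (mem_top _)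

theorem closure_isVal_normal (n : ℕ) : (closure {x : G | IsVal n x}).Normal := by
  refine ⟨fun a ha g => ?_⟩
  have : (closure {x : G | IsVal n x}).map (MulAut.conj g).toMonoidHom ≤
      closure {x : G | IsVal n x} := by
    rw [MonoidHom.map_closure, closure_le]
    rintro _ ⟨x, hx, rfl⟩
    exact subset_closure (isVal_conj hx g)
  exact this ⟨a, ha, rfl⟩

theorem lcs_le_closure :
    ∀ n : ℕ, (⊤ : Subgroup G).lowerCentralSeries n ≤ closure {x : G | IsVal n x}
  | 0 => fun x _ => subset_closure trivial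
  | n + 1 => by
    haveI := closure_isVal_normal (G := G) (n + 1)
    rw [Subgroup.lowerCentralSeries_succ, commutator_le]
    intro a ha b _
    rw [← QuotientGroup.eq_one_iff (N := closure {x : G | IsVal (n + 1) x})]
    set π := QuotientGroup.mk' (closure {x : G | IsVal (n + 1) x}) with hπ
    show π ⁅a, b⁆ = 1
    rw [map_commutatorElement, commutatorElement_eq_one_iff_mul_comm]
    have hle : (⊤ : Subgroup G).lowerCentralSeries n ≤ (centralizer ({π b} : Set _)).comap π := by
      refine (lcs_le_closure n).trans ((closure_le _).2 fun v hv => ?_)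
      rw [SetLike.mem_coe, mem_comap, mem_centralizer_singleton_iff,
        ← commutatorElement_eq_one_iff_mul_comm, ← map_commutatorElement]
      exact (QuotientGroup.eq_one_iff _).2 (subset_closure ⟨v, b, hv, rfl⟩)
    exact mem_centralizer_singleton_iff.1 (mem_comap.1 (hle ha))

theorem it_mem {N : Subgroup G} {x u : G} (hx : x ∈ normalizer (N : Set G)) (hu : u ∈ N) :
    ∀ n : ℕ, it x u n ∈ N
  | 0 => hu
  | n + 1 => by
    rw [it, commutatorElement_def, mul_assoc, mul_assoc, ← mul_assoc x]
    exact mul_mem (it_mem hx hu n) ((mem_normalizer_iff.1 hx _).1 (inv_mem (it_mem hx hu n)))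

/-- Coprime action: an iterated commutator `[u, x, ..., x]` of a non-commuting pair is not `1`. -/
theorem it_ne_one [Finite G] {N : Subgroup G} {x u : G} (hx : x ∈ normalizer (N : Set G))
    (hu : u ∈ N) (hcop : (Nat.card N).Coprime (orderOf x)) (hne : ¬ Commute u x) :
    ∀ n : ℕ, it x u n ≠ 1 := by
  have h1 : ∀ n : ℕ, it x u (n + 1) ≠ 1 := by
    intro n
    induction n with
    | zero => exact fun h => hne (commutatorElement_eq_one_iff_mul_comm.1 h)
    | succ n ih =>
      intro h
      apply ih
      set a := it x u n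
      set w := ⁅a, x⁆ with hw
      have hwN : w ∈ N := it_mem hx hu (n + 1)
      have hc : Commute w x := commutatorElement_eq_one_iff_mul_comm.1 h
      have he : w * x = a * x * a⁻¹ := by rw [hw, commutatorElement_def]; group
      show w = 1
      have ho : orderOf (w * x) = orderOf x := by
        rw [he]; exact MulEquiv.orderOf_eq (MulAut.conj a) x
      have hcop' : (orderOf w).Coprime (orderOf x) :=
        hcop.coprime_dvd_left (Subgroup.orderOf_mk w hwN ▸ orderOf_dvd_natCard _)
      rw [hc.orderOf_mul_eq_mul_orderOf_of_coprime hcop'] at ho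
      have := orderOf_pos x
      exact orderOf_eq_one_iff.1 (Nat.eq_of_mul_eq_mul_right this (ho.trans (one_mul _).symm))
  intro n
  rcases n with _ | n
  · intro h
    apply hne
    have : u = 1 := h
    rw [this]
    exact Commute.one_left x
  · exact h1 n

/-- The condition on pairs of values of coprime orders. -/
def Cond (k : ℕ) (G : Type*) [Group G] : Prop :=
  ∀ x y : G, IsVal k x → IsVal k y → (orderOf x).Coprime (orderOf y) →
    (∀ r : ℕ, r.Prime → r ∣ orderOf x * orderOf y → r ∣ orderOf (x * y)) ∨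
      orderOf x * orderOf y ≤ orderOf (x * y)

theorem Cond.subgroup {k : ℕ} (h : Cond k G) (H : Subgroup G) : Cond k H := by
  intro x y hx hy hcop
  have := h x y (isVal_map H.subtype hx) (isVal_map H.subtype hy)
    (by rwa [Subgroup.orderOf_coe, Subgroup.orderOf_coe])
  rwa [← Subgroup.coe_mul, Subgroup.orderOf_coe, Subgroup.orderOf_coe, Subgroup.orderOf_coe] at this

variable [Finite G] {k : ℕ}

/-- A value centralises the subgroups of coprime order it normalises. -/
theorem commute_of_coprime (h : Cond k G) {x : G} (hxv : IsVal k x) {N : Subgroup G}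
    (hx : x ∈ normalizer (N : Set G)) (hcop : (Nat.card N).Coprime (orderOf x)) {u : G}
    (hu : u ∈ N) : Commute u x := by
  by_contra hne
  set a := it x u k
  set w := ⁅a, x⁆ with hw
  have hw1 : w ≠ 1 := it_ne_one hx hu hcop hne (k + 1)
  have hwN : w ∈ N := it_mem hx hu (k + 1)
  have hwv : IsVal k w := isVal_succ_le (isVal_it x u (k + 1))
  have hcop' : (orderOf w).Coprime (orderOf x) :=
    hcop.coprime_dvd_left (Subgroup.orderOf_mk w hwN ▸ orderOf_dvd_natCard _)
  have he : w * x = a * x * a⁻¹ := by rw [hw, commutatorElement_def]; group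
  have ho : orderOf (w * x) = orderOf x := by
    rw [he]; exact MulEquiv.orderOf_eq (MulAut.conj a) x
  have hwpos : 1 < orderOf w := by
    have := orderOf_pos w
    have : orderOf w ≠ 1 := fun h' => hw1 (orderOf_eq_one_iff.1 h')
    omega
  rcases h w x hwv hxv hcop' with h1 | h1
  · obtain ⟨r, hr, hrw⟩ := Nat.exists_prime_and_dvd hwpos.ne'
    have h2 := h1 r hr (dvd_mul_of_dvd_left hrw _)
    rw [ho] at h2
    exact hr.not_dvd_one (Nat.eq_one_of_dvd_coprimes hcop' hrw h2 ▸ dvd_rfl)
  · rw [ho] at h1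
    have := orderOf_pos x
    nlinarith

/-- The join of the `r`-cores for `r ≠ p`. -/
def otherCores (p : ℕ) (G : Type*) [Group G] : Subgroup G :=
  ⨆ r : {r : Nat.Primes // (r : ℕ) ≠ p}, Cfsg.pCore ((r : Nat.Primes) : ℕ) G

theorem otherCores_normal (p : ℕ) : (otherCores p G).Normal :=
  H1.sSup_normal _ (by rintro _ ⟨r, rfl⟩; exact H1.pCore_normal' _ _)

/-- A `p`-element of a normal `p`-extension of `F(G)` centralising the other cores is in `F(G)`. -/
theorem mem_fitting_of_centralizes {p : ℕ} [hp : Fact p.Prime] {M : Subgroup G} [M.Normal]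
    (hM : ∀ m ∈ M, ∃ j : ℕ, m ^ p ^ j ∈ Cfsg.fittingSubgroup G) {x : G} (hxM : x ∈ M)
    (hx : ∀ r : Nat.Primes, (r : ℕ) ≠ p → ∀ f ∈ Cfsg.pCore (r : ℕ) G, Commute f x) :
    x ∈ Cfsg.fittingSubgroup G := by
  haveI := otherCores_normal (G := G) p
  set D := otherCores p G with hD
  set A := M ⊓ centralizer (D : Set G) with hA
  have hxA : x ∈ A := by
    refine mem_inf.2 ⟨hxM, ?_⟩
    have hle : D ≤ centralizer ({x} : Set G) := iSup_le fun r f hf =>
      mem_centralizer_singleton_iff.2 (hx r.1 r.2 f hf).eq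
    exact mem_centralizer_iff.2 fun f hf => mem_centralizer_singleton_iff.1 (hle hf)
  haveI hCn : (centralizer (D : Set G)).Normal := by
    constructor
    intro c hc g
    rw [mem_centralizer_iff] at hc ⊢
    intro d hd
    have := congrArg (fun t => g * t * g⁻¹)
      (hc _ (show g⁻¹ * d * g ∈ D by simpa using (otherCores_normal p).conj_mem d hd g⁻¹))
    simpa [mul_assoc] using this
  haveI hAn : A.Normal := Subgroup.normal_inf_normal _ _
  -- elements of `A` of order prime to `p` are central
  have hcen : ∀ a : A, (orderOf a).Coprime p → a ∈ center A := by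
    rintro ⟨a, haM, haC⟩ hcop
    replace hcop : (orderOf a).Coprime p := by
      rw [← Subgroup.orderOf_coe] at hcop
      exact hcop
    obtain ⟨j, hj⟩ := hM a haM
    have haF : a ∈ Cfsg.fittingSubgroup G := by
      obtain ⟨b, hb⟩ := exists_pow_eq_self_of_coprime (x := a) (n := p ^ j) (hcop.symm.pow_left j)
      rw [← hb]
      exact pow_mem hj b
    have haD : a ∈ D := by
      set π := QuotientGroup.mk' D with hπ
      have hle : Cfsg.fittingSubgroup G ≤ ((Cfsg.pCore p G).map π).comap π := by
        rw [H1.fittingSubgroup_eq_iSup_pCore]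
        refine iSup_le fun r f hf => ?_
        by_cases hr : (r : ℕ) = p
        · exact ⟨f, hr ▸ hf, rfl⟩
        · have : f ∈ D := le_iSup (fun r : {r : Nat.Primes // (r : ℕ) ≠ p} =>
            Cfsg.pCore ((r : Nat.Primes) : ℕ) G) ⟨r, hr⟩ hf
          exact ⟨1, one_mem _, by rw [map_one]; exact ((QuotientGroup.eq_one_iff f).2 this).symm⟩
      obtain ⟨i, hi⟩ := ((H1.isPGroup_pCore p G).map π) ⟨π a, hle haF⟩
      have h1 : orderOf (π a) ∣ p ^ i :=
        orderOf_dvd_of_pow_eq_one (by simpa using congrArg Subtype.val hi)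
      have h2 : orderOf (π a) = 1 :=
        Nat.eq_one_of_dvd_coprimes (hcop.symm.pow_left i) h1 (orderOf_map_dvd π a)
      exact (QuotientGroup.eq_one_iff a).1 (orderOf_eq_one_iff.1 h2)
    exact mem_center_iff.2 fun b =>
      Subtype.ext ((mem_centralizer_iff.1 (mem_inf.1 b.2).2 a haD).symm)
  have hnil : Group.IsNilpotent A := by
    apply Group.of_quotient_center_nilpotent
    refine IsPGroup.isNilpotent (p := p) ?_
    intro q
    obtain ⟨a, rfl⟩ := QuotientGroup.mk_surjective q
    obtain ⟨i, m, hm, ha⟩ := Nat.exists_eq_pow_mul_and_not_dvd (orderOf_pos a).ne' p hp.out.ne_one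
    refine ⟨i, ?_⟩
    rw [← QuotientGroup.mk_pow, QuotientGroup.eq_one_iff]
    refine hcen _ ?_
    rw [orderOf_pow, ha, Nat.gcd_eq_right (dvd_mul_right _ _),
      Nat.mul_div_cancel_left _ (pow_pos hp.out.pos _)]
    exact (hp.out.coprime_iff_not_dvd.2 hm).symm
  exact H1.le_fittingSubgroup hnil hxA

end H3.ValueCoprime
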