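import Cfsg.Agent.H3.ValueCoprimeSolvable
import Cfsg.Agent.H3.InvolutionAutomizer
import Cfsg.Agent.H65.BaerSuzuki

/-!
A group with the coprime condition on values is soluble, given solvability of groups of odd order.
-/

set_option autoImplicit false
set_option linter.style.haveILetI false

namespace H3.ValueCoprime

open Subgroup
open scoped commutatorElement

variable {G : Type*} [Group G] [Finite G] {k : ℕ}

/-- Lifting an `r`-subgroup with an element of its normaliser. -/
theorem exists_lifts {Q : Type*} [Group Q] {r : ℕ} [hr : Fact r.Prime] {π : G →* Q}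
    (hπ : Function.Surjective π) (E : Subgroup Q) (hE : IsPGroup r E) {b : Q}
    (hb : b ∈ normalizer (E : Set Q)) :
    ∃ R : Subgroup G, IsPGroup r R ∧ R.map π = E ∧
      (∀ S : Subgroup G, IsPGroup r S → R ≤ S → S ≤ E.comap π → S = R) ∧
      ∃ b' ∈ normalizer (R : Set G), π b' = b := by
  classical
  set M := E.comap π with hM
  obtain ⟨R⟩ : Nonempty (Sylow r M) := inferInstance
  set R0 := (R : Subgroup M).map M.subtype with hR0
  have hmax : ∀ S : Subgroup G, IsPGroup r S → R0 ≤ S → S ≤ M → S = R0 := by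
    intro S hS hRS hSM
    have h1 : S.subgroupOf M = (R : Subgroup M) :=
      R.is_maximal' (hS.comap_subtype) (fun x hx => hRS ⟨x, hx, rfl⟩)
    rw [hR0, ← h1, subgroupOf_map_subtype, inf_eq_left.2 hSM]
  let φ : M →* E := (π.comp M.subtype).codRestrict _ fun m => m.2
  have hφ : Function.Surjective φ := by
    rintro ⟨q, hq⟩
    obtain ⟨g, rfl⟩ := hπ q
    exact ⟨⟨g, hq⟩, rfl⟩
  have hmap : R0.map π = E := by
    refine le_antisymm ?_ fun q hq => ?_
    · rintro _ ⟨_, ⟨m, -, rfl⟩, rfl⟩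
      exact m.2
    · obtain ⟨m, hm, hmq⟩ : (⟨q, hq⟩ : E) ∈ (R : Subgroup M).map φ := by
        rw [sylow_map_eq_top R hφ hE]; exact mem_top _
      exact ⟨m, ⟨m, hm, rfl⟩, congrArg Subtype.val hmq⟩
  refine ⟨R0, R.isPGroup'.map _, hmap, hmax, ?_⟩
  obtain ⟨g, rfl⟩ := hπ b
  have hgM : g ∈ normalizer (M : Set G) := by
    refine mem_normalizer_iff.2 fun x => ?_
    rw [hM, mem_comap, mem_comap, map_mul, map_mul, map_inv]
    exact mem_normalizer_iff.1 hb (π x)
  have hsub : R0.map (MulAut.conj g).toMonoidHom ≤ M := by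
    rintro _ ⟨x, ⟨m, -, rfl⟩, rfl⟩
    exact (mem_normalizer_iff.1 hgM m).1 m.2
  obtain ⟨R1, hR1⟩ := ((R.isPGroup'.map M.subtype).map (MulAut.conj g).toMonoidHom).comap_subtype
    (K := M) |>.exists_le_sylow
  obtain ⟨m, hm⟩ := MulAction.exists_smul_eq M R1 R
  have hmg : (m : G) * g ∈ normalizer (R0 : Set G) := by
    have hone : ∀ x ∈ R0, (m : G) * g * x * ((m : G) * g)⁻¹ ∈ R0 := by
      intro x hx
      have hxM : g * x * g⁻¹ ∈ M := hsub ⟨x, hx, rfl⟩
      have h1 : (⟨g * x * g⁻¹, hxM⟩ : M) ∈ (R1 : Subgroup M) :=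
        hR1 (mem_subgroupOf.2 ⟨x, hx, rfl⟩)
      have h2 := Subgroup.smul_mem_pointwise_smul _ (MulAut.conj m) _ h1
      rw [← Sylow.pointwise_smul_def, ← Sylow.smul_def, hm] at h2
      refine ⟨_, h2, ?_⟩
      show (m : G) * (g * x * g⁻¹) * (m : G)⁻¹ = (m : G) * g * x * ((m : G) * g)⁻¹
      group
    refine mem_normalizer_iff.2 fun x => ⟨hone x, fun hx => ?_⟩
    exact H65.mem_of_conj_mem_set (S := (R0 : Set G)) hone hx
  obtain ⟨s, hs, hsm⟩ : π m ∈ R0.map π := by rw [hmap]; exact m.2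
  exact ⟨s⁻¹ * (m * g), mul_mem (inv_mem (le_normalizer hs)) hmg, by
    rw [map_mul, map_mul, map_inv, hsm, inv_mul_cancel_left]⟩

/-- Solvability under the condition, given solvability of groups of odd order. -/
theorem solvable_of_cond.{u} (hFT : AutFixSylow.OddOrderSolvable.{u}) (k n : ℕ) :
    ∀ (G : Type u) [Group G] [Finite G], Nat.card G = n → Cond k G → Group.IsSolvable G := by
  induction n using Nat.strong_induction_on with
  | _ n ih =>
  intro G _ _ hn hG
  classical
  haveI : Fact (Nat.Prime 2) := ⟨Nat.prime_two⟩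
  by_contra hns
  haveI : Nontrivial G := not_subsingleton_iff_nontrivial.1 fun _ => hns inferInstance
  -- proper subgroups are soluble
  have hprop : ∀ H : Subgroup G, H ≠ ⊤ → Group.IsSolvable H := by
    intro H hH
    refine ih (Nat.card H) ?_ H rfl (hG.subgroup H)
    rw [← hn]
    exact lt_of_le_of_ne (card_le_card_group H) fun e => hH (eq_top_of_card_eq H e)
  obtain ⟨N, ⟨hNn, hNtop⟩, hNmax⟩ := (wellFounded_gt (α := Subgroup G)).has_min
    {N : Subgroup G | N.Normal ∧ N ≠ ⊤} ⟨⊥, inferInstance, bot_ne_top⟩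
  haveI := hNn
  haveI hNsol := hprop N hNtop
  set π := QuotientGroup.mk' N with hπ
  have hπs : Function.Surjective π := QuotientGroup.mk'_surjective N
  have hQns : ¬ Group.IsSolvable (G ⧸ N) := fun h => hns
    (Group.isSolvable_of_ker_le_range N.subtype π (by rw [hπ, QuotientGroup.ker_mk', range_subtype]))
  haveI : Nontrivial (G ⧸ N) := QuotientGroup.nontrivial_iff.2 hNtop
  haveI : IsSimpleGroup (G ⧸ N) := ⟨fun K hK => by
    haveI := hK
    by_cases h : K.comap π = ⊤
    · right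
      rw [← map_comap_eq_self_of_surjective hπs K, h, map_top_of_surjective _ hπs]
    · left
      have hle : N ≤ K.comap π := fun x hx => by
        rw [mem_comap, hπ, QuotientGroup.mk'_apply, (QuotientGroup.eq_one_iff x).2 hx]
        exact one_mem _
      have he : N = K.comap π := hle.eq_or_lt.resolve_right fun hlt =>
        hNmax _ ⟨inferInstance, h⟩ hlt
      rw [← map_comap_eq_self_of_surjective hπs K, ← he, hπ, Subgroup.map_eq_bot_iff,
        QuotientGroup.ker_mk']⟩
  have hna : ¬ IsMulCommutative (G ⧸ N) := fun h =>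
    hQns (Group.isSolvable_of_comm fun a b => h.is_comm.comm a b)
  have heven : 2 ∣ Nat.card (G ⧸ N) := by
    by_contra h
    exact hQns (hFT _ (Nat.odd_iff.2 (Nat.two_dvd_ne_zero.1 h)))
  -- a value mapping to an involution
  obtain ⟨E, hE2, b, hb, hbodd, u, hu, hbu⟩ := InvolutionAutomizer.exists_action hna heven
  have hEp : IsPGroup 2 E := fun e => ⟨1, Subtype.ext (by
    rw [pow_one, SubgroupClass.coe_pow, pow_two, hE2 _ e.2]; rfl)⟩
  obtain ⟨T, hTp, hTE, -, b', hb', rfl⟩ := exists_lifts hπs E hEp hb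
  obtain ⟨u', hu', rfl⟩ : u ∈ T.map π := by rw [hTE]; exact hu
  set y := it b' u' k with hy
  have hyT : y ∈ T := it_mem hb' hu' k
  have hyv : IsVal k y := isVal_it _ _ _
  have hyE : π y ∈ E := hTE ▸ mem_map_of_mem π hyT
  have hy1 : π y ≠ 1 := by
    rw [hy, map_it]
    refine it_ne_one hb hu ?_ (fun h => hbu h.symm) k
    obtain ⟨c, hc⟩ := IsPGroup.iff_card.1 hEp
    rw [hc]
    exact (Nat.coprime_two_left.2 hbodd).pow_left c
  have hy2 : orderOf (π y) = 2 := orderOf_eq_prime (by rw [pow_two, hE2 _ hyE]) hy1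
  obtain ⟨iy, hiy⟩ : ∃ i : ℕ, orderOf y ∣ 2 ^ i := (hTp ⟨y, hyT⟩).imp fun i hi =>
    orderOf_dvd_of_pow_eq_one (congrArg Subtype.val hi :)
  -- an element of odd prime order inverted by it
  have hcore : Cfsg.pCore 2 (G ⧸ N) = ⊥ := by
    haveI := H1.pCore_normal' 2 (G ⧸ N)
    refine ((inferInstance : (Cfsg.pCore 2 (G ⧸ N)).Normal).eq_bot_or_eq_top).resolve_right fun h => ?_
    apply hQns
    haveI : Group.IsNilpotent (G ⧸ N) :=
      ((h ▸ H1.isPGroup_pCore 2 (G ⧸ N)).of_equiv Subgroup.topEquiv).isNilpotent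
    infer_instance
  obtain ⟨g, hg⟩ : ∃ g : G ⧸ N, ¬ IsPGroup 2 ↥(closure ({π y, g * π y * g⁻¹} : Set (G ⧸ N))) := by
    by_contra hall
    push Not at hall
    exact hy1 (mem_bot.1 (hcore ▸ H65.mem_pCore_of_pairs hall))
  set z := g * π y * g⁻¹ with hz
  have hz2 : orderOf z = 2 := by rw [hz]; exact H65.two_conj hy2 g
  obtain ⟨r, hr, hr2, hrd⟩ : ∃ r : ℕ, r.Prime ∧ r ≠ 2 ∧ r ∣ orderOf (π y * z) := by
    by_contra hno
    push Not at hno
    apply hg
    obtain ⟨i, hi⟩ : ∃ i, orderOf (π y * z) = 2 ^ i :=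
      ⟨_, Nat.eq_prime_pow_of_unique_prime_dvd (orderOf_pos _).ne' fun {d} hd hdd => by
        by_contra hne; exact hno d hd hne hdd⟩
    have hnorm : zpowers (π y) ≤
        normalizer ((zpowers (π y * z) : Subgroup (G ⧸ N)) : Set (G ⧸ N)) := by
      rw [zpowers_le]
      have hone : ∀ x ∈ zpowers (π y * z), π y * x * (π y)⁻¹ ∈ zpowers (π y * z) := by
        rintro x ⟨j, rfl⟩
        exact ⟨-j, (H65.conj_prod_zpow hy2 hz2 j).symm⟩
      exact mem_normalizer_iff.2 fun x =>
        ⟨hone x, fun hx => H65.mem_of_conj_mem_set (S := ((zpowers (π y * z) : Subgroup (G ⧸ N)) :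
          Set (G ⧸ N))) hone hx⟩
    have hp : IsPGroup 2 ↥(zpowers (π y * z) ⊔ zpowers (π y)) :=
      IsPGroup.to_sup_of_normal_left' (IsPGroup.of_card (n := i) (by rw [Nat.card_zpowers, hi]))
        (IsPGroup.of_card (n := 1) (by rw [Nat.card_zpowers, hy2, pow_one])) hnorm
    refine hp.to_le ((closure_le _).2 ?_)
    rintro w (rfl | rfl)
    · exact le_sup_right (α := Subgroup (G ⧸ N)) (mem_zpowers _)
    · have h1 : π y * z ∈ zpowers (π y * z) ⊔ zpowers (π y) :=
        le_sup_left (α := Subgroup (G ⧸ N)) (mem_zpowers _)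
      have h2 : π y ∈ zpowers (π y * z) ⊔ zpowers (π y) :=
        le_sup_right (α := Subgroup (G ⧸ N)) (mem_zpowers _)
      have := mul_mem (inv_mem h2) h1
      rwa [inv_mul_cancel_left] at this
  haveI : Fact r.Prime := ⟨hr⟩
  obtain ⟨q, hq⟩ := hrd
  set xb := (π y * z) ^ q with hxb
  have hq0 : 0 < q := by
    rcases Nat.eq_zero_or_pos q with rfl | h
    · rw [mul_zero] at hq; exact absurd hq (orderOf_pos _).ne'
    · exact h
  have hxo : orderOf xb = r := by
    rw [hxb, orderOf_pow, hq, Nat.gcd_eq_right (dvd_mul_left _ _), Nat.mul_div_cancel _ hq0]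
  have hxinv : π y * xb * (π y)⁻¹ = xb⁻¹ := by
    rw [hxb, ← conj_pow, H65.conj_prod hy2 hz2, inv_pow]
  have hxne : ¬ Commute xb (π y) := by
    intro h
    rw [← h.eq, mul_inv_cancel_right] at hxinv
    have h2 : xb ^ 2 = 1 := by rw [pow_two]; nth_rewrite 2 [hxinv]; exact mul_inv_cancel xb
    exact hr2 ((Nat.prime_dvd_prime_iff_eq hr Nat.prime_two).1 (hxo ▸ orderOf_dvd_of_pow_eq_one h2))
  have hynorm : π y ∈ normalizer ((zpowers xb : Subgroup (G ⧸ N)) : Set (G ⧸ N)) := by
    have hone : ∀ x ∈ zpowers xb, π y * x * (π y)⁻¹ ∈ zpowers xb := by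
      rintro x ⟨j, rfl⟩
      exact ⟨-j, by simp only; rw [← conj_zpow, hxinv, inv_zpow, zpow_neg]⟩
    exact mem_normalizer_iff.2 fun x =>
      ⟨hone x, fun hx => H65.mem_of_conj_mem_set (S := ((zpowers xb : Subgroup (G ⧸ N)) :
        Set (G ⧸ N))) hone hx⟩
  -- a value of `r`-power order outside `N`
  obtain ⟨R, hRp, hRmap, hRmax, c, hc, hcy⟩ := exists_lifts hπs (zpowers xb)
    (IsPGroup.of_card (n := 1) (by rw [Nat.card_zpowers, hxo, pow_one])) hynorm
  obtain ⟨x0, hx0, hx0e⟩ : xb ∈ R.map π := by rw [hRmap]; exact mem_zpowers _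
  set w := it c x0 k with hw
  have hwR : w ∈ R := it_mem hc hx0 k
  have hwv : IsVal k w := isVal_it _ _ _
  have hw1 : π w ≠ 1 := by
    rw [hw, map_it, hcy, hx0e]
    refine it_ne_one hynorm (mem_zpowers _) ?_ hxne k
    rw [Nat.card_zpowers, hxo, hy2]
    exact (Nat.coprime_primes hr Nat.prime_two).2 hr2
  obtain ⟨iw, hiw⟩ : ∃ i : ℕ, orderOf w ∣ r ^ i := (hRp ⟨w, hwR⟩).imp fun i hi =>
    orderOf_dvd_of_pow_eq_one (congrArg Subtype.val hi :)
  -- the cores are central
  have hcen : ∀ t : Nat.Primes, Cfsg.pCore (t : ℕ) G ≤ center G := by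
    intro t
    haveI : Fact (t : ℕ).Prime := ⟨t.2⟩
    haveI := H1.pCore_normal' (t : ℕ) G
    set C := centralizer (Cfsg.pCore (t : ℕ) G : Set G) with hC
    obtain ⟨v, hv1, s, hs, hst, iv, hiv, hvv⟩ : ∃ v : G, π v ≠ 1 ∧ ∃ s : ℕ, s.Prime ∧ s ≠ (t : ℕ) ∧
        ∃ i : ℕ, orderOf v ∣ s ^ i ∧ IsVal k v := by
      by_cases ht : (t : ℕ) = 2
      · exact ⟨w, hw1, r, hr, ht ▸ hr2, iw, hiw, hwv⟩
      · exact ⟨y, hy1, 2, Nat.prime_two, Ne.symm ht, iy, hiy, hyv⟩
    have hvC : v ∈ C := by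
      refine mem_centralizer_iff.2 fun f hf => (commute_of_coprime hG hvv
        (by rw [Subgroup.normalizer_eq_top_iff.2 ‹_›]; exact mem_top _) ?_ hf).eq
      obtain ⟨e, he⟩ := IsPGroup.iff_card.1 (H1.isPGroup_pCore (t : ℕ) G)
      rw [he]
      exact (((Nat.coprime_primes t.2 hs).2 (Ne.symm hst)).pow _ _).coprime_dvd_right hiv
    haveI : C.Normal := by
      constructor
      intro a ha g'
      rw [hC, mem_centralizer_iff] at ha ⊢
      intro d hd
      have := congrArg (fun z => g' * z * g'⁻¹) (ha _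
        (show g'⁻¹ * d * g' ∈ Cfsg.pCore (t : ℕ) G by
          simpa using (H1.pCore_normal' (t : ℕ) G).conj_mem d hd g'⁻¹))
      simpa [mul_assoc] using this
    have htop : C = ⊤ := by
      by_contra hne
      haveI := hprop C hne
      have hsup : C ⊔ N = ⊤ := by
        by_contra hne'
        have hle : N = C ⊔ N := (le_sup_right (α := Subgroup G)).eq_or_lt.resolve_right fun hlt =>
          hNmax _ ⟨inferInstance, hne'⟩ hlt
        apply hv1
        rw [hπ, QuotientGroup.mk'_apply, QuotientGroup.eq_one_iff, hle]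
        exact le_sup_left (α := Subgroup G) hvC
      apply hQns
      refine Group.isSolvable_of_surjective (f := π.comp C.subtype) fun q => ?_
      obtain ⟨g', rfl⟩ := hπs q
      have hg' : g' ∈ C ⊔ N := by rw [hsup]; exact mem_top _
      rw [← SetLike.mem_coe, Subgroup.mul_normal] at hg'
      obtain ⟨a, ha, d, hd, rfl⟩ := hg'
      exact ⟨⟨a, ha⟩, by
        rw [map_mul, show π d = 1 from (QuotientGroup.eq_one_iff d).2 hd, mul_one]
        rfl⟩
    rw [hC, centralizer_eq_top_iff_subset] at htop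
    exact htop
  have hNcen : N ≤ center G := by
    have hFN : ∀ f ∈ Cfsg.fittingSubgroup N, (f : G) ∈ center G := by
      have hle : Cfsg.fittingSubgroup N ≤ (center G).subgroupOf N := by
        rw [H1.fittingSubgroup_eq_iSup_pCore]
        refine iSup_le fun t f hf => ?_
        have h1 : (f : G) ∈ (Cfsg.pCore (t : ℕ) N).map N.subtype := ⟨f, hf, rfl⟩
        rw [H1.pCore_subgroup_map_eq] at h1
        exact mem_subgroupOf.2 (hcen t (mem_inf.1 h1).1)
      exact fun f hf => mem_subgroupOf.1 (hle hf)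
    intro a ha
    refine hFN ⟨a, ha⟩ (H1.centralizer_fitting_le_of_isSolvable (G := N) inferInstance ?_)
    exact mem_centralizer_iff.2 fun f hf =>
      Subtype.ext (mem_center_iff.1 (hFN f hf) a).symm
  -- the final contradiction
  set X := (zpowers xb).comap π with hX
  have hRX : R ≤ X := fun a ha => mem_comap.2 (hRmap ▸ mem_map_of_mem π ha)
  have hXcomm : ∀ a ∈ X, ∀ a' ∈ X, a * a' = a' * a := by
    have hgen : ∀ a ∈ X, ∃ j : ℤ, ∃ d ∈ center G, a = x0 ^ j * d := by
      intro a ha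
      obtain ⟨j, hj⟩ := mem_zpowers_iff.1 (mem_comap.1 ha)
      refine ⟨j, (x0 ^ j)⁻¹ * a, hNcen ?_, by rw [mul_inv_cancel_left]⟩
      rw [← QuotientGroup.eq_one_iff]
      show π ((x0 ^ j)⁻¹ * a) = 1
      rw [map_mul, map_inv, map_zpow, hx0e, hj, inv_mul_cancel]
    intro a ha a' ha'
    obtain ⟨j, d, hd, rfl⟩ := hgen a ha
    obtain ⟨j', d', hd', rfl⟩ := hgen a' ha'
    have c1 : Commute (x0 ^ j) (x0 ^ j') := Commute.zpow_zpow_self _ _ _
    have c2 : ∀ g : G, Commute d g := fun g => (mem_center_iff.1 hd g).symm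
    have c3 : ∀ g : G, Commute d' g := fun g => (mem_center_iff.1 hd' g).symm
    exact (((c1.mul_right (c3 _).symm)).mul_left ((c2 _).mul_right (c2 _))).eq
  have hyX : y ∈ normalizer (X : Set G) := by
    refine mem_normalizer_iff.2 fun a => ?_
    rw [hX, mem_comap, mem_comap, map_mul, map_mul, map_inv]
    exact mem_normalizer_iff.1 hynorm (π a)
  have hyR : y ∈ normalizer (R : Set G) := by
    have hR'X : R.map (MulAut.conj y).toMonoidHom ≤ X := by
      rintro _ ⟨a, ha, rfl⟩
      exact (mem_normalizer_iff.1 hyX a).1 (hRX ha)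
    have hsup : IsPGroup r ↥(R ⊔ R.map (MulAut.conj y).toMonoidHom) := by
      refine IsPGroup.to_sup_of_normal_left' hRp (hRp.map _) fun a ha => ?_
      refine mem_normalizer_iff.2 fun d => ⟨fun hd => ?_, fun hd => ?_⟩
      · rw [hXcomm a (hR'X ha) d (hRX hd), mul_inv_cancel_right]
        exact hd
      · have h1 : d = a⁻¹ * (a * d * a⁻¹) * a := by group
        rw [h1, hXcomm a⁻¹ (inv_mem (hR'X ha)) _ (hRX hd), inv_mul_cancel_right]
        exact hd
    have heq := hRmax _ hsup le_sup_left (sup_le hRX hR'X)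
    have hone : ∀ a ∈ R, y * a * y⁻¹ ∈ R := fun a ha => by
      rw [← heq]
      exact le_sup_right (α := Subgroup G) ⟨a, ha, rfl⟩
    exact mem_normalizer_iff.2 fun a => ⟨hone a, fun ha =>
      H65.mem_of_conj_mem_set (S := (R : Set G)) hone ha⟩
  have hcopR : (Nat.card R).Coprime (orderOf y) := by
    obtain ⟨e, he⟩ := IsPGroup.iff_card.1 hRp
    rw [he]
    exact (((Nat.coprime_primes hr Nat.prime_two).2 hr2).pow _ _).coprime_dvd_right hiy
  have hcomm := commute_of_coprime hG hyv hyR hcopR hx0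
  exact hxne (hx0e ▸ hcomm.map π)

end H3.ValueCoprime

namespace H3.ValueCoprime

open scoped commutatorElement

theorem isVal_iff_foldl {G : Type*} [Group G] : ∀ {k : ℕ} {x : G}, IsVal k x ↔
    ∃ (a : G) (l : List G), l.length = k ∧ x = l.foldl (fun a b => a * b * a⁻¹ * b⁻¹) a := by
  intro k
  induction k with
  | zero =>
    intro x
    exact ⟨fun _ => ⟨x, [], rfl, rfl⟩, fun _ => trivial⟩
  | succ k ih =>
    intro x
    constructor
    · rintro ⟨a, b, ha, rfl⟩
      obtain ⟨a', l, hl, rfl⟩ := ih.1 ha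
      exact ⟨a', l ++ [b], by simp [hl], by simp [commutatorElement_def]⟩
    · rintro ⟨a, l, hl, rfl⟩
      rcases List.eq_nil_or_concat l with rfl | ⟨l', b, rfl⟩
      · simp at hl
      · refine ⟨l'.foldl (fun a b => a * b * a⁻¹ * b⁻¹) a, b, ih.2 ⟨a, l', ?_, rfl⟩, ?_⟩
        · simpa using hl
        · simp [commutatorElement_def]

theorem isVal_iff_ofFn {G : Type*} [Group G] {k : ℕ} {x : G} : IsVal k x ↔
    ∃ f : Fin (k + 1) → G, x = ((List.ofFn f).tail).foldl (fun a b => a * b * a⁻¹ * b⁻¹) (f 0) := by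
  rw [isVal_iff_foldl]
  constructor
  · rintro ⟨a, l, rfl, rfl⟩
    exact ⟨Fin.cons a l.get, by rw [List.ofFn_succ, List.tail_cons]; simp⟩
  · rintro ⟨f, rfl⟩
    exact ⟨f 0, (List.ofFn f).tail, by simp, rfl⟩

open Subgroup in
/-- The criterion, given solvability of groups of odd order. -/
theorem lcs_nilpotent_iff.{u} (hFT : AutFixSylow.OddOrderSolvable.{u}) {G : Type u} [Group G]
    [Finite G] (k : ℕ) :
    Group.IsNilpotent ↥((⊤ : Subgroup G).lowerCentralSeries k) ↔ Cond k G := by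
  constructor
  · intro hK x y hx hy hcop
    refine Or.inr (le_of_eq (Eq.symm ?_))
    have h := H81.commute_of_coprime_orderOf hK (x := (⟨x, isVal_mem_lcs hx⟩ : ↥((⊤ : Subgroup G).lowerCentralSeries k)))
      (y := ⟨y, isVal_mem_lcs hy⟩) (by rwa [Subgroup.orderOf_mk, Subgroup.orderOf_mk])
    exact Commute.orderOf_mul_eq_mul_orderOf_of_coprime (congrArg Subtype.val h) hcop
  · intro h
    haveI := solvable_of_cond hFT k (Nat.card G) G rfl h
    refine H1.isNilpotent_mono (H1.isNilpotent_fittingSubgroup G)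
      ((lcs_le_closure k).trans ((closure_le _).2 fun v hv => isVal_mem_fitting h hv))

end H3.ValueCoprime
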