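import Cfsg.Agent.H3.ValueCoprime
import Cfsg.Agent.H1.FPF

/-!
In a soluble group with the coprime condition on values, all values lie in the Fitting subgroup.
-/

set_option autoImplicit false
set_option linter.style.haveILetI false

namespace H3.ValueCoprime

open Subgroup
open scoped commutatorElement

variable {G : Type*} [Group G] [Finite G] {k : ℕ}

/-- Some power of a preimage of an element of prime power order is a preimage of that kind. -/
theorem exists_pow_pElement {H : Type*} [Group H] {p : ℕ} (hp : p.Prime) (f : G →* H) {g : G}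
    {a : ℕ} (hg : orderOf (f g) = p ^ a) :
    ∃ n : ℕ, f (g ^ n) = f g ∧ ∃ i : ℕ, orderOf (g ^ n) = p ^ i := by
  obtain ⟨j, m, hm, hgo⟩ := Nat.exists_eq_pow_mul_and_not_dvd (orderOf_pos g).ne' p hp.ne_one
  obtain ⟨b, hb⟩ := exists_pow_eq_self_of_coprime (x := f g) (n := m)
    (by rw [hg]; exact ((hp.coprime_iff_not_dvd).2 hm).symm.pow_right a)
  refine ⟨m * b, by rw [map_pow, pow_mul, hb], ?_⟩
  have h1 : orderOf (g ^ (m * b)) ∣ p ^ j := by
    refine orderOf_dvd_of_pow_eq_one ?_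
    rw [← pow_mul, ← orderOf_dvd_iff_pow_eq_one, hgo]
    exact ⟨b, by ring⟩
  obtain ⟨i, -, hi⟩ := (Nat.dvd_prime_pow hp).1 h1
  exact ⟨i, hi⟩

/-- In a nilpotent group every `p`-element lies in the `p`-core. -/
theorem mem_pCore_of_nilpotent [Group.IsNilpotent G] {p : ℕ} [Fact p.Prime] {x : G} {i : ℕ}
    (hx : orderOf x = p ^ i) : x ∈ Cfsg.pCore p G := by
  obtain ⟨P, hP⟩ := (IsPGroup.of_card (n := i) (by rw [Nat.card_zpowers, hx]) :
    IsPGroup p (zpowers x)).exists_le_sylow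
  haveI : (P : Subgroup G).Normal :=
    (Group.isNilpotent_of_finite_tfae.out 0 3 rfl rfl).mp ‹_› p inferInstance P
  exact H1.le_pCore P.isPGroup' (hP (mem_zpowers x))

/-- The image of a Sylow subgroup in a `p`-group is everything. -/
theorem sylow_map_eq_top {H : Type*} [Group H] {p : ℕ} [Fact p.Prime] (P : Sylow p G)
    {f : G →* H} (hf : Function.Surjective f) (hH : IsPGroup p H) :
    (P : Subgroup G).map f = ⊤ := by
  haveI : Finite H := Finite.of_surjective f hf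
  have h := (P.mapSurjective hf).is_maximal' (Q := ⊤)
    (hH.of_equiv Subgroup.topEquiv.symm) le_top
  exact h.symm

/-- Values lie in `F(G)` modulo which the group is nilpotent. -/
theorem quotient_fitting_nilpotent [Group.IsSolvable G] (h : Cond k G)
    [(Cfsg.fittingSubgroup G).Normal] : Group.IsNilpotent (G ⧸ Cfsg.fittingSubgroup G) := by
  classical
  set F := Cfsg.fittingSubgroup G with hF
  set π := QuotientGroup.mk' F with hπ
  by_cases hall : ∀ (p : Nat.Primes) (b : G ⧸ F), (∃ i : ℕ, orderOf b = (p : ℕ) ^ i) →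
      ∀ r : Nat.Primes, (r : ℕ) ≠ p → ∀ f ∈ Cfsg.pCore (r : ℕ) (G ⧸ F), Commute f b
  · haveI := H1.fittingSubgroup_normal (G ⧸ F)
    by_contra hn
    set F2 := Cfsg.fittingSubgroup (G ⧸ F) with hF2
    have hne : F2 ≠ ⊤ := fun e => hn (by
      have := H1.isNilpotent_fittingSubgroup (G ⧸ F)
      rw [← hF2, e] at this
      exact Group.isNilpotent_top.1 this)
    haveI : Nontrivial ((G ⧸ F) ⧸ F2) := QuotientGroup.nontrivial_iff.2 hne
    have hne2 : Cfsg.fittingSubgroup ((G ⧸ F) ⧸ F2) ≠ ⊥ := by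
      intro e
      have h1 := H1.centralizer_fitting_le_of_isSolvable (G := (G ⧸ F) ⧸ F2) inferInstance
      obtain ⟨x, hx⟩ := exists_ne (1 : (G ⧸ F) ⧸ F2)
      apply hx
      rw [← mem_bot, ← e]
      refine h1 (mem_centralizer_iff.2 fun y hy => ?_)
      rw [SetLike.mem_coe, e, mem_bot] at hy
      rw [hy, one_mul, mul_one]
    rw [H1.fittingSubgroup_eq_iSup_pCore, ne_eq, iSup_eq_bot, not_forall] at hne2
    obtain ⟨p, hpne⟩ := hne2
    haveI : Fact (p : ℕ).Prime := ⟨p.2⟩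
    obtain ⟨c, hc, hc1⟩ := (Subgroup.ne_bot_iff_exists_ne_one).1 hpne |>.imp fun c hc => And.intro c.2 hc
    obtain ⟨i, hi⟩ := (H1.isPGroup_pCore (p : ℕ) _) c
    have hco : orderOf (c : (G ⧸ F) ⧸ F2) ∣ (p : ℕ) ^ i :=
      orderOf_dvd_of_pow_eq_one (congrArg Subtype.val hi)
    obtain ⟨a, -, ha⟩ := (Nat.dvd_prime_pow p.2).1 hco
    obtain ⟨x, hxc, hxo⟩ := H27.exists_lift_pElement F2 ha
    haveI := H1.pCore_normal' (p : ℕ) ((G ⧸ F) ⧸ F2)
    haveI := Subgroup.Normal.comap (H := Cfsg.pCore (p : ℕ) ((G ⧸ F) ⧸ F2)) inferInstance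
      (QuotientGroup.mk' F2)
    refine hc1 (Subtype.ext ?_)
    rw [OneMemClass.coe_one, ← hxc, QuotientGroup.eq_one_iff]
    refine mem_fitting_of_centralizes (p := (p : ℕ))
      (M := (Cfsg.pCore (p : ℕ) ((G ⧸ F) ⧸ F2)).comap (QuotientGroup.mk' F2)) (fun m hm => ?_)
      (by rw [mem_comap, QuotientGroup.mk'_apply, hxc]; exact c.2)
      (fun r hr f hf => hall p x hxo r hr f hf)
    obtain ⟨j, hj⟩ := (H1.isPGroup_pCore (p : ℕ) _) ⟨_, hm⟩
    exact ⟨j, (QuotientGroup.eq_one_iff _).1 (congrArg Subtype.val hj :)⟩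
  · exfalso
    push Not at hall
    obtain ⟨p, b, ⟨a, hb⟩, r, hrp, f, hf, hne⟩ := hall
    haveI : Fact (r : ℕ).Prime := ⟨r.2⟩
    haveI := H1.pCore_normal' (r : ℕ) (G ⧸ F)
    set M := (Cfsg.pCore (r : ℕ) (G ⧸ F)).comap π with hM
    haveI : M.Normal := Subgroup.Normal.comap inferInstance π
    obtain ⟨i, hi⟩ := (H1.isPGroup_pCore (r : ℕ) _) ⟨f, hf⟩
    obtain ⟨a', -, ha'⟩ := (Nat.dvd_prime_pow r.2).1
      (orderOf_dvd_of_pow_eq_one (congrArg Subtype.val hi :) : orderOf f ∣ (r : ℕ) ^ i)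
    obtain ⟨u, huf, ⟨j, hu⟩⟩ := H27.exists_lift_pElement F ha'
    have huM : u ∈ M := by rw [hM, mem_comap, hπ, QuotientGroup.mk'_apply, huf]; exact hf
    obtain ⟨R, hR⟩ := (IsPGroup.of_card (n := j)
      (by rw [Nat.card_zpowers, ← Subgroup.orderOf_coe]; exact hu) :
      IsPGroup (r : ℕ) (zpowers (⟨u, huM⟩ : M))).exists_le_sylow
    set R0 := (R : Subgroup M).map M.subtype with hR0
    have huR0 : u ∈ R0 := ⟨⟨u, huM⟩, hR (mem_zpowers _), rfl⟩
    have hR0p : IsPGroup (r : ℕ) R0 := R.isPGroup'.map _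
    -- `R0` covers the `r`-core of the quotient
    let φ : M →* Cfsg.pCore (r : ℕ) (G ⧸ F) :=
      (π.comp M.subtype).codRestrict _ fun m => m.2
    have hφ : Function.Surjective φ := by
      rintro ⟨q, hq⟩
      obtain ⟨g, rfl⟩ := QuotientGroup.mk'_surjective F q
      exact ⟨⟨g, hq⟩, rfl⟩
    have hcov : ∀ q ∈ Cfsg.pCore (r : ℕ) (G ⧸ F), q ∈ R0.map π := by
      intro q hq
      obtain ⟨m, hm, hmq⟩ : (⟨q, hq⟩ : Cfsg.pCore (r : ℕ) (G ⧸ F)) ∈ (R : Subgroup M).map φ := by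
        rw [sylow_map_eq_top R hφ (H1.isPGroup_pCore _ _)]; exact mem_top _
      exact ⟨m, ⟨m, hm, rfl⟩, congrArg Subtype.val hmq⟩
    have hsurj : ∀ q : G ⧸ F, ∃ n ∈ normalizer (R0 : Set G), π n = q := by
      intro q
      obtain ⟨g, rfl⟩ := QuotientGroup.mk'_surjective F q
      have hg : g ∈ normalizer (R0 : Set G) ⊔ M := by
        rw [hR0, Sylow.normalizer_sup_eq_top R]; exact mem_top _
      rw [← SetLike.mem_coe, Subgroup.mul_normal] at hg
      obtain ⟨n, hn, m, hm, rfl⟩ := hg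
      obtain ⟨s, hs, hsm⟩ := hcov (π m) hm
      exact ⟨n * s, mul_mem hn (le_normalizer hs), by rw [map_mul, map_mul, hsm]⟩
    obtain ⟨n, hn, rfl⟩ := hsurj b
    obtain ⟨e, he, i', hi'⟩ := exists_pow_pElement p.2 π hb
    set y := it (n ^ e) u k with hy
    have hyR0 : y ∈ R0 := it_mem (pow_mem hn e) huR0 k
    have hyv : IsVal k y := isVal_it _ _ _
    have hy1 : π y ≠ 1 := by
      rw [hy, map_it, he]
      have hfu : π u = f := huf
      rw [hfu]
      refine it_ne_one (N := Cfsg.pCore (r : ℕ) (G ⧸ F))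
        (by rw [Subgroup.normalizer_eq_top_iff.2 ‹_›]; exact mem_top _) hf ?_ hne k
      obtain ⟨c, hc⟩ := IsPGroup.iff_card.1 (H1.isPGroup_pCore (r : ℕ) (G ⧸ F))
      rw [hc, hb]
      exact ((Nat.coprime_primes r.2 p.2).2 hrp).pow _ _
    apply hy1
    rw [hπ, QuotientGroup.mk'_apply, QuotientGroup.eq_one_iff]
    refine mem_fitting_of_centralizes (p := (r : ℕ)) (M := M) (fun m hm => ?_)
      (Subgroup.map_subtype_le _ hyR0) (fun t ht f' hf' => ?_)
    · obtain ⟨j', hj'⟩ := (H1.isPGroup_pCore (r : ℕ) _) ⟨_, hm⟩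
      exact ⟨j', (QuotientGroup.eq_one_iff _).1 (congrArg Subtype.val hj' :)⟩
    · haveI : Fact (t : ℕ).Prime := ⟨t.2⟩
      haveI := H1.pCore_normal' (t : ℕ) G
      refine commute_of_coprime h hyv
        (by rw [Subgroup.normalizer_eq_top_iff.2 ‹_›]; exact mem_top _) ?_ hf'
      obtain ⟨c, hc⟩ := IsPGroup.iff_card.1 (H1.isPGroup_pCore (t : ℕ) G)
      obtain ⟨d, hd⟩ := hR0p ⟨y, hyR0⟩
      rw [hc]
      exact Nat.Coprime.coprime_dvd_right
        (orderOf_dvd_of_pow_eq_one (congrArg Subtype.val hd :))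
        (((Nat.coprime_primes t.2 r.2).2 ht).pow _ _)

/-- In the soluble case all values lie in the Fitting subgroup. -/
theorem isVal_mem_fitting [Group.IsSolvable G] (h : Cond k G) {v : G} (hv : IsVal k v) :
    v ∈ Cfsg.fittingSubgroup G := by
  classical
  haveI := H1.fittingSubgroup_normal G
  set F := Cfsg.fittingSubgroup G with hF
  haveI := quotient_fitting_nilpotent h
  set π := QuotientGroup.mk' F with hπ
  have key : ∀ p : ℕ, p.Prime → (orderOf (π v)).Coprime p := by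
    intro p hp
    haveI : Fact p.Prime := ⟨hp⟩
    have hc := H1.hasNormalPComplement_of_nilpotent p (inferInstance : Group.IsNilpotent (G ⧸ F))
    refine (H5.mem_pResidual_iff hc).1 ?_
    set ψ := (QuotientGroup.mk' (Cfsg.pResidual p (G ⧸ F))).comp π with hψ
    have hψs : Function.Surjective ψ :=
      (QuotientGroup.mk'_surjective _).comp (QuotientGroup.mk'_surjective F)
    have hpg : IsPGroup p ((G ⧸ F) ⧸ Cfsg.pResidual p (G ⧸ F)) := by
      obtain ⟨e, he⟩ := H5.exists_index_pResidual_eq (G := G ⧸ F) (p := p)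
      exact IsPGroup.of_card (n := e) he
    obtain ⟨P⟩ : Nonempty (Sylow p G) := inferInstance
    have hP : ∀ g : G, ∃ w ∈ (P : Subgroup G), ψ w = ψ g := fun g =>
      (show ψ g ∈ (P : Subgroup G).map ψ by rw [sylow_map_eq_top P hψs hpg]; exact mem_top _)
    have hlift : ∀ (n : ℕ) (x : G), IsVal n x →
        ∃ w ∈ (P : Subgroup G), IsVal n w ∧ ψ w = ψ x := by
      intro n
      induction n with
      | zero => exact fun x _ => (hP x).imp fun w hw => ⟨hw.1, trivial, hw.2⟩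
      | succ n ih =>
        rintro x ⟨a, b, ha, rfl⟩
        obtain ⟨wa, hwa, hwav, hwae⟩ := ih a ha
        obtain ⟨wb, hwb, hwbe⟩ := hP b
        refine ⟨⁅wa, wb⁆, ?_, ⟨wa, wb, hwav, rfl⟩, ?_⟩
        · rw [commutatorElement_def]
          exact mul_mem (mul_mem (mul_mem hwa hwb) (inv_mem hwa)) (inv_mem hwb)
        · rw [map_commutatorElement, map_commutatorElement, hwae, hwbe]
    obtain ⟨w, hwP, hwv, hwe⟩ := hlift k v hv
    obtain ⟨i, hi⟩ := P.isPGroup' ⟨w, hwP⟩
    obtain ⟨a, -, ha⟩ := (Nat.dvd_prime_pow hp).1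
      (orderOf_dvd_of_pow_eq_one (congrArg Subtype.val hi :) : orderOf w ∣ p ^ i)
    have hwF : w ∈ F := by
      haveI := H1.pCore_normal' p (G ⧸ F)
      haveI := Subgroup.Normal.comap (H := Cfsg.pCore p (G ⧸ F)) inferInstance π
      refine mem_fitting_of_centralizes (p := p) (M := (Cfsg.pCore p (G ⧸ F)).comap π)
        (fun m hm => ?_) ?_ (fun r hr f hf => ?_)
      · obtain ⟨j, hj⟩ := (H1.isPGroup_pCore p _) ⟨_, hm⟩
        exact ⟨j, (QuotientGroup.eq_one_iff _).1 (congrArg Subtype.val hj :)⟩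
      · obtain ⟨i', -, hi'⟩ := (Nat.dvd_prime_pow hp).1 (ha ▸ orderOf_map_dvd π w)
        exact mem_pCore_of_nilpotent hi'
      · haveI : Fact (r : ℕ).Prime := ⟨r.2⟩
        haveI := H1.pCore_normal' (r : ℕ) G
        refine commute_of_coprime h hwv
          (by rw [Subgroup.normalizer_eq_top_iff.2 ‹_›]; exact mem_top _) ?_ hf
        obtain ⟨c, hc⟩ := IsPGroup.iff_card.1 (H1.isPGroup_pCore (r : ℕ) G)
        rw [hc, ha]
        exact ((Nat.coprime_primes r.2 hp).2 hr).pow _ _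
    have h1 : ψ v = 1 := by
      rw [← hwe, hψ, MonoidHom.comp_apply]
      rw [show π w = 1 from (QuotientGroup.eq_one_iff w).2 hwF, map_one]
    exact (QuotientGroup.eq_one_iff _).1 h1
  rw [← QuotientGroup.eq_one_iff, ← orderOf_eq_one_iff]
  by_contra hne
  obtain ⟨p, hp, hd⟩ := Nat.exists_prime_and_dvd hne
  exact hp.not_dvd_one (Nat.eq_one_of_dvd_coprimes (key p hp) hd dvd_rfl ▸ dvd_rfl)

end H3.ValueCoprime
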